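/-
Vectors of a tensor product as functions on pairs, contractions, pure tensors, and the
elements acting on one factor.
-/
import Cfsg.Agent.Lib.FieldMax.Setup

set_option autoImplicit false
set_option linter.unusedSectionVars false

namespace Cfsg.Agent.TensorMax

open scoped Matrix
open Matrix Cfsg.Agent.Transvec

variable {α β : Type} [Fintype α] [DecidableEq α] [Fintype β] [DecidableEq β] {F : Type*} [Field F]

/-- The pure tensor of two vectors. -/
def ten (u : α → F) (w : β → F) : α × β → F := fun p => u p.1 * w p.2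

theorem ten_apply (u : α → F) (w : β → F) (i : α) (k : β) : ten u w (i, k) = u i * w k := rfl

theorem ten_add_left (u u' : α → F) (w : β → F) : ten (u + u') w = ten u w + ten u' w :=
  funext fun p => add_mul _ _ _

theorem ten_add_right (u : α → F) (w w' : β → F) : ten u (w + w') = ten u w + ten u w' :=
  funext fun p => mul_add _ _ _

theorem ten_smul_left (a : F) (u : α → F) (w : β → F) : ten (a • u) w = a • ten u w :=
  funext fun p => mul_assoc _ _ _

theorem ten_smul_right (a : F) (u : α → F) (w : β → F) : ten u (a • w) = a • ten u w :=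
  funext fun p => by simp [ten]; ring

theorem ten_sub_left (u u' : α → F) (w : β → F) : ten (u - u') w = ten u w - ten u' w :=
  funext fun p => sub_mul _ _ _

theorem ten_neg_left (u : α → F) (w : β → F) : ten (-u) w = -ten u w :=
  funext fun p => neg_mul _ _

theorem ten_zero_left (w : β → F) : ten (0 : α → F) w = 0 := funext fun p => zero_mul _

theorem ten_zero_right (u : α → F) : ten u (0 : β → F) = 0 := funext fun p => mul_zero _

/-- The map u ↦ u ⊗ c. -/
def rho (c : β → F) : (α → F) →ₗ[F] α × β → F where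
  toFun u := ten u c
  map_add' u u' := ten_add_left u u' c
  map_smul' a u := ten_smul_left a u c

@[simp] theorem rho_apply (c : β → F) (u : α → F) : rho c u = ten u c := rfl

/-- Contraction of the second factor. -/
def ctr (φ : β → F) : (α × β → F) →ₗ[F] α → F where
  toFun x i := ∑ k, x (i, k) * φ k
  map_add' x y := funext fun i => by simp [add_mul, Finset.sum_add_distrib]
  map_smul' a x := funext fun i => by simp [Finset.mul_sum, mul_assoc]

/-- Contraction of the first factor. -/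
def ctrL (ψ : α → F) : (α × β → F) →ₗ[F] β → F where
  toFun x k := ∑ i, ψ i * x (i, k)
  map_add' x y := funext fun k => by simp [mul_add, Finset.sum_add_distrib]
  map_smul' a x := funext fun k => by simp [Finset.mul_sum, mul_left_comm]

theorem ctr_apply (φ : β → F) (x : α × β → F) (i : α) : ctr φ x i = ∑ k, x (i, k) * φ k := rfl

theorem ctr_ten (φ : β → F) (u : α → F) (w : β → F) : ctr φ (ten u w) = (φ ⬝ᵥ w) • u := by
  funext i
  simp only [ctr_apply, ten_apply, dotProduct, Pi.smul_apply, smul_eq_mul, Finset.sum_mul]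
  exact Finset.sum_congr rfl fun k _ => by ring

theorem ctrL_ten (ψ : α → F) (u : α → F) (w : β → F) : ctrL ψ (ten u w) = (ψ ⬝ᵥ u) • w := by
  funext k
  show ∑ i, ψ i * (u i * w k) = _
  simp only [dotProduct, Pi.smul_apply, smul_eq_mul, Finset.sum_mul]
  exact Finset.sum_congr rfl fun i _ => by ring

theorem dot_ctrL (φ : β → F) (ψ : α → F) (x : α × β → F) :
    φ ⬝ᵥ ctrL ψ x = ψ ⬝ᵥ ctr φ x := by
  show ∑ k, φ k * ∑ i, ψ i * x (i, k) = ∑ i, ψ i * ∑ k, x (i, k) * φ k
  simp only [Finset.mul_sum]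
  rw [Finset.sum_comm]
  exact Finset.sum_congr rfl fun i _ => Finset.sum_congr rfl fun k _ => by ring

theorem ctr_add_vec (φ φ' : β → F) : (ctr (φ + φ') : (α × β → F) →ₗ[F] α → F) = ctr φ + ctr φ' :=
  LinearMap.ext fun x => funext fun i => by simp [ctr_apply, mul_add, Finset.sum_add_distrib]

theorem ctr_smul_vec (a : F) (φ : β → F) : (ctr (a • φ) : (α × β → F) →ₗ[F] α → F) = a • ctr φ :=
  LinearMap.ext fun x => funext fun i => by
    simp [ctr_apply, Finset.mul_sum, mul_left_comm]

theorem ctr_sub_vec (φ φ' : β → F) : (ctr (φ - φ') : (α × β → F) →ₗ[F] α → F) = ctr φ - ctr φ' :=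
  LinearMap.ext fun x => funext fun i => by simp [ctr_apply, mul_sub, Finset.sum_sub_distrib]

theorem ctr_zero_vec : (ctr (0 : β → F) : (α × β → F) →ₗ[F] α → F) = 0 :=
  LinearMap.ext fun x => funext fun i => by simp [ctr_apply]

/-- A decomposition of a vector along the standard basis of the second factor. -/
theorem eq_sum_ten (x : α × β → F) : x = ∑ k, ten (fun i => x (i, k)) (Pi.single k 1) := by
  funext ⟨i, j⟩
  rw [Finset.sum_apply, Finset.sum_eq_single j]
  · simp [ten]
  · intro k _ hk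
    simp [ten, Ne.symm hk]
  · simp

/-- Linear maps agreeing on pure tensors agree. -/
theorem ext_ten {M : Type*} [AddCommGroup M] [Module F M] {f g : (α × β → F) →ₗ[F] M}
    (h : ∀ u w, f (ten u w) = g (ten u w)) : f = g :=
  LinearMap.ext fun x => by
    rw [eq_sum_ten x, map_sum, map_sum]
    exact Finset.sum_congr rfl fun k _ => h _ _

/-- A vector all of whose contractions vanish is zero. -/
theorem eq_zero_of_ctr {x : α × β → F} (h : ∀ φ : β → F, ctr φ x = 0) : x = 0 := by
  funext ⟨i, k⟩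
  have := congrFun (h (Pi.single k 1)) i
  simpa [ctr_apply, Pi.single_apply] using this

/-- A non-zero vector has a dual vector. -/
theorem exists_dot_one {κ : Type} [Fintype κ] [DecidableEq κ] {c : κ → F} (hc : c ≠ 0) :
    ∃ θ : κ → F, θ ⬝ᵥ c = 1 := by
  obtain ⟨k, hk⟩ := Function.ne_iff.1 hc
  simp only [Pi.zero_apply] at hk
  exact ⟨Pi.single k (c k)⁻¹, by simp [inv_mul_cancel₀ hk]⟩

theorem ten_ne_zero {u : α → F} {w : β → F} (hu : u ≠ 0) (hw : w ≠ 0) : ten u w ≠ 0 := by
  obtain ⟨θ, hθ⟩ := exists_dot_one hw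
  intro h
  have := congrArg (ctr θ) h
  rw [ctr_ten, hθ, one_smul, map_zero] at this
  exact hu this

/-- A vector orthogonal to given vectors with prescribed value, from linear independence. -/
theorem exists_dot {κ : Type} [Fintype κ] [DecidableEq κ] {W : Submodule F (κ → F)} {u : κ → F}
    (hu : u ∉ W) : ∃ φ : κ → F, (∀ w ∈ W, φ ⬝ᵥ w = 0) ∧ φ ⬝ᵥ u = 1 := by
  obtain ⟨f, h1, h2⟩ := exists_dual hu
  have hf : ∀ x, (fun k => f (Pi.single k 1)) ⬝ᵥ x = f x := by
    intro x
    conv_rhs => rw [pi_eq_sum_univ' x, map_sum]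
    simp [dotProduct, mul_comm]
  exact ⟨fun k => f (Pi.single k 1), fun w hw => by rw [hf, h1 w hw], by rw [hf, h2]⟩

/-- Any functional is a dot product. -/
theorem exists_vec {κ : Type} [Fintype κ] [DecidableEq κ] (f : (κ → F) →ₗ[F] F) :
    ∃ φ : κ → F, ∀ x, φ ⬝ᵥ x = f x := by
  refine ⟨fun k => f (Pi.single k 1), fun x => ?_⟩
  conv_rhs => rw [pi_eq_sum_univ' x, map_sum]
  simp [dotProduct, mul_comm]

/-- The vectors orthogonal to c. -/
def perp {κ : Type} [Fintype κ] (c : κ → F) : Submodule F (κ → F) where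
  carrier := {φ | φ ⬝ᵥ c = 0}
  add_mem' {a b} ha hb := by
    show (a + b) ⬝ᵥ c = 0
    rw [add_dotProduct, show a ⬝ᵥ c = 0 from ha, show b ⬝ᵥ c = 0 from hb, add_zero]
  zero_mem' := zero_dotProduct c
  smul_mem' a φ h := by
    show (a • φ) ⬝ᵥ c = 0
    rw [smul_dotProduct, show φ ⬝ᵥ c = 0 from h, smul_zero]

theorem mem_perp {κ : Type} [Fintype κ] {c φ : κ → F} : φ ∈ perp c ↔ φ ⬝ᵥ c = 0 := Iff.rfl

theorem finrank_perp {κ : Type} [Fintype κ] [DecidableEq κ] {c : κ → F} (hc : c ≠ 0) :
    Module.finrank F (perp c) + 1 = Fintype.card κ := by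
  let f : (κ → F) →ₗ[F] F :=
    { toFun := fun φ => φ ⬝ᵥ c
      map_add' := fun a b => add_dotProduct a b c
      map_smul' := fun a φ => smul_dotProduct a φ c }
  have hker : LinearMap.ker f = perp c := rfl
  obtain ⟨θ, hθ⟩ := exists_dot_one hc
  have hs : Function.Surjective f := fun a => ⟨a • θ, by rw [map_smul, show f θ = 1 from hθ]; simp⟩
  have := LinearMap.finrank_range_add_finrank_ker f
  rw [hker, LinearMap.range_eq_top.2 hs, finrank_top, Module.finrank_self,
    Module.finrank_fintype_fun_eq_card] at this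
  omega

/-- The line subspace U ⊗ c. -/
def line (α : Type) [Fintype α] [DecidableEq α] {β : Type} {F : Type*} [Field F] [Fintype β]
    [DecidableEq β] (c : β → F) : Submodule F (α × β → F) :=
  LinearMap.range (rho (α := α) c)

theorem mem_line {c : β → F} {x : α × β → F} : x ∈ line α c ↔ ∃ u, ten u c = x := by
  simp [line, LinearMap.mem_range]

theorem ten_mem_line (u : α → F) (c : β → F) : ten u c ∈ line α c := mem_line.2 ⟨u, rfl⟩

theorem rho_injective {c : β → F} (hc : c ≠ 0) : Function.Injective (rho (α := α) c) := by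
  rw [← LinearMap.ker_eq_bot, LinearMap.ker_eq_bot']
  intro u hu
  by_contra h
  exact ten_ne_zero h hc hu

theorem finrank_line {c : β → F} (hc : c ≠ 0) :
    Module.finrank F (line α c) = Fintype.card α := by
  rw [line, LinearMap.finrank_range_of_inj (rho_injective hc), Module.finrank_fintype_fun_eq_card]

/-- Lines are determined by any non-zero common vector. -/
theorem line_eq_of_mem {c c' : β → F} {x : α × β → F} (hx0 : x ≠ 0) (hx : x ∈ line α c)
    (hx' : x ∈ line α c') : line α c = line α c' := by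
  obtain ⟨u, rfl⟩ := mem_line.1 hx
  obtain ⟨u', hu'⟩ := mem_line.1 hx'
  have hu : u ≠ 0 := fun h => hx0 (by rw [h, ten_zero_left])
  have hc0 : c ≠ 0 := fun h => hx0 (by rw [h, ten_zero_right])
  obtain ⟨θ, hθ⟩ := exists_dot_one hu
  have e : c = (θ ⬝ᵥ u') • c' := by
    have := congrArg (ctrL θ) hu'
    rw [ctrL_ten, ctrL_ten, hθ, one_smul] at this
    exact this.symm
  have hs : θ ⬝ᵥ u' ≠ 0 := fun h => hc0 (by rw [e, h, zero_smul])
  apply le_antisymm
  · intro y hy
    obtain ⟨v, rfl⟩ := mem_line.1 hy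
    exact mem_line.2 ⟨(θ ⬝ᵥ u') • v, by rw [ten_smul_left, e, ten_smul_right]⟩
  · intro y hy
    obtain ⟨v, rfl⟩ := mem_line.1 hy
    exact mem_line.2 ⟨(θ ⬝ᵥ u')⁻¹ • v, by
      rw [ten_smul_left, e, ten_smul_right, smul_smul, inv_mul_cancel₀ hs, one_smul]⟩

/-- A vector killed by all contractions orthogonal to c lies on the line of c. -/
theorem mem_line_of_ctr {c : β → F} (hc : c ≠ 0) {x : α × β → F}
    (h : ∀ φ : β → F, φ ⬝ᵥ c = 0 → ctr φ x = 0) : x ∈ line α c := by
  obtain ⟨θ, hθ⟩ := exists_dot_one hc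
  refine mem_line.2 ⟨ctr θ x, sub_eq_zero.1 (eq_zero_of_ctr fun φ => ?_)⟩
  have := h (φ - (φ ⬝ᵥ c) • θ) (by simp [sub_dotProduct, smul_dotProduct, hθ])
  rw [ctr_sub_vec, ctr_smul_vec, LinearMap.sub_apply, LinearMap.smul_apply, sub_eq_zero] at this
  rw [map_sub, ctr_ten, this, sub_self]

theorem ctr_line {c φ : β → F} (h : φ ⬝ᵥ c = 0) {x : α × β → F} (hx : x ∈ line α c) :
    ctr φ x = 0 := by
  obtain ⟨u, rfl⟩ := mem_line.1 hx
  rw [ctr_ten, h, zero_smul]

/-! ### Elements x ↦ x + X x with X² = 0 -/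

variable {ι : Type} [Fintype ι] [DecidableEq ι]

/-- The element x ↦ x + X x. -/
noncomputable def sh (X : (ι → F) →ₗ[F] ι → F) (h : ∀ x, X (X x) = 0) : GL ι F where
  val := 1 + LinearMap.toMatrix' X
  inv := 1 - LinearMap.toMatrix' X
  val_inv := by
    have : LinearMap.toMatrix' X * LinearMap.toMatrix' X = 0 := by
      rw [← LinearMap.toMatrix'_comp, show X.comp X = 0 from LinearMap.ext h, map_zero]
    rw [mul_sub, mul_one, add_mul, one_mul, this, add_zero, add_sub_cancel_right]
  inv_val := by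
    have : LinearMap.toMatrix' X * LinearMap.toMatrix' X = 0 := by
      rw [← LinearMap.toMatrix'_comp, show X.comp X = 0 from LinearMap.ext h, map_zero]
    rw [mul_add, mul_one, sub_mul, one_mul, this, sub_zero, sub_add_cancel]

theorem mv_sh (X : (ι → F) →ₗ[F] ι → F) (h : ∀ x, X (X x) = 0) (x : ι → F) :
    mv (sh X h) x = x + X x := by
  show (1 + LinearMap.toMatrix' X) *ᵥ x = _
  rw [Matrix.add_mulVec, Matrix.one_mulVec, LinearMap.toMatrix'_mulVec]

theorem mv_sh_inv (X : (ι → F) →ₗ[F] ι → F) (h : ∀ x, X (X x) = 0) (x : ι → F) :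
    mv (sh X h)⁻¹ x = x - X x := by
  show (1 - LinearMap.toMatrix' X) *ᵥ x = _
  rw [Matrix.sub_mulVec, Matrix.one_mulVec, LinearMap.toMatrix'_mulVec]

theorem sh_pow (X : (ι → F) →ₗ[F] ι → F) (h : ∀ x, X (X x) = 0) (m : ℕ) (x : ι → F) :
    mv (sh X h ^ m) x = x + (m : F) • X x := by
  induction m with
  | zero => simp [mv_one]
  | succ m ih =>
    rw [pow_succ', mv_mul, ih, mv_sh, map_add, map_smul, h, smul_zero, add_zero, Nat.cast_succ,
      add_smul, one_smul]
    abel

theorem sh_mem_specialLinear [Fintype F] (X : (ι → F) →ₗ[F] ι → F) (h : ∀ x, X (X x) = 0) :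
    sh X h ∈ Geo.specialLinear ι F := by
  obtain ⟨p, _⟩ := CharP.exists F
  refine FieldMax.det_eq_one_of_pow_char (p := p) (ext_mv fun x => ?_)
  rw [sh_pow, mv_one, CharP.cast_eq_zero, zero_smul, add_zero]

/-- The transvection of the second factor. -/
noncomputable def tT (α : Type) [Fintype α] [DecidableEq α] (c φ : β → F) (h : φ ⬝ᵥ c = 0) :
    GL (α × β) F :=
  sh ((rho c).comp (ctr φ)) fun x => by simp [ctr_ten, h, ten_zero_left]

theorem mv_tT (c φ : β → F) (h : φ ⬝ᵥ c = 0) (x : α × β → F) :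
    mv (tT α c φ h) x = x + ten (ctr φ x) c :=
  mv_sh _ _ x

/-- The map x ↦ e ⊗ ψ(x). -/
def lam (e : α → F) : (β → F) →ₗ[F] α × β → F where
  toFun w := ten e w
  map_add' w w' := ten_add_right e w w'
  map_smul' a w := ten_smul_right a e w

@[simp] theorem lam_apply (e : α → F) (w : β → F) : lam e w = ten e w := rfl

/-- The transvection of the first factor. -/
noncomputable def uT (β : Type) [Fintype β] [DecidableEq β] (e ψ : α → F) (h : ψ ⬝ᵥ e = 0) :
    GL (α × β) F :=
  sh ((lam e).comp (ctrL ψ)) fun x => by simp [ctrL_ten, h, ten_zero_right]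

theorem mv_uT (e ψ : α → F) (h : ψ ⬝ᵥ e = 0) (x : α × β → F) :
    mv (uT β e ψ h) x = x + ten e (ctrL ψ x) :=
  mv_sh _ _ x

theorem mv_uT_inv (e ψ : α → F) (h : ψ ⬝ᵥ e = 0) (x : α × β → F) :
    mv (uT β e ψ h)⁻¹ x = x - ten e (ctrL ψ x) :=
  mv_sh_inv _ _ x

theorem mv_tT_inv (c φ : β → F) (h : φ ⬝ᵥ c = 0) (x : α × β → F) :
    mv (tT α c φ h)⁻¹ x = x - ten (ctr φ x) c :=
  mv_sh_inv _ _ x

theorem ctr_uT (e ψ : α → F) (h : ψ ⬝ᵥ e = 0) (φ : β → F) (x : α × β → F) :
    ctr φ (mv (uT β e ψ h) x) = ctr φ x + (ψ ⬝ᵥ ctr φ x) • e := by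
  rw [mv_uT, map_add, ctr_ten, dot_ctrL]

end Cfsg.Agent.TensorMax
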