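/-
Conjugates of a factor transvection which stabilise a line U ⊗ c, when the unipotent radical of
that line meets the group only in the factor transvections: they fix the line pointwise and
their residual space is again a line.
-/
import Cfsg.Agent.Lib.TensorMax.Setup

set_option autoImplicit false
set_option linter.unusedSectionVars false

namespace Cfsg.Agent.TensorMax

open scoped Matrix
open Matrix Cfsg.Agent.Transvec

variable {α β : Type} [Fintype α] [DecidableEq α] [Fintype β] [DecidableEq β] {F : Type*} [Field F]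
variable {M : Subgroup (GL (α × β) F)}

/-- Members of M centralising the flag of the line of c act as factor transvections. -/
def ScalarRad (M : Subgroup (GL (α × β) F)) : Prop :=
  ∀ c : β → F, c ≠ 0 → ∀ g ∈ M, (∀ x, mv g x - x ∈ line α c) →
    (∀ u, mv g (ten u c) = ten u c) →
      ∃ φ : β → F, φ ⬝ᵥ c = 0 ∧ ∀ x, mv g x = x + ten (ctr φ x) c

/-- The displacement of a conjugate of a factor transvection. -/
noncomputable def disp (g : GL (α × β) F) (c φ : β → F) : (α × β → F) →ₗ[F] α × β → F :=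
  (mvLin g).comp ((rho c).comp ((ctr φ).comp (mvLin g⁻¹)))

theorem disp_apply (g : GL (α × β) F) (c φ : β → F) (x : α × β → F) :
    disp g c φ x = mv g (ten (ctr φ (mv g⁻¹ x)) c) := by
  simp [disp, mv]

theorem mv_conj_tT (g : GL (α × β) F) (c φ : β → F) (h : φ ⬝ᵥ c = 0) (x : α × β → F) :
    mv (g * tT α c φ h * g⁻¹) x = x + disp g c φ x := by
  rw [mv_mul, mv_mul, mv_tT, mv_add, mv_mv_inv, disp_apply]

theorem disp_disp (g : GL (α × β) F) {c φ : β → F} (h : φ ⬝ᵥ c = 0) (x : α × β → F) :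
    disp g c φ (disp g c φ x) = 0 := by
  rw [disp_apply, disp_apply, mv_inv_mv, ctr_ten, h, zero_smul, ten_zero_left, mv_zero]

theorem ctr_surjective {φ : β → F} (hφ : φ ≠ 0) (u : α → F) :
    ∃ x : α × β → F, ctr φ x = u := by
  obtain ⟨w, hw⟩ := exists_dot_one hφ
  exact ⟨ten u w, by rw [ctr_ten, dotProduct_comm, hw, one_smul]⟩

theorem range_disp (g : GL (α × β) F) (c : β → F) {φ : β → F} (hφ : φ ≠ 0) :
    LinearMap.range (disp g c φ) = (line α c).map (mvLin g) := by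
  apply le_antisymm
  · rintro _ ⟨x, rfl⟩
    exact ⟨ten (ctr φ (mv g⁻¹ x)) c, ten_mem_line _ _, by simp [disp_apply]⟩
  · rintro _ ⟨y, hy, rfl⟩
    obtain ⟨u, rfl⟩ := mem_line.1 hy
    obtain ⟨x, hx⟩ := ctr_surjective (α := α) hφ u
    exact ⟨mv g x, by rw [disp_apply, mv_inv_mv, hx]; simp⟩

theorem finrank_map_mv (g : GL (α × β) F) (S : Submodule F (α × β → F)) :
    Module.finrank F (S.map (mvLin g)) = Module.finrank F S := by
  refine (LinearEquiv.finrank_eq (Submodule.equivMapOfInjective (mvLin g) ?_ S)).symm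
  exact fun x y hxy => mv_inj g (by simpa using hxy)

/-- Two independent contraction identities are impossible on a space of dimension |α|. -/
theorem dep_of_two [Nonempty α] {X : (α × β → F) →ₗ[F] α × β → F}
    (hrank : Module.finrank F (LinearMap.range X) ≤ Fintype.card α)
    (A₁ A₂ : (α × β → F) →ₗ[F] α → F) (d₁ d₂ : β → F) (hd₁ : d₁ ≠ 0)
    (h₁ : ∀ x, A₁ (X x) = ctr d₁ x) (h₂ : ∀ x, A₂ (X x) = ctr d₂ x) :
    ∃ s : F, d₂ = s • d₁ := by
  by_contra hne
  push Not at hne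
  have hn2 : d₂ ∉ Submodule.span F {d₁} := fun hm => by
    obtain ⟨s, hs⟩ := Submodule.mem_span_singleton.1 hm
    exact hne s hs.symm
  have hn1 : d₁ ∉ Submodule.span F {d₂} := fun hm => by
    obtain ⟨s, hs⟩ := Submodule.mem_span_singleton.1 hm
    have hs0 : s ≠ 0 := fun h => hd₁ (by rw [← hs, h, zero_smul])
    exact hne s⁻¹ (by rw [← hs, smul_smul, inv_mul_cancel₀ hs0, one_smul])
  obtain ⟨w₂, hw21, hw22⟩ := exists_dot hn2
  obtain ⟨w₁, hw12, hw11⟩ := exists_dot hn1
  have e21 : d₁ ⬝ᵥ w₂ = 0 := by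
    rw [dotProduct_comm]; exact hw21 _ (Submodule.mem_span_singleton_self _)
  have e12 : d₂ ⬝ᵥ w₁ = 0 := by
    rw [dotProduct_comm]; exact hw12 _ (Submodule.mem_span_singleton_self _)
  have hsurj : Function.Surjective ((A₁.prod A₂).comp (LinearMap.range X).subtype) := by
    rintro ⟨u₁, u₂⟩
    refine ⟨⟨X (ten u₁ w₁ + ten u₂ w₂), LinearMap.mem_range_self _ _⟩, ?_⟩
    show (A₁ (X (ten u₁ w₁ + ten u₂ w₂)), A₂ (X (ten u₁ w₁ + ten u₂ w₂))) = (u₁, u₂)
    rw [h₁, h₂, map_add, map_add, ctr_ten, ctr_ten, ctr_ten, ctr_ten, e21, e12,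
      dotProduct_comm d₁, hw11, dotProduct_comm d₂, hw22]
    simp
  have h := LinearMap.finrank_le_finrank_of_surjective hsurj
  rw [Module.finrank_prod, Module.finrank_fintype_fun_eq_card] at h
  have := Fintype.card_pos (α := α)
  omega

/-- A conjugate stabilising a line moves the other contractions as the line prescribes. -/
theorem exists_pair (hT : ∀ (c φ : β → F) (h : φ ⬝ᵥ c = 0), tT α c φ h ∈ M) (hS : ScalarRad M)
    {c : β → F} (hc : c ≠ 0) {h : GL (α × β) F} (hh : h ∈ M)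
    (hstab : ∀ x, x ∈ line α c ↔ mv h x ∈ line α c) {B : (α → F) →ₗ[F] α → F}
    (hB : ∀ u, mv h (ten u c) = ten (B u) c) {φ : β → F} (hφ : φ ⬝ᵥ c = 0) :
    ∃ φ' : β → F, φ' ⬝ᵥ c = 0 ∧ ∀ x, ctr φ' (mv h x) = B (ctr φ x) := by
  obtain ⟨φ', hφ', hk⟩ := hS c hc (h * tT α c φ hφ * h⁻¹)
    (M.mul_mem (M.mul_mem hh (hT _ _ _)) (M.inv_mem hh))
    (fun x => by
      rw [mv_mul, mv_mul, mv_tT, mv_add, mv_mv_inv, add_sub_cancel_left, hB]
      exact ten_mem_line _ _)
    (fun u => by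
      have hu : mv h⁻¹ (ten u c) ∈ line α c := by
        rw [hstab, mv_mv_inv]; exact ten_mem_line u c
      rw [mv_mul, mv_mul, mv_tT, ctr_line hφ hu, ten_zero_left, add_zero, mv_mv_inv])
  refine ⟨φ', hφ', fun x => ?_⟩
  have e := hk (mv h x)
  rw [mv_mul, mv_mul, mv_inv_mv, mv_tT, mv_add, hB, add_right_inj] at e
  exact (rho_injective hc (by simpa using e)).symm

/-- A conjugate of a factor transvection stabilising a line fixes it pointwise. -/
theorem fix_of_stab (hab : Fintype.card α < Fintype.card β)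
    (hT : ∀ (c φ : β → F) (h : φ ⬝ᵥ c = 0), tT α c φ h ∈ M) (hS : ScalarRad M)
    {g : GL (α × β) F} (hg : g ∈ M) {c₀ φ₀ : β → F} (h₀ : φ₀ ⬝ᵥ c₀ = 0)
    {c : β → F} (hc : c ≠ 0) (hst : ∀ u, mv (g * tT α c₀ φ₀ h₀ * g⁻¹) (ten u c) ∈ line α c)
    (u : α → F) : disp g c₀ φ₀ (ten u c) = 0 := by
  set h := g * tT α c₀ φ₀ h₀ * g⁻¹ with hdef
  have hh : h ∈ M := M.mul_mem (M.mul_mem hg (hT _ _ _)) (M.inv_mem hg)
  obtain ⟨θ, hθ⟩ := exists_dot_one hc
  have hstab : ∀ x, x ∈ line α c ↔ mv h x ∈ line α c :=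
    mem_subspaceStabilizer.1 (mem_subspaceStabilizer_of_le (W := line α c) fun v hv => by
      obtain ⟨u', rfl⟩ := mem_line.1 hv
      exact hst u')
  have hstab' : ∀ x, x ∈ line α c ↔ mv h⁻¹ x ∈ line α c := fun x => by
    rw [hstab (mv h⁻¹ x), mv_mv_inv]
  set B : (α → F) →ₗ[F] α → F := (ctr θ).comp ((mvLin h).comp (rho c))
  set B' : (α → F) →ₗ[F] α → F := (ctr θ).comp ((mvLin h⁻¹).comp (rho c))
  have hB : ∀ u, mv h (ten u c) = ten (B u) c := fun u => by
    obtain ⟨v, hv⟩ := mem_line.1 ((hstab _).1 (ten_mem_line u c))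
    have : B u = v := by simp [B, ← hv, ctr_ten, hθ]
    rw [this, hv]
  have hB' : ∀ u, mv h⁻¹ (ten u c) = ten (B' u) c := fun u => by
    obtain ⟨v, hv⟩ := mem_line.1 ((hstab' _).1 (ten_mem_line u c))
    have : B' u = v := by
      show ctr θ (mvLin h⁻¹ (rho c u)) = v
      rw [rho_apply, Matrix.toLin'_apply]
      show ctr θ (mv h⁻¹ (ten u c)) = v
      rw [← hv, ctr_ten, hθ, one_smul]
    rw [this, hv]
  have hBB : ∀ u, B (B' u) = u := fun u => rho_injective hc (by
    simp only [rho_apply]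
    rw [← hB, ← hB', mv_mv_inv])
  set X := disp g c₀ φ₀ with hX
  have hhx : ∀ x, mv h x = x + X x := fun x => mv_conj_tT g c₀ φ₀ h₀ x
  have hXu : ∀ u, X (ten u c) = ten (B u - u) c := fun u => by
    rw [ten_sub_left, ← hB, hhx, add_sub_cancel_left]
  by_contra hne
  set v := B u - u with hv
  have hv0 : v ≠ 0 := fun h' => hne (by rw [hXu, ← hv, h', ten_zero_left])
  have hBv : B v = v := by
    have := disp_disp g h₀ (ten u c)
    rw [← hX, hXu, ← hv, hXu] at this
    exact sub_eq_zero.1 (by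
      by_contra hw
      exact ten_ne_zero hw hc this)
  obtain ⟨lam0, hl⟩ := exists_dot_one hv0
  set S := LinearMap.range X
  have hSdim : Module.finrank F S ≤ Fintype.card α := by
    have hle : S ≤ (line α c₀).map (mvLin g) := by
      rintro _ ⟨x, rfl⟩
      exact ⟨ten (ctr φ₀ (mv g⁻¹ x)) c₀, ten_mem_line _ _, by simp [hX, disp_apply]⟩
    refine (Submodule.finrank_mono hle).trans ?_
    rw [finrank_map_mv]
    calc Module.finrank F (line α c₀) ≤ Module.finrank F (α → F) :=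
          LinearMap.finrank_range_le _
      _ = Fintype.card α := Module.finrank_fintype_fun_eq_card F
  let L : (β → F) →ₗ[F] Module.Dual F S :=
    { toFun := fun φ =>
        { toFun := fun s => lam0 ⬝ᵥ ctr φ (s : α × β → F)
          map_add' := fun s t => by simp [dotProduct_add]
          map_smul' := fun a s => by simp [dotProduct_smul] }
      map_add' := fun φ φ' => LinearMap.ext fun s => by simp [ctr_add_vec, dotProduct_add]
      map_smul' := fun a φ => LinearMap.ext fun s => by simp [ctr_smul_vec, dotProduct_smul] }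
  have hinj : Function.Injective L := by
    rw [← LinearMap.ker_eq_bot, LinearMap.ker_eq_bot']
    intro φ hφ
    have hev : ∀ x, lam0 ⬝ᵥ ctr φ (X x) = 0 := fun x =>
      congrFun (congrArg DFunLike.coe hφ) ⟨X x, LinearMap.mem_range_self _ _⟩
    have hφc : φ ⬝ᵥ c = 0 := by
      have := hev (ten u c)
      rwa [hXu, ← hv, ctr_ten, dotProduct_smul, hl, smul_eq_mul, mul_one] at this
    obtain ⟨ψ, hψc, hψ⟩ := exists_pair hT hS (h := h⁻¹) hc (M.inv_mem hh) hstab' hB' hφc
    have key : ∀ x, ctr φ (mv h x) = B (ctr ψ x) := fun x => by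
      have e := congrArg B (hψ (mv h x))
      rw [hBB, mv_inv_mv] at e
      exact e.symm
    have hev' : ∀ w (u' : α → F),
        (φ ⬝ᵥ w) * (lam0 ⬝ᵥ u') = (ψ ⬝ᵥ w) * (lam0 ⬝ᵥ B u') := fun w u' => by
      have e := key (ten u' w)
      rw [hhx, map_add, ctr_ten, ctr_ten, map_smul] at e
      have e2 := congrArg (lam0 ⬝ᵥ ·) e
      simp only [dotProduct_add, dotProduct_smul, smul_eq_mul] at e2
      rw [hev, add_zero] at e2
      exact e2
    refine funext fun k => ?_
    have e1 := hev' (Pi.single k 1) v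
    rw [hBv, hl, mul_one, mul_one] at e1
    have e2 := hev' (Pi.single k 1) u
    rw [show B u = u + v by rw [hv, add_sub_cancel], dotProduct_add, hl, e1] at e2
    have : ψ ⬝ᵥ Pi.single k 1 = 0 := by linear_combination (-1 : F) * e2
    rw [this] at e1
    simpa using e1
  have h1 := LinearMap.finrank_le_finrank_of_injective hinj
  rw [Module.finrank_fintype_fun_eq_card, Subspace.dual_finrank_eq] at h1
  omega

/-- A conjugate of a factor transvection fixing a line pointwise has a line as residual space. -/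
theorem residual_line [Nonempty α]
    (hT : ∀ (c φ : β → F) (h : φ ⬝ᵥ c = 0), tT α c φ h ∈ M) (hS : ScalarRad M)
    {g : GL (α × β) F} (hg : g ∈ M) {c₀ φ₀ : β → F} (h₀ : φ₀ ⬝ᵥ c₀ = 0) (hφ₀ : φ₀ ≠ 0)
    (hc₀ : c₀ ≠ 0) {c : β → F} (hc : c ≠ 0)
    (hfix : ∀ u, disp g c₀ φ₀ (ten u c) = 0) :
    ∃ c', c' ≠ 0 ∧ (line α c₀).map (mvLin g) = line α c' := by
  set h := g * tT α c₀ φ₀ h₀ * g⁻¹ with hdef
  have hh : h ∈ M := M.mul_mem (M.mul_mem hg (hT _ _ _)) (M.inv_mem hg)
  set X := disp g c₀ φ₀ with hX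
  have hhx : ∀ x, mv h x = x + X x := fun x => mv_conj_tT g c₀ φ₀ h₀ x
  have hfixh : ∀ u, mv h (ten u c) = ten u c := fun u => by rw [hhx, hfix, add_zero]
  have hrange : LinearMap.range X = (line α c₀).map (mvLin g) := range_disp g c₀ hφ₀
  have hdim : Module.finrank F (LinearMap.range X) = Fintype.card α := by
    rw [hrange, finrank_map_mv, finrank_line hc₀]
  have finish : ∀ c', (∀ x, X x ∈ line α c') →
      ∃ c', c' ≠ 0 ∧ (line α c₀).map (mvLin g) = line α c' := by
    intro c' hle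
    have hle' : LinearMap.range X ≤ line α c' := by rintro _ ⟨x, rfl⟩; exact hle x
    have hc' : c' ≠ 0 := by
      intro h'
      have e0 : LinearMap.range X = ⊥ := (Submodule.eq_bot_iff _).2 fun x hx => by
        obtain ⟨v, hv⟩ := mem_line.1 (hle' hx)
        rw [← hv, h', ten_zero_right]
      rw [e0, finrank_bot] at hdim
      have := Fintype.card_pos (α := α)
      omega
    exact ⟨c', hc', by
      rw [← hrange]
      exact Submodule.eq_of_le_of_finrank_eq hle' (by rw [hdim, finrank_line hc'])⟩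
  have hstab : ∀ x, x ∈ line α c ↔ mv h x ∈ line α c :=
    mem_subspaceStabilizer.1 (mem_subspaceStabilizer_of_le (W := line α c) fun v hv => by
      obtain ⟨u', rfl⟩ := mem_line.1 hv
      rw [hfixh]; exact hv)
  have hstab' : ∀ x, x ∈ line α c ↔ mv h⁻¹ x ∈ line α c := fun x => by
    rw [hstab (mv h⁻¹ x), mv_mv_inv]
  have hfixh' : ∀ u, mv h⁻¹ (ten u c) = ten (LinearMap.id (R := F) u) c := fun u => by
    rw [LinearMap.id_apply, mv_eq_iff, inv_inv, hfixh]
  -- for each contraction killing c the displacement gives a contraction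
  have hrel : ∀ φ : β → F, φ ⬝ᵥ c = 0 →
      ∃ d : β → F, d ⬝ᵥ c = 0 ∧ ∀ x, ctr φ (X x) = ctr d x := by
    intro φ hφ
    obtain ⟨ψ, hψc, hψ⟩ := exists_pair hT hS (h := h⁻¹) hc (M.inv_mem hh) hstab' hfixh' hφ
    refine ⟨ψ - φ, by rw [sub_dotProduct, hψc, hφ, sub_zero], fun x => ?_⟩
    have e := hψ (mv h x)
    rw [LinearMap.id_apply, mv_inv_mv, hhx, map_add] at e
    rw [ctr_sub_vec, LinearMap.sub_apply, e, add_sub_cancel_left]
  by_cases hall : ∀ (φ : β → F), φ ⬝ᵥ c = 0 → ∀ x, ctr φ (X x) = 0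
  · exact finish c fun x => mem_line_of_ctr hc fun φ hφ => hall φ hφ x
  push Not at hall
  obtain ⟨φs, hφs, x₁, hx₁⟩ := hall
  obtain ⟨d, hdc, hd⟩ := hrel φs hφs
  have hd0 : d ≠ 0 := fun h' => hx₁ (by rw [hd, h', ctr_zero_vec, LinearMap.zero_apply])
  obtain ⟨ws, hws⟩ := exists_dot_one hd0
  obtain ⟨i₀⟩ := ‹Nonempty α›
  set us : α → F := Pi.single i₀ 1
  set c₁ := ctrL us (X (ten us ws)) with hc₁
  have husus : us ⬝ᵥ us = 1 := by simp [us]
  have hmain : ∀ φ : β → F, φ ⬝ᵥ c = 0 → ∀ x, ctr φ (X x) = (φ ⬝ᵥ c₁) • ctr d x := by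
    intro φ hφ x
    obtain ⟨d', -, hd'⟩ := hrel φ hφ
    obtain ⟨s, hs⟩ := dep_of_two hdim.le (ctr φs) (ctr φ) d d' hd0 hd hd'
    have e : φ ⬝ᵥ c₁ = s := by
      rw [hc₁, dot_ctrL, hd', hs, ctr_ten, smul_dotProduct, dotProduct_comm d, hws,
        dotProduct_smul, husus]
      simp
    rw [hd', hs, ctr_smul_vec, e, LinearMap.smul_apply]
  have hone : φs ⬝ᵥ c₁ = 1 := by
    rw [hc₁, dot_ctrL, hd, ctr_ten, dotProduct_comm d, hws, one_smul, husus]
  have hdc₁ : d ⬝ᵥ c₁ = 0 := by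
    have h0 : ∀ x, ctr d (X x) = 0 := fun x => by
      rw [← hd, hX, disp_disp g h₀, map_zero]
    have e := h0 (ten us ws)
    rw [hmain d hdc, ctr_ten, dotProduct_comm d ws, hws, one_smul] at e
    have := congrFun e i₀
    simpa [us] using this
  set t₁ := tT α c₁ d hdc₁ with ht₁
  have hd0x : ∀ x, ctr d (X x) = 0 := fun x => by rw [hmain d hdc, hdc₁, zero_smul]
  have hk : ∀ x, mv (t₁⁻¹ * h) x = x + (X x - ten (ctr d x) c₁) := fun x => by
    rw [mv_mul, hhx, ht₁, mv_tT_inv, map_add, hd0x, add_zero]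
    abel
  obtain ⟨φ₂, hφ₂c, hφ₂⟩ := hS c hc (t₁⁻¹ * h) (M.mul_mem (M.inv_mem (hT _ _ _)) hh)
    (fun x => by
      rw [hk, add_sub_cancel_left]
      refine mem_line_of_ctr hc fun φ hφ => ?_
      rw [map_sub, hmain φ hφ, ctr_ten, sub_self])
    (fun u => by
      rw [hk, hfix, ctr_ten, hdc, zero_smul, ten_zero_left, sub_zero, add_zero])
  have hXx : ∀ x, X x = ten (ctr d x) c₁ + ten (ctr φ₂ x) c := fun x => by
    have e := hφ₂ x
    rw [hk, add_right_inj, sub_eq_iff_eq_add] at e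
    rw [e, add_comm]
  obtain ⟨θ, hθ⟩ := exists_dot_one hc
  obtain ⟨s, hs⟩ := dep_of_two hdim.le (ctr φs) (ctr θ) d ((θ ⬝ᵥ c₁) • d + φ₂) hd0 hd fun x => by
    rw [hXx, map_add, ctr_ten, ctr_ten, hθ, one_smul, ctr_add_vec, ctr_smul_vec,
      LinearMap.add_apply, LinearMap.smul_apply]
  refine finish (c₁ + (s - θ ⬝ᵥ c₁) • c) fun x => mem_line.2 ⟨ctr d x, ?_⟩
  have e : φ₂ = (s - θ ⬝ᵥ c₁) • d := by rw [sub_smul, ← hs, add_sub_cancel_left]
  rw [hXx, e, ctr_smul_vec, LinearMap.smul_apply, ten_add_right, ten_smul_right, ten_smul_left]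

end Cfsg.Agent.TensorMax
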