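/-
When the radical of a line U ⊗ c meets the group only in factor transvections, an image of a
line meeting a line non-trivially is that line.
-/
import Cfsg.Agent.Lib.TensorMax.Residual

set_option autoImplicit false
set_option linter.unusedSectionVars false

namespace Cfsg.Agent.TensorMax

open scoped Matrix
open Matrix Cfsg.Agent.Transvec

variable {α β : Type} [Fintype α] [DecidableEq α] [Fintype β] [DecidableEq β] {F : Type*} [Field F]
variable {M : Subgroup (GL (α × β) F)}

theorem mem_map_mv {g : GL (α × β) F} {S : Submodule F (α × β → F)} {x : α × β → F} :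
    x ∈ S.map (mvLin g) ↔ ∃ y ∈ S, mv g y = x := by
  simp [Submodule.mem_map, mv]

theorem map_mv_mul (g h : GL (α × β) F) (S : Submodule F (α × β → F)) :
    (S.map (mvLin h)).map (mvLin g) = S.map (mvLin (g * h)) := by
  rw [← Submodule.map_comp]
  congr 1
  exact LinearMap.ext fun x => by simp

theorem map_mv_one (S : Submodule F (α × β → F)) : S.map (mvLin (1 : GL (α × β) F)) = S := by
  have : mvLin (1 : GL (α × β) F) = LinearMap.id := LinearMap.ext fun x => by simp
  rw [this, Submodule.map_id]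

theorem map_mv_injective (g : GL (α × β) F) : Function.Injective (mvLin g) :=
  fun x y hxy => mv_inj g (by simpa using hxy)

/-- Bookkeeping for the induction on the codimension of the intersection. -/
def MeetUpTo (M : Subgroup (GL (α × β) F)) (n : ℕ) : Prop :=
  ∀ g ∈ M, ∀ c₀ c : β → F, c₀ ≠ 0 → c ≠ 0 →
    ((line α c₀).map (mvLin g)) ⊓ line α c ≠ ⊥ →
    Fintype.card α ≤ Module.finrank F
        ↥(((line α c₀).map (mvLin g)) ⊓ line α c) + n →
    (line α c₀).map (mvLin g) = line α c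

theorem meet_step [Nonempty α] (hab : Fintype.card α < Fintype.card β)
    (hT : ∀ (c φ : β → F) (h : φ ⬝ᵥ c = 0), tT α c φ h ∈ M)
    (hU : ∀ (e ψ : α → F) (h : ψ ⬝ᵥ e = 0), uT β e ψ h ∈ M) (hS : ScalarRad M)
    {n : ℕ} (ih : MeetUpTo M n) : MeetUpTo M (n + 1) := by
  intro g hg c₀ c hc₀ hc hne hn
  set R' := (line α c₀).map (mvLin g) with hR'
  set R := line α c with hR
  set I := R' ⊓ R with hI
  by_cases hsmall : Fintype.card α ≤ Module.finrank F I + n
  · exact ih g hg c₀ c hc₀ hc hne hsmall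
  by_contra hneq
  have hR'dim : Module.finrank F R' = Fintype.card α := by
    rw [hR', finrank_map_mv, finrank_line hc₀]
  -- maximality of the intersection
  have hmax : ∀ k ∈ M, Module.finrank F I + 1 ≤ Module.finrank F ↥(R'.map (mvLin k) ⊓ R') →
      R'.map (mvLin k) = R' := by
    intro k hk hdim
    have e1 : (R'.map (mvLin k)).map (mvLin g⁻¹) =
        (line α c₀).map (mvLin (g⁻¹ * k * g)) := by
      rw [hR', map_mv_mul, map_mv_mul, mul_assoc]
    have e2 : R'.map (mvLin g⁻¹) = line α c₀ := by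
      rw [hR', map_mv_mul, inv_mul_cancel, map_mv_one]
    have e3 : (line α c₀).map (mvLin (g⁻¹ * k * g)) ⊓ line α c₀ =
        (R'.map (mvLin k) ⊓ R').map (mvLin g⁻¹) := by
      rw [Submodule.map_inf _ (map_mv_injective g⁻¹), e1, e2]
    have e4 : Module.finrank F ↥((line α c₀).map (mvLin (g⁻¹ * k * g)) ⊓ line α c₀) =
        Module.finrank F ↥(R'.map (mvLin k) ⊓ R') := by
      rw [e3, finrank_map_mv]
    have e5 := ih (g⁻¹ * k * g) (M.mul_mem (M.mul_mem (M.inv_mem hg) hk) hg) c₀ c₀ hc₀ hc₀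
      (fun hbot => by
        rw [hbot, finrank_bot] at e4
        omega) (by omega)
    have := congrArg (fun S : Submodule F (α × β → F) => S.map (mvLin g)) e5
    simp only [map_mv_mul, ← hR'] at this
    rwa [← mul_assoc, ← mul_assoc, mul_inv_cancel, one_mul, ← map_mv_mul, ← hR'] at this
  -- a member fixing I and a further vector of R' stabilises R'
  have hfix2 : ∀ k ∈ M, ∀ x ∈ R', x ∉ I → (∀ z ∈ I, mv k z = z) → mv k x = x →
      ∀ y ∈ R', mv k y ∈ R' := by
    intro k hk x hx hxI hkI hkx y hy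
    have hle : I ⊔ Submodule.span F {x} ≤ R'.map (mvLin k) ⊓ R' := by
      refine sup_le (fun z hz => ⟨mem_map_mv.2 ⟨z, hz.1, hkI z hz⟩, hz.1⟩) ?_
      rw [Submodule.span_singleton_le_iff_mem]
      exact ⟨mem_map_mv.2 ⟨x, hx, hkx⟩, hx⟩
    have e := Submodule.finrank_mono hle
    rw [Submodule.finrank_sup_span_singleton hxI] at e
    rw [← hmax k hk e]
    exact mem_map_mv.2 ⟨y, hy, rfl⟩
  -- no transvection with centre c stabilises R'
  have hno : ∀ (φ : β → F) (hφ : φ ⬝ᵥ c = 0),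
      (∀ y ∈ R', mv (tT α c φ hφ) y ∈ R') → φ = 0 := by
    intro φ hφ hst
    by_contra hφ0
    have hst' : ∀ u, mv (g⁻¹ * tT α c φ hφ * (g⁻¹)⁻¹) (ten u c₀) ∈ line α c₀ := by
      intro u
      rw [inv_inv, mv_mul, mv_mul]
      obtain ⟨y, hy, e⟩ := mem_map_mv.1 (hst _ (mem_map_mv.2 ⟨_, ten_mem_line u c₀, rfl⟩))
      rw [← e, mv_inv_mv]
      exact hy
    obtain ⟨c', hc', hline⟩ := residual_line hT hS (M.inv_mem hg) hφ hφ0 hc hc₀
      (fix_of_stab hab hT hS (M.inv_mem hg) hφ hc₀ hst')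
    obtain ⟨z, hz, hz0⟩ := Submodule.exists_mem_ne_zero_of_ne_bot hne
    obtain ⟨y, hy, hyz⟩ := mem_map_mv.1 hz.1
    have hy' : y ∈ line α c' := by
      rw [← hline]
      exact mem_map_mv.2 ⟨z, hz.2, by rw [← hyz, mv_inv_mv]⟩
    have hy0 : y ≠ 0 := fun h => hz0 (by rw [← hyz, h, mv_zero])
    have e := line_eq_of_mem hy0 hy' hy
    apply hneq
    rw [hR', ← e, ← hline, map_mv_mul, mul_inv_cancel, map_mv_one]
  have hlt : Module.finrank F I < Module.finrank F R' := by
    refine Submodule.finrank_lt_finrank_of_lt (lt_of_le_of_ne inf_le_left fun h => ?_)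
    exact hneq (Submodule.eq_of_le_of_finrank_eq (inf_eq_left.1 h)
      (by rw [hR'dim, hR, finrank_line hc]))
  -- contraction of a vector of R' outside I
  have hbij : ∀ x ∈ R', x ∉ I →
      (∀ φ : β → F, φ ⬝ᵥ c = 0 → ctr φ x = 0 → φ = 0) ∧
      ∀ u : α → F, ∃ φ : β → F, φ ⬝ᵥ c = 0 ∧ ctr φ x = u := by
    intro x hx hxI
    have hinj : ∀ φ : β → F, φ ⬝ᵥ c = 0 → ctr φ x = 0 → φ = 0 := by
      intro φ hφ hφx
      refine hno φ hφ (hfix2 _ (hT _ _ hφ) x hx hxI (fun z hz => ?_) ?_)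
      · rw [mv_tT, ctr_line hφ hz.2, ten_zero_left, add_zero]
      · rw [mv_tT, hφx, ten_zero_left, add_zero]
    refine ⟨hinj, ?_⟩
    let L : perp c →ₗ[F] α → F :=
      { toFun := fun φ => ctr (φ : β → F) x
        map_add' := fun φ φ' => by simp [ctr_add_vec]
        map_smul' := fun a φ => by simp [ctr_smul_vec] }
    have hLi : Function.Injective L := by
      rw [← LinearMap.ker_eq_bot, LinearMap.ker_eq_bot']
      exact fun φ hφ => Subtype.ext (hinj _ φ.2 hφ)
    have e1 := LinearMap.finrank_le_finrank_of_injective hLi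
    have e2 := finrank_perp hc
    rw [Module.finrank_fintype_fun_eq_card] at e1
    have e3 : Module.finrank F (perp c) = Module.finrank F (α → F) := by
      rw [Module.finrank_fintype_fun_eq_card]; omega
    intro u
    obtain ⟨φ, hφ⟩ := (LinearMap.injective_iff_surjective_of_finrank_eq_finrank e3).1 hLi u
    exact ⟨φ, φ.2, hφ⟩
  obtain ⟨x, hx, hxI⟩ := SetLike.exists_of_lt
    (lt_of_le_of_ne (inf_le_left : I ≤ R') fun h => hlt.ne (LinearEquiv.finrank_eq (LinearEquiv.ofEq _ _ h)))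
  obtain ⟨hxinj, hxsurj⟩ := hbij x hx hxI
  obtain ⟨z₀, hz₀, hz₀0⟩ := Submodule.exists_mem_ne_zero_of_ne_bot hne
  -- R' is more than one dimension above I
  have hgap : ¬ R' ≤ I ⊔ Submodule.span F {x} := by
    intro hle
    obtain ⟨u₀, hu₀⟩ := mem_line.1 hz₀.2
    obtain ⟨φ, hφ, hφx⟩ := hxsurj u₀
    have h0 : φ = 0 := by
      refine hno φ hφ fun y hy => ?_
      obtain ⟨z, hz, w, hw, rfl⟩ := Submodule.mem_sup.1 (hle hy)
      obtain ⟨s, rfl⟩ := Submodule.mem_span_singleton.1 hw
      rw [mv_tT, map_add, ctr_line hφ hz.2, zero_add, map_smul, hφx, ten_smul_left, hu₀]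
      exact R'.add_mem hy (R'.smul_mem s hz₀.1)
    rw [h0, ctr_zero_vec, LinearMap.zero_apply] at hφx
    exact hz₀0 (by rw [← hu₀, ← hφx, ten_zero_left])
  have hd2 : Module.finrank F I + 2 ≤ Fintype.card α := by
    by_contra hcon
    refine hgap (le_of_eq (Eq.symm (Submodule.eq_of_le_of_finrank_le
      (sup_le inf_le_left (by rwa [Submodule.span_singleton_le_iff_mem])) ?_)))
    rw [Submodule.finrank_sup_span_singleton hxI, hR'dim]
    exact Nat.le_of_not_lt hcon
  have hIpos : 1 ≤ Module.finrank F I := Submodule.one_le_finrank_iff.2 hne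
  apply hgap
  intro y hy
  -- the linear map of contractions of y in terms of those of x
  let P : perp c →ₗ[F] α → F :=
    { toFun := fun φ => ctr (φ : β → F) x
      map_add' := fun φ φ' => by simp [ctr_add_vec]
      map_smul' := fun a φ => by simp [ctr_smul_vec] }
  have hPi : Function.Bijective P := by
    refine ⟨?_, fun u => ?_⟩
    · rw [← LinearMap.ker_eq_bot, LinearMap.ker_eq_bot']
      exact fun φ hφ => Subtype.ext (hxinj _ φ.2 hφ)
    · obtain ⟨φ, hφ, hφx⟩ := hxsurj u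
      exact ⟨⟨φ, hφ⟩, hφx⟩
  let Pe := LinearEquiv.ofBijective P hPi
  let Y : perp c →ₗ[F] α → F :=
    { toFun := fun φ => ctr (φ : β → F) y
      map_add' := fun φ φ' => by simp [ctr_add_vec]
      map_smul' := fun a φ => by simp [ctr_smul_vec] }
  set L : (α → F) →ₗ[F] α → F := Y.comp Pe.symm.toLinearMap with hL
  have hLY : ∀ φ : β → F, φ ⬝ᵥ c = 0 → L (ctr φ x) = ctr φ y := by
    intro φ hφ
    have : Pe.symm (ctr φ x) = ⟨φ, hφ⟩ := by
      rw [LinearEquiv.symm_apply_eq]; rfl
    simp only [hL, LinearMap.comp_apply, LinearEquiv.coe_coe, this]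
    rfl
  -- invariance gives eigenvectors
  set U₀ := I.comap (rho (α := α) c) with hU₀
  have hU₀dim : Module.finrank F U₀ ≤ Module.finrank F I := by
    let f : U₀ →ₗ[F] I := (rho (α := α) c).restrict fun u hu => hu
    exact LinearMap.finrank_le_finrank_of_injective (f := f) fun u v huv =>
      Subtype.ext (rho_injective hc (congrArg Subtype.val huv))
  have heig : ∀ e : α → F, ∃ s : F, L e = s • e := by
    intro e
    by_cases he : e = 0
    · exact ⟨0, by rw [he, map_zero, smul_zero]⟩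
    obtain ⟨p, hp⟩ : ∃ p, p ∉ U₀ ⊔ Submodule.span F {e} := by
      by_contra hcon
      push Not at hcon
      have e1 := Submodule.finrank_add_le_finrank_add_finrank U₀ (Submodule.span F {e})
      rw [Submodule.eq_top_iff'.2 hcon, finrank_top, Module.finrank_fintype_fun_eq_card,
        finrank_span_singleton he] at e1
      omega
    obtain ⟨ψ, hψW, hψp⟩ := exists_dot hp
    have hψe : ψ ⬝ᵥ e = 0 :=
      hψW e (Submodule.mem_sup_right (Submodule.mem_span_singleton_self e))
    obtain ⟨φ', hφ'c, hφ'⟩ := hxsurj (-e)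
    have hφ'w : φ' ⬝ᵥ ctrL ψ x = 0 := by rw [dot_ctrL, hφ', dotProduct_neg, hψe, neg_zero]
    set k := tT α (ctrL ψ x) φ' hφ'w * uT β e ψ hψe with hk
    have hkfor : ∀ z, mv k z =
        z + ten e (ctrL ψ z) + ten (ctr φ' z + (ψ ⬝ᵥ ctr φ' z) • e) (ctrL ψ x) := by
      intro z
      rw [hk, mv_mul, mv_tT, ctr_uT, mv_uT]
    have hkR : ∀ z ∈ R', mv k z ∈ R' := by
      refine hfix2 k (M.mul_mem (hT _ _ _) (hU _ _ _)) x hx hxI (fun z hz => ?_) ?_
      · obtain ⟨v, rfl⟩ := mem_line.1 hz.2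
        have hv : ψ ⬝ᵥ v = 0 := hψW v (Submodule.mem_sup_left hz)
        rw [hkfor, ctrL_ten, hv, zero_smul, ten_zero_right, add_zero, ctr_ten, hφ'c, zero_smul,
          dotProduct_zero, zero_smul, add_zero, ten_zero_left, add_zero]
      · rw [hkfor, hφ', dotProduct_neg, hψe, neg_zero, zero_smul, add_zero, ten_neg_left,
          add_neg_cancel_right]
    set q := ctr φ' y + (ψ ⬝ᵥ ctr φ' y) • e with hq
    have hz : mv k y - y ∈ R' := R'.sub_mem (hkR y hy) hy
    have hzc : ∀ φ : β → F, ctr φ (mv k y - y) = (ψ ⬝ᵥ ctr φ y) • e + (ψ ⬝ᵥ ctr φ x) • q := by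
      intro φ
      rw [hkfor, map_sub, map_add, map_add, ctr_ten, ctr_ten, dot_ctrL, dot_ctrL, ← hq]
      abel
    have hzI : mv k y - y ∈ I := by
      by_contra hzI
      obtain ⟨-, hs⟩ := hbij _ hz hzI
      have hle : (⊤ : Submodule F (α → F)) ≤ Submodule.span F {e} ⊔ Submodule.span F {q} := by
        intro u _
        obtain ⟨φ, -, rfl⟩ := hs u
        rw [hzc]
        exact Submodule.add_mem_sup (Submodule.smul_mem _ _ (Submodule.mem_span_singleton_self e))
          (Submodule.smul_mem _ _ (Submodule.mem_span_singleton_self q))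
      have e1 := (Submodule.finrank_mono hle).trans
        (Submodule.finrank_add_le_finrank_add_finrank _ _)
      rw [finrank_top, Module.finrank_fintype_fun_eq_card] at e1
      have e2 := finrank_span_le_card (R := F) ({e} : Set (α → F))
      have e3 := finrank_span_le_card (R := F) ({q} : Set (α → F))
      simp at e2 e3
      omega
    have heq : ∀ u : α → F, (ψ ⬝ᵥ L u) • e + (ψ ⬝ᵥ u) • q = 0 := by
      intro u
      obtain ⟨φ, hφ, rfl⟩ := hxsurj u
      rw [hLY φ hφ, ← hzc]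
      exact ctr_line hφ hzI.2
    have hLe : ψ ⬝ᵥ L e = 0 := by
      have := heq e
      rw [hψe, zero_smul, add_zero, smul_eq_zero] at this
      exact this.resolve_right he
    have hqe : q = -L e := by
      rw [hq, ← hLY φ' hφ'c, hφ', map_neg, dotProduct_neg, hLe, neg_zero, zero_smul, add_zero]
    have := heq p
    rw [hψp, one_smul, hqe, add_neg_eq_zero] at this
    exact ⟨ψ ⬝ᵥ L p, this.symm⟩
  obtain ⟨s, hs⟩ : ∃ s : F, ∀ u, L u = s • u := by
    obtain ⟨i₀⟩ := ‹Nonempty α›
    set e₀ : α → F := Pi.single i₀ 1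
    have he₀ : e₀ ≠ 0 := by simp [e₀]
    obtain ⟨s, hs⟩ := heig e₀
    refine ⟨s, fun u => ?_⟩
    by_cases hu : u ∈ Submodule.span F {e₀}
    · obtain ⟨b, rfl⟩ := Submodule.mem_span_singleton.1 hu
      rw [map_smul, hs, smul_comm]
    · obtain ⟨t, ht⟩ := heig u
      obtain ⟨r, hr⟩ := heig (e₀ + u)
      rw [map_add, hs, ht, smul_add] at hr
      have e1 : (t - r) • u = (r - s) • e₀ := by
        rw [sub_smul, sub_smul, sub_eq_sub_iff_add_eq_add]
        rw [add_comm (t • u), add_comm (r • e₀)]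
        rw [hr]; abel
      have htr : t = r := by
        by_contra h
        apply hu
        refine Submodule.mem_span_singleton.2 ⟨(t - r)⁻¹ * (r - s), ?_⟩
        rw [mul_smul, ← e1, smul_smul, inv_mul_cancel₀ (sub_ne_zero.2 h), one_smul]
      rw [htr, sub_self, zero_smul, eq_comm, smul_eq_zero, sub_eq_zero] at e1
      rw [ht, htr, e1.resolve_right he₀]
  have hmem : y - s • x ∈ I := by
    refine ⟨R'.sub_mem hy (R'.smul_mem s hx), mem_line_of_ctr hc fun φ hφ => ?_⟩
    rw [map_sub, map_smul, ← hLY φ hφ, hs, sub_self]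
  rw [show y = (y - s • x) + s • x by abel]
  exact Submodule.add_mem_sup hmem (Submodule.smul_mem _ _ (Submodule.mem_span_singleton_self x))

theorem meet_all [Nonempty α] (hab : Fintype.card α < Fintype.card β)
    (hT : ∀ (c φ : β → F) (h : φ ⬝ᵥ c = 0), tT α c φ h ∈ M)
    (hU : ∀ (e ψ : α → F) (h : ψ ⬝ᵥ e = 0), uT β e ψ h ∈ M) (hS : ScalarRad M)
    {g : GL (α × β) F} (hg : g ∈ M) {c₀ c : β → F} (hc₀ : c₀ ≠ 0) (hc : c ≠ 0)
    (hne : ((line α c₀).map (mvLin g)) ⊓ line α c ≠ ⊥) :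
    (line α c₀).map (mvLin g) = line α c := by
  have h : ∀ n, MeetUpTo M n := by
    intro n
    induction n with
    | zero =>
      intro g hg c₀ c hc₀ hc _ hn
      have e1 : ((line α c₀).map (mvLin g)) ⊓ line α c = (line α c₀).map (mvLin g) :=
        Submodule.eq_of_le_of_finrank_le inf_le_left (by
          rw [finrank_map_mv, finrank_line hc₀]; simpa using hn)
      exact Submodule.eq_of_le_of_finrank_eq (inf_eq_left.1 e1)
        (by rw [finrank_map_mv, finrank_line hc₀, finrank_line hc])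
    | succ n ih => exact meet_step hab hT hU hS ih
  exact h (Fintype.card α) g hg c₀ c hc₀ hc hne (Nat.le_add_left _ _)

/-- Every image of a line is a line. -/
theorem map_line [Nonempty α] (hab : Fintype.card α < Fintype.card β)
    (hT : ∀ (c φ : β → F) (h : φ ⬝ᵥ c = 0), tT α c φ h ∈ M)
    (hU : ∀ (e ψ : α → F) (h : ψ ⬝ᵥ e = 0), uT β e ψ h ∈ M) (hS : ScalarRad M)
    {g : GL (α × β) F} (hg : g ∈ M) {c₀ : β → F} (hc₀ : c₀ ≠ 0) :
    ∃ c', c' ≠ 0 ∧ (line α c₀).map (mvLin g) = line α c' := by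
  have hpos := Fintype.card_pos (α := α)
  obtain ⟨φ₀, hφ₀m, hφ₀⟩ : ∃ φ₀ ∈ perp c₀, φ₀ ≠ 0 :=
    Submodule.exists_mem_ne_zero_of_ne_bot fun h => by
      have := finrank_perp hc₀
      rw [h, finrank_bot] at this
      omega
  replace hφ₀m : φ₀ ⬝ᵥ c₀ = 0 := hφ₀m
  obtain ⟨i₀⟩ := ‹Nonempty α›
  set u : α → F := Pi.single i₀ 1
  have hu : u ≠ 0 := by simp [u]
  let L : (β → F) →ₗ[F] α → F := (ctr φ₀).comp ((mvLin g⁻¹).comp (lam u))
  obtain ⟨w, hw, hw0⟩ := Submodule.exists_mem_ne_zero_of_ne_bot (p := LinearMap.ker L) fun h => by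
    have := LinearMap.finrank_le_finrank_of_injective (LinearMap.ker_eq_bot.1 h)
    rw [Module.finrank_fintype_fun_eq_card, Module.finrank_fintype_fun_eq_card] at this
    omega
  have hker : ctr φ₀ (mv g⁻¹ (ten u w)) = 0 := by simpa [L, mv] using hw
  set h := g * tT α c₀ φ₀ hφ₀m * g⁻¹ with hh
  have hfixv : mv h (ten u w) = ten u w := by
    rw [hh, mv_conj_tT, disp_apply, hker, ten_zero_left, mv_zero, add_zero]
  have hhM : h ∈ M := M.mul_mem (M.mul_mem hg (hT _ _ _)) (M.inv_mem hg)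
  have hline := meet_all hab hT hU hS hhM hw0 hw0 fun hbot => by
    have hm : ten u w ∈ (line α w).map (mvLin h) ⊓ line α w :=
      ⟨mem_map_mv.2 ⟨_, ten_mem_line u w, hfixv⟩, ten_mem_line u w⟩
    rw [hbot, Submodule.mem_bot] at hm
    exact ten_ne_zero hu hw0 hm
  exact residual_line hT hS hg hφ₀m hφ₀ hc₀ hw0
    (fix_of_stab hab hT hS hg hφ₀m hw0 fun v => by
      rw [← hline]
      exact mem_map_mv.2 ⟨_, ten_mem_line v w, rfl⟩)

end Cfsg.Agent.TensorMax
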