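/-
A map permuting the lines U ⊗ c is a Kronecker product.
-/
import Cfsg.Agent.Lib.TensorMax.Meet

set_option autoImplicit false
set_option linter.unusedSectionVars false

namespace Cfsg.Agent.TensorMax

open scoped Matrix Kronecker
open Matrix Cfsg.Agent.Transvec

variable {α β : Type} [Fintype α] [DecidableEq α] [Fintype β] [DecidableEq β] {F : Type*} [Field F]

/-- The matrix of g is a Kronecker product of invertible matrices. -/
def IsKron (g : GL (α × β) F) : Prop :=
  ∃ (A : GL α F) (B : GL β F),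
    (g : Matrix (α × β) (α × β) F) = (A : Matrix α α F) ⊗ₖ (B : Matrix β β F)

theorem kronecker_mulVec_ten (A : Matrix α α F) (B : Matrix β β F) (u : α → F) (w : β → F) :
    (A ⊗ₖ B) *ᵥ ten u w = ten (A *ᵥ u) (B *ᵥ w) := by
  funext ⟨i, k⟩
  simp only [Matrix.mulVec, dotProduct, ten_apply, Matrix.kroneckerMap_apply, Fintype.sum_prod_type,
    Finset.sum_mul, Finset.mul_sum]
  rw [Finset.sum_comm]
  exact Finset.sum_congr rfl fun j _ => Finset.sum_congr rfl fun l _ => by ring

theorem isKron_of_ten [Nonempty α] [Nonempty β] {g : GL (α × β) F} (A : Matrix α α F)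
    (B : Matrix β β F) (h : ∀ u w, mv g (ten u w) = ten (A *ᵥ u) (B *ᵥ w)) : IsKron g := by
  have hg : (g : Matrix (α × β) (α × β) F) = A ⊗ₖ B := by
    refine Matrix.toLin'.injective (ext_ten fun u w => ?_)
    rw [Matrix.toLin'_apply, Matrix.toLin'_apply, kronecker_mulVec_ten]
    exact h u w
  have hd : (A ⊗ₖ B).det ≠ 0 := by
    rw [← hg, ← Matrix.GeneralLinearGroup.val_det_apply]
    exact Units.ne_zero _
  rw [Matrix.det_kronecker] at hd
  have hA : A.det ≠ 0 := fun h' => hd (by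
    rw [h', zero_pow Fintype.card_pos.ne', zero_mul])
  have hB : B.det ≠ 0 := fun h' => hd (by
    rw [h', zero_pow (Fintype.card_pos (α := α)).ne', mul_zero])
  exact ⟨Matrix.GeneralLinearGroup.mkOfDetNeZero A hA, Matrix.GeneralLinearGroup.mkOfDetNeZero B hB,
    hg⟩

theorem isKron_of_lines [Nonempty α] [Nonempty β] {g : GL (α × β) F}
    (h : ∀ c : β → F, c ≠ 0 → ∃ c', c' ≠ 0 ∧ (line α c).map (mvLin g) = line α c') : IsKron g := by
  classical
  obtain ⟨k₀⟩ := ‹Nonempty β›
  obtain ⟨i₀⟩ := ‹Nonempty α›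
  set u₁ : α → F := Pi.single i₀ 1
  have hu₁ : u₁ ≠ 0 := by simp [u₁]
  have hδ : ∀ k : β, (Pi.single k (1 : F) : β → F) ≠ 0 := fun k => by simp
  choose cs hcs0 hcs using fun k => h _ (hδ k)
  choose θ hθ using fun k => exists_dot_one (hcs0 k)
  let Af : β → (α → F) →ₗ[F] α → F := fun k =>
    (ctr (θ k)).comp ((mvLin g).comp (rho (Pi.single k 1)))
  have hA : ∀ k u, mv g (ten u (Pi.single k 1)) = ten (Af k u) (cs k) := by
    intro k u
    obtain ⟨v, hv⟩ := mem_line.1 (show mv g (ten u (Pi.single k 1)) ∈ line α (cs k) by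
      rw [← hcs k]; exact mem_map_mv.2 ⟨_, ten_mem_line _ _, rfl⟩)
    have : Af k u = v := by
      show ctr (θ k) (mvLin g (rho (Pi.single k 1) u)) = v
      rw [rho_apply, Matrix.toLin'_apply]
      show ctr (θ k) (mv g _) = v
      rw [← hv, ctr_ten, hθ, one_smul]
    rw [this, hv]
  have hAne : ∀ k u, u ≠ 0 → Af k u ≠ 0 := fun k u hu h0 => by
    have := hA k u
    rw [h0, ten_zero_left] at this
    exact ten_ne_zero hu (hδ k) (mv_inj g (this.trans (mv_zero g).symm))
  have hprop : ∀ k, ∃ s : F, ∀ u, Af k u = s • Af k₀ u := by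
    intro l
    by_cases hl : l = k₀
    · exact ⟨1, fun u => by rw [hl, one_smul]⟩
    have hindep : ∀ s : F, cs l ≠ s • cs k₀ := by
      intro s hs
      have hm : mv g (ten u₁ (Pi.single l 1)) ∈ (line α (Pi.single k₀ 1 : β → F)).map (mvLin g) := by
        rw [hcs k₀, hA, hs, ten_smul_right, ← ten_smul_left]
        exact ten_mem_line _ _
      obtain ⟨y, hy, e⟩ := mem_map_mv.1 hm
      obtain ⟨v, rfl⟩ := mem_line.1 hy
      have e' := congrArg (ctr (Pi.single l (1 : F))) (mv_inj g e)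
      rw [ctr_ten, ctr_ten, single_dotProduct, single_dotProduct, Pi.single_eq_same,
        Pi.single_eq_of_ne hl, mul_zero, zero_smul, mul_one, one_smul] at e'
      exact hu₁ e'.symm
    have hl0 : cs k₀ ∉ Submodule.span F {cs l} := fun hm => by
      obtain ⟨t, ht⟩ := Submodule.mem_span_singleton.1 hm
      have ht0 : t ≠ 0 := fun h0 => hcs0 k₀ (by rw [← ht, h0, zero_smul])
      exact hindep t⁻¹ (by rw [← ht, smul_smul, inv_mul_cancel₀ ht0, one_smul])
    have hl1 : cs l ∉ Submodule.span F {cs k₀} := fun hm => by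
      obtain ⟨t, ht⟩ := Submodule.mem_span_singleton.1 hm
      exact hindep t ht.symm
    obtain ⟨p, hp1, hp2⟩ := exists_dot hl0
    obtain ⟨r, hr1, hr2⟩ := exists_dot hl1
    have hpl : p ⬝ᵥ cs l = 0 := hp1 _ (Submodule.mem_span_singleton_self _)
    have hrk : r ⬝ᵥ cs k₀ = 0 := hr1 _ (Submodule.mem_span_singleton_self _)
    have hsum : (Pi.single k₀ 1 + Pi.single l 1 : β → F) ≠ 0 := fun h0 => by
      have := congrFun h0 l
      simp [hl] at this
    obtain ⟨c', hc', hc'map⟩ := h _ hsum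
    have hv : ∀ u, ∃ v, Af k₀ u = (p ⬝ᵥ c') • v ∧ Af l u = (r ⬝ᵥ c') • v := by
      intro u
      obtain ⟨v, hv⟩ := mem_line.1 (show mv g (ten u (Pi.single k₀ 1 + Pi.single l 1)) ∈ line α c' by
        rw [← hc'map]; exact mem_map_mv.2 ⟨_, ten_mem_line _ _, rfl⟩)
      rw [ten_add_right, mv_add, hA, hA] at hv
      refine ⟨v, ?_, ?_⟩
      · have e := congrArg (ctr p) hv
        rw [map_add, ctr_ten, ctr_ten, ctr_ten, hp2, hpl, one_smul, zero_smul, add_zero] at e
        exact e.symm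
      · have e := congrArg (ctr r) hv
        rw [map_add, ctr_ten, ctr_ten, ctr_ten, hr2, hrk, one_smul, zero_smul, zero_add] at e
        exact e.symm
    have hpc : p ⬝ᵥ c' ≠ 0 := by
      intro h0
      obtain ⟨v, hv1, -⟩ := hv u₁
      rw [h0, zero_smul] at hv1
      exact hAne k₀ u₁ hu₁ hv1
    refine ⟨(r ⬝ᵥ c') / (p ⬝ᵥ c'), fun u => ?_⟩
    obtain ⟨v, hv1, hv2⟩ := hv u
    rw [hv1, hv2, smul_smul, div_mul_cancel₀ _ hpc]
  choose s hs using hprop
  refine isKron_of_ten (LinearMap.toMatrix' (Af k₀)) (Matrix.of fun j k => s k * cs k j) fun u w => ?_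
  rw [LinearMap.toMatrix'_mulVec]
  conv_lhs => rw [pi_eq_sum_univ' w]
  have e1 : (ten u (∑ k, w k • (Pi.single k 1 : β → F)) : α × β → F) =
      ∑ k, w k • ten u (Pi.single k 1) := by
    rw [show ten u (∑ k, w k • (Pi.single k 1 : β → F)) =
      lam u (∑ k, w k • (Pi.single k 1 : β → F)) from rfl, map_sum]
    exact Finset.sum_congr rfl fun k _ => map_smul _ _ _
  rw [e1, mv_sum]
  funext ⟨i, j⟩
  rw [Finset.sum_apply]
  have e2 : ∀ k, mv g (w k • ten u (Pi.single k 1)) (i, j) = Af k₀ u i * (s k * cs k j * w k) := by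
    intro k
    rw [mv_smul, hA, hs, Pi.smul_apply, ten_apply, Pi.smul_apply, smul_eq_mul, smul_eq_mul]
    ring
  rw [Finset.sum_congr rfl fun k _ => e2 k, ← Finset.mul_sum]
  rfl

end Cfsg.Agent.TensorMax
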