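/-
A member of the radical of a line outside the factor transvections gives a transvection, and
then every transvection.
-/
import Cfsg.Agent.Lib.TensorMax.Residual
import Cfsg.Agent.Lib.Transvec.SubfieldSL

set_option autoImplicit false
set_option linter.unusedSectionVars false

namespace Cfsg.Agent.TensorMax

open scoped Matrix
open Matrix Cfsg.Agent.Transvec

variable {α β : Type} [Fintype α] [DecidableEq α] [Fintype β] [DecidableEq β] {F : Type*} [Field F]
variable {M : Subgroup (GL (α × β) F)}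

/-- The functional x ↦ ψ · ctr φ x. -/
def pdual (ψ : α → F) (φ : β → F) : Module.Dual F (α × β → F) where
  toFun x := ψ ⬝ᵥ ctr φ x
  map_add' x y := by rw [map_add, dotProduct_add]
  map_smul' a x := by rw [map_smul, dotProduct_smul]; rfl

theorem pdual_apply (ψ : α → F) (φ : β → F) (x : α × β → F) : pdual ψ φ x = ψ ⬝ᵥ ctr φ x := rfl

theorem pdual_ten (ψ : α → F) (φ : β → F) (u : α → F) (w : β → F) :
    pdual ψ φ (ten u w) = (φ ⬝ᵥ w) * (ψ ⬝ᵥ u) := by
  rw [pdual_apply, ctr_ten, dotProduct_smul, smul_eq_mul]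

/-- x ↦ x + (v^T x) u, a map of α → F. -/
def outer (u ψ : α → F) : (α → F) →ₗ[F] α → F where
  toFun z := (ψ ⬝ᵥ z) • u
  map_add' a b := by rw [dotProduct_add, add_smul]
  map_smul' a z := by rw [dotProduct_smul, smul_eq_mul, mul_smul]; rfl

@[simp] theorem outer_apply (u ψ z : α → F) : outer u ψ z = (ψ ⬝ᵥ z) • u := rfl

/-- The radical elements: maps Z killing the line of c with x ↦ x + Z(x) ⊗ c in M. -/
def RadSet (M : Subgroup (GL (α × β) F)) (c : β → F) : Set ((α × β → F) →ₗ[F] α → F) :=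
  {Z | (∀ u, Z (ten u c) = 0) ∧ ∃ g ∈ M, ∀ x, mv g x = x + ten (Z x) c}

theorem radSet_add {c : β → F} {Z Z' : (α × β → F) →ₗ[F] α → F} (h : Z ∈ RadSet M c)
    (h' : Z' ∈ RadSet M c) : Z + Z' ∈ RadSet M c := by
  obtain ⟨hk, g, hg, hgx⟩ := h
  obtain ⟨hk', g', hg', hgx'⟩ := h'
  refine ⟨fun u => by simp [hk, hk'], g * g', M.mul_mem hg hg', fun x => ?_⟩
  rw [mv_mul, hgx', hgx, map_add, hk, add_zero, LinearMap.add_apply, ten_add_left]
  abel

theorem radSet_neg {c : β → F} {Z : (α × β → F) →ₗ[F] α → F} (h : Z ∈ RadSet M c) :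
    -Z ∈ RadSet M c := by
  obtain ⟨hk, g, hg, hgx⟩ := h
  refine ⟨fun u => by simp [hk], g⁻¹, M.inv_mem hg, fun x => ?_⟩
  rw [mv_eq_iff, inv_inv, hgx, map_add, hk, add_zero, LinearMap.neg_apply, ten_neg_left]
  abel

theorem radSet_sub {c : β → F} {Z Z' : (α × β → F) →ₗ[F] α → F} (h : Z ∈ RadSet M c)
    (h' : Z' ∈ RadSet M c) : Z - Z' ∈ RadSet M c := by
  rw [sub_eq_add_neg]; exact radSet_add h (radSet_neg h')

/-- The endomorphisms Y with Y ∘ ctr φ in the radical. -/
def EndSet (M : Subgroup (GL (α × β) F)) (c φ : β → F) : Set ((α → F) →ₗ[F] α → F) :=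
  {Y | Y.comp (ctr φ) ∈ RadSet M c}

theorem endSet_sub {c φ : β → F} {Y Y' : (α → F) →ₗ[F] α → F} (h : Y ∈ EndSet M c φ)
    (h' : Y' ∈ EndSet M c φ) : Y - Y' ∈ EndSet M c φ := by
  show (Y - Y').comp (ctr φ) ∈ RadSet M c
  rw [LinearMap.sub_comp]
  exact radSet_sub h h'

theorem endSet_scalar (hT : ∀ (c φ : β → F) (h : φ ⬝ᵥ c = 0), tT α c φ h ∈ M)
    {c φ : β → F} (hφ : φ ⬝ᵥ c = 0) (s : F) :
    (s • LinearMap.id : (α → F) →ₗ[F] α → F) ∈ EndSet M c φ := by
  refine ⟨fun u => by simp [ctr_ten, hφ], tT α c (s • φ) (by rw [smul_dotProduct, hφ, smul_zero]),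
    hT _ _ _, fun x => ?_⟩
  rw [mv_tT, ctr_smul_vec]
  rfl

/-- The change of Y under conjugation by a first factor transvection. -/
def delta (e ψ : α → F) (Y : (α → F) →ₗ[F] α → F) : (α → F) →ₗ[F] α → F :=
  (LinearMap.id + outer e ψ).comp (Y.comp (LinearMap.id - outer e ψ)) - Y

theorem delta_apply (e ψ : α → F) (Y : (α → F) →ₗ[F] α → F) (z : α → F) :
    delta e ψ Y z = (ψ ⬝ᵥ Y z) • e - (ψ ⬝ᵥ z) • Y e - ((ψ ⬝ᵥ z) * (ψ ⬝ᵥ Y e)) • e := by
  simp only [delta, LinearMap.sub_apply, LinearMap.comp_apply, LinearMap.add_apply, LinearMap.id_apply,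
    outer_apply, map_sub, map_smul, dotProduct_sub, dotProduct_smul, smul_eq_mul, sub_smul, smul_add,
    smul_smul]
  abel

theorem delta_mem (hU : ∀ (e ψ : α → F) (h : ψ ⬝ᵥ e = 0), uT β e ψ h ∈ M)
    {c φ : β → F} {Y : (α → F) →ₗ[F] α → F} (h : Y ∈ EndSet M c φ) {e ψ : α → F}
    (hψ : ψ ⬝ᵥ e = 0) : delta e ψ Y ∈ EndSet M c φ := by
  refine endSet_sub ?_ h
  obtain ⟨hk, g, hg, hgx⟩ := h
  refine ⟨fun u => ?_, uT β e ψ hψ * g * (uT β e ψ hψ)⁻¹,
    M.mul_mem (M.mul_mem (hU _ _ _) hg) (M.inv_mem (hU _ _ _)), fun x => ?_⟩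
  · rw [LinearMap.comp_apply, ctr_ten, map_smul]
    rcases eq_or_ne (φ ⬝ᵥ c) 0 with h0 | h0
    · rw [h0, zero_smul]
    · have hY : ∀ v, Y v = 0 := fun v => by
        have := hk v
        rw [LinearMap.comp_apply, ctr_ten, map_smul, smul_eq_zero] at this
        exact this.resolve_left h0
      simp [hY]
  · rw [mv_mul, mv_mul, hgx, mv_add, mv_mv_inv, LinearMap.comp_apply, LinearMap.comp_apply,
      LinearMap.comp_apply, mv_uT_inv, map_sub, ctr_ten, dot_ctrL, mv_uT, ctrL_ten]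
    congr 1
    simp only [LinearMap.add_apply, LinearMap.sub_apply, LinearMap.comp_apply, LinearMap.id_apply, outer_apply]
    rw [ten_add_left, ten_smul_left, ten_smul_right]

/-- A transvection with pure centre and pure axis. -/
theorem exists_pure [Fintype F] (hex : ¬ (Fintype.card α = 2 ∧ Fintype.card F = 2))
    (ha : 2 ≤ Fintype.card α) (hb : 3 ≤ Fintype.card β)
    (hT : ∀ (c φ : β → F) (h : φ ⬝ᵥ c = 0), tT α c φ h ∈ M)
    (hU : ∀ (e ψ : α → F) (h : ψ ⬝ᵥ e = 0), uT β e ψ h ∈ M) (hS : ¬ ScalarRad M) :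
    ∃ (c φ : β → F) (e ψ : α → F), c ≠ 0 ∧ φ ≠ 0 ∧ e ≠ 0 ∧ ψ ≠ 0 ∧ φ ⬝ᵥ c = 0 ∧ ψ ⬝ᵥ e = 0 ∧
      outer e ψ ∈ EndSet M c φ := by
  classical
  unfold ScalarRad at hS
  push Not at hS
  obtain ⟨c, hc, g, hg, hgline, hgfix, hgnot⟩ := hS
  obtain ⟨θ, hθ⟩ := exists_dot_one hc
  set Z : (α × β → F) →ₗ[F] α → F := (ctr θ).comp (mvLin g - LinearMap.id) with hZ
  have hgx : ∀ x, mv g x = x + ten (Z x) c := fun x => by
    obtain ⟨u, hu⟩ := mem_line.1 (hgline x)
    have : Z x = u := by
      show ctr θ (mvLin g x - x) = u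
      rw [Matrix.toLin'_apply]
      show ctr θ (mv g x - x) = u
      rw [← hu, ctr_ten, hθ, one_smul]
    rw [this, hu, add_sub_cancel]
  have hZk : ∀ u, Z (ten u c) = 0 := fun u => by
    show ctr θ (mvLin g (ten u c) - ten u c) = 0
    rw [Matrix.toLin'_apply]
    show ctr θ (mv g (ten u c) - ten u c) = 0
    rw [hgfix, sub_self, map_zero]
  have hZmem : Z ∈ RadSet M c := ⟨hZk, g, hg, hgx⟩
  -- a non-scalar component
  obtain ⟨c', hY⟩ : ∃ c', ∀ s : F, Z.comp (rho c') ≠ s • LinearMap.id := by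
    by_contra hcon
    push Not at hcon
    choose s hs using hcon
    obtain ⟨i₀⟩ : Nonempty α := Fintype.card_pos_iff.1 (by omega)
    set u : α → F := Pi.single i₀ 1
    let f : (β → F) →ₗ[F] F :=
      { toFun := fun w => Z (ten u w) i₀
        map_add' := fun w w' => by rw [ten_add_right, map_add]; rfl
        map_smul' := fun a w => by rw [ten_smul_right, map_smul]; rfl }
    obtain ⟨φ, hφ⟩ := exists_vec f
    have hsf : ∀ w, s w = φ ⬝ᵥ w := fun w => by
      rw [hφ]
      have := congrFun (LinearMap.congr_fun (hs w) u) i₀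
      simpa [f, u] using this.symm
    have hZeq : Z = ctr φ := ext_ten fun u w => by
      have := LinearMap.congr_fun (hs w) u
      simp only [LinearMap.comp_apply, rho_apply, LinearMap.smul_apply, LinearMap.id_apply] at this
      rw [this, ctr_ten, hsf]
    have hφc : φ ⬝ᵥ c = 0 := by
      have := congrFun (hZk u) i₀
      rw [hZeq, ctr_ten] at this
      simpa [u] using this
    obtain ⟨x, hx⟩ := hgnot φ hφc
    exact hx (by rw [← hZeq]; exact hgx x)
  obtain ⟨φ, hφc, hφc', hφ0⟩ : ∃ φ : β → F, φ ⬝ᵥ c = 0 ∧ φ ⬝ᵥ c' = 0 ∧ φ ≠ 0 := by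
    obtain ⟨p, hp⟩ : ∃ p, p ∉ Submodule.span F ({c, c'} : Set (β → F)) := by
      by_contra hcon
      push Not at hcon
      have e1 := finrank_span_le_card (R := F) ({c, c'} : Set (β → F))
      rw [Submodule.eq_top_iff'.2 hcon, finrank_top, Module.finrank_fintype_fun_eq_card] at e1
      have : ({c, c'} : Set (β → F)).toFinset.card ≤ 2 := by
        rw [Set.toFinset_insert, Set.toFinset_singleton]
        exact Finset.card_le_two
      omega
    obtain ⟨φ, h1, h2⟩ := exists_dot hp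
    exact ⟨φ, h1 _ (Submodule.subset_span (Set.mem_insert _ _)),
      h1 _ (Submodule.subset_span (Set.mem_insert_of_mem _ rfl)),
      fun h => by rw [h, zero_dotProduct] at h2; exact zero_ne_one h2⟩
  have hYmem : Z.comp (rho c') ∈ EndSet M c φ := by
    have h2 : Z + (Z.comp (rho c')).comp (ctr φ) ∈ RadSet M c := by
      refine ⟨fun u => by simp [hZk, ctr_ten, hφc, ten_zero_left],
        (tT α c' φ hφc')⁻¹ * g * tT α c' φ hφc',
        M.mul_mem (M.mul_mem (M.inv_mem (hT _ _ _)) hg) (hT _ _ _), fun x => ?_⟩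
      rw [mv_mul, mv_mul, hgx, mv_tT, map_add, mv_tT_inv, map_add, map_add, ctr_ten, ctr_ten, hφc,
        hφc']
      simp only [LinearMap.add_apply, LinearMap.comp_apply, rho_apply, ten_add_left, zero_smul,
        add_zero]
      abel
    show (Z.comp (rho c')).comp (ctr φ) ∈ RadSet M c
    have := radSet_sub h2 hZmem
    rwa [add_sub_cancel_left] at this
  set Y := Z.comp (rho c') with hYdef
  -- a vector moved off its line
  obtain ⟨e, he⟩ : ∃ e, Y e ∉ Submodule.span F {e} := by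
    by_contra hcon
    push Not at hcon
    obtain ⟨i₀⟩ : Nonempty α := Fintype.card_pos_iff.1 (by omega)
    set e₀ : α → F := Pi.single i₀ 1
    have he₀ : e₀ ≠ 0 := by simp [e₀]
    obtain ⟨s, hs⟩ := Submodule.mem_span_singleton.1 (hcon e₀)
    refine hY s (LinearMap.ext fun u => ?_)
    show Y u = s • u
    by_cases hu : u ∈ Submodule.span F {e₀}
    · obtain ⟨b, rfl⟩ := Submodule.mem_span_singleton.1 hu
      rw [map_smul, ← hs, smul_comm]
    · obtain ⟨t, ht⟩ := Submodule.mem_span_singleton.1 (hcon u)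
      obtain ⟨r, hr⟩ := Submodule.mem_span_singleton.1 (hcon (e₀ + u))
      rw [map_add, ← hs, ← ht, smul_add] at hr
      have e1 : (r - t) • u = (s - r) • e₀ := by
        rw [sub_smul, sub_smul, sub_eq_sub_iff_add_eq_add, add_comm (r • u), hr]
      have hrt : r = t := by
        by_contra h
        exact hu (Submodule.mem_span_singleton.2 ⟨(r - t)⁻¹ * (s - r), by
          rw [mul_smul, ← e1, smul_smul, inv_mul_cancel₀ (sub_ne_zero.2 h), one_smul]⟩)
      rw [hrt, sub_self, zero_smul, eq_comm, smul_eq_zero, sub_eq_zero] at e1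
      rw [← ht, e1.resolve_right he₀]
  have he0 : e ≠ 0 := fun h => he (by rw [h, map_zero]; exact zero_mem _)
  obtain ⟨ψ₁, hψ₁, hψ₁f⟩ := exists_dot he
  have hψ₁e : ψ₁ ⬝ᵥ e = 0 := hψ₁ e (Submodule.mem_span_singleton_self e)
  by_cases h3 : 3 ≤ Fintype.card α
  · obtain ⟨p, hp⟩ : ∃ p, p ∉ Submodule.span F {e} ⊔ Submodule.span F {Y e} := by
      by_contra hcon
      push Not at hcon
      have e1 := Submodule.finrank_add_le_finrank_add_finrank (Submodule.span F {e})
        (Submodule.span F {Y e})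
      rw [Submodule.eq_top_iff'.2 hcon, finrank_top, Module.finrank_fintype_fun_eq_card] at e1
      have e2 := finrank_span_le_card (R := F) ({e} : Set (α → F))
      have e3 := finrank_span_le_card (R := F) ({Y e} : Set (α → F))
      simp at e2 e3
      omega
    obtain ⟨ψ₂, hψ₂, hψ₂p⟩ := exists_dot hp
    have hψ₂e : ψ₂ ⬝ᵥ e = 0 :=
      hψ₂ e (Submodule.mem_sup_left (Submodule.mem_span_singleton_self e))
    have hψ₂f : ψ₂ ⬝ᵥ Y e = 0 :=
      hψ₂ _ (Submodule.mem_sup_right (Submodule.mem_span_singleton_self _))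
    have h12 : (ψ₁ + ψ₂) ⬝ᵥ e = 0 := by rw [add_dotProduct, hψ₁e, hψ₂e, add_zero]
    have hmem := endSet_sub (endSet_sub (delta_mem hU hYmem hψ₁e) (delta_mem hU hYmem h12))
      (endSet_sub (endSet_scalar hT hφc 0) (delta_mem hU hYmem hψ₂e))
    refine ⟨c, φ, e, ψ₂, hc, hφ0, he0, fun h => ?_, hφc, hψ₂e, ?_⟩
    · rw [h, zero_dotProduct] at hψ₂p; exact zero_ne_one hψ₂p
    convert hmem using 1
    refine LinearMap.ext fun z => ?_
    simp only [LinearMap.sub_apply, LinearMap.smul_apply, LinearMap.id_apply, LinearMap.neg_apply, zero_smul, zero_sub,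
      delta_apply, outer_apply, add_dotProduct, hψ₁f, hψ₂f, add_zero, mul_one, mul_zero, add_smul,
      mul_add, add_mul]
    abel
  · -- two dimensional first factor
    have ha2 : Fintype.card α = 2 := by omega
    obtain ⟨s, hs0, hst⟩ : ∃ s : F, s ≠ 0 ∧ s ≠ ψ₁ ⬝ᵥ Y (Y e) := by
      by_contra hcon
      push Not at hcon
      refine hex ⟨ha2, le_antisymm ?_ Fintype.one_lt_card⟩
      rw [← Finset.card_univ]
      refine (Finset.card_le_card (t := {0, ψ₁ ⬝ᵥ Y (Y e)}) fun s _ => ?_).trans Finset.card_le_two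
      by_cases h : s = 0
      · simp [h]
      · simp [hcon s h]
    have hspan : ∀ z, ∃ p r : F, z = p • e + r • Y e := by
      have hli : Module.finrank F ↥(Submodule.span F {e} ⊔ Submodule.span F {Y e}) = 2 := by
        rw [Submodule.finrank_sup_span_singleton he, finrank_span_singleton he0]
      have htop : Submodule.span F {e} ⊔ Submodule.span F {Y e} = ⊤ :=
        Submodule.eq_top_of_finrank_eq (by rw [hli, Module.finrank_fintype_fun_eq_card, ha2])
      intro z
      obtain ⟨a, hm, b, hm', hz⟩ := Submodule.mem_sup.1 (htop ▸ (Submodule.mem_top : z ∈ ⊤))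
      obtain ⟨p, rfl⟩ := Submodule.mem_span_singleton.1 hm
      obtain ⟨r, rfl⟩ := Submodule.mem_span_singleton.1 hm'
      exact ⟨p, r, hz.symm⟩
    set ψs := s • ψ₁ with hψs
    have hse : ψs ⬝ᵥ e = 0 := by rw [hψs, smul_dotProduct, hψ₁e, smul_zero]
    by_cases h2 : (2 : F) = 0
    · have hmem := endSet_sub (delta_mem hU hYmem hse) (endSet_scalar hT hφc s)
      refine ⟨c, φ, e, (s * (ψ₁ ⬝ᵥ Y (Y e)) - s * s) • ψ₁, hc, hφ0, he0, ?_, hφc, ?_, ?_⟩
      · intro h
        have h' := congrArg (· ⬝ᵥ Y e) h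
        simp only [smul_dotProduct, zero_dotProduct, hψ₁f, smul_eq_mul, mul_one] at h'
        rw [← mul_sub, mul_eq_zero, sub_eq_zero] at h'
        exact h'.elim hs0 fun h'' => hst h''.symm
      · rw [smul_dotProduct, hψ₁e, smul_zero]
      convert hmem using 1
      refine LinearMap.ext fun z => ?_
      obtain ⟨p, r, rfl⟩ := hspan z
      simp only [LinearMap.sub_apply, LinearMap.smul_apply, LinearMap.id_apply, delta_apply,
        outer_apply, hψs, smul_dotProduct, dotProduct_add, dotProduct_smul, hψ₁e, hψ₁f, map_add,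
        map_smul, smul_eq_mul]
      match_scalars <;> first
        | ring1
        | linear_combination (r * s) * h2
        | linear_combination (p * s) * h2
    · have h2e : ((2 : F) • ψs) ⬝ᵥ e = 0 := by rw [smul_dotProduct, hse, smul_zero]
      have hmem := endSet_sub (endSet_sub (delta_mem hU hYmem h2e) (delta_mem hU hYmem hse))
        (delta_mem hU hYmem hse)
      refine ⟨c, φ, e, (-2 * s * s) • ψ₁, hc, hφ0, he0, ?_, hφc, ?_, ?_⟩
      · intro h
        have h' := congrArg (· ⬝ᵥ Y e) h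
        simp only [smul_dotProduct, zero_dotProduct, hψ₁f, smul_eq_mul, mul_one] at h'
        simp [hs0, h2] at h'
      · rw [smul_dotProduct, hψ₁e, smul_zero]
      convert hmem using 1
      refine LinearMap.ext fun z => ?_
      simp only [LinearMap.sub_apply, delta_apply, outer_apply, hψs, smul_dotProduct, hψ₁f,
        smul_eq_mul]
      match_scalars <;> ring1

end Cfsg.Agent.TensorMax
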