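/-
One transvection with pure centre and pure axis gives all transvections.
-/
import Cfsg.Agent.Lib.TensorMax.Grow

set_option autoImplicit false
set_option linter.unusedSectionVars false

namespace Cfsg.Agent.TensorMax

open scoped Matrix
open Matrix Cfsg.Agent.Transvec

variable {α β : Type} [Fintype α] [DecidableEq α] [Fintype β] [DecidableEq β] {F : Type*} [Field F]
variable {M : Subgroup (GL (α × β) F)}

theorem notMem_span_symm {κ : Type} {a b : κ → F} (ha : a ≠ 0)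
    (h : b ∉ Submodule.span F {a}) : a ∉ Submodule.span F {b} := fun hm => by
  obtain ⟨s, hs⟩ := Submodule.mem_span_singleton.1 hm
  have hs0 : s ≠ 0 := fun h0 => ha (by rw [← hs, h0, zero_smul])
  exact h (Submodule.mem_span_singleton.2 ⟨s⁻¹, by
    rw [← hs, smul_smul, inv_mul_cancel₀ hs0, one_smul]⟩)

theorem exists_perp_notMem {κ : Type} [Fintype κ] [DecidableEq κ] (hκ : 3 ≤ Fintype.card κ)
    (v c : κ → F) : ∃ p : κ → F, v ⬝ᵥ p = 0 ∧ p ∉ Submodule.span F {c} := by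
  by_cases hv : v = 0
  · obtain ⟨p, hp⟩ : ∃ p, p ∉ Submodule.span F ({c} : Set (κ → F)) := by
      by_contra hcon
      push Not at hcon
      have e1 := finrank_span_le_card (R := F) ({c} : Set (κ → F))
      rw [Submodule.eq_top_iff'.2 hcon, finrank_top, Module.finrank_fintype_fun_eq_card] at e1
      simp at e1
      omega
    exact ⟨p, by rw [hv, zero_dotProduct], hp⟩
  · by_contra hcon
    push Not at hcon
    have hle : perp v ≤ Submodule.span F {c} := fun p hp =>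
      hcon p (by rw [dotProduct_comm]; exact hp)
    have e1 := (Submodule.finrank_mono hle).trans (finrank_span_le_card (R := F) ({c} : Set (κ → F)))
    have e2 := finrank_perp hv
    simp at e1
    omega

/-- A property of incident pairs invariant under transvections passes to every vector. -/
theorem move_vec {κ : Type} [Fintype κ] [DecidableEq κ] (hκ : 2 ≤ Fintype.card κ)
    (P : (κ → F) → (κ → F) → Prop)
    (hP : ∀ e ψ e' η : κ → F, η ⬝ᵥ e' = 0 → P e ψ → P (e + (η ⬝ᵥ e) • e') (ψ - (ψ ⬝ᵥ e') • η))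
    {e ψ : κ → F} (he : e ≠ 0) (hψ : ψ ≠ 0) (hψe : ψ ⬝ᵥ e = 0) (h : P e ψ) {e₁ : κ → F}
    (he₁ : e₁ ≠ 0) : ∃ ψ₁, ψ₁ ≠ 0 ∧ ψ₁ ⬝ᵥ e₁ = 0 ∧ P e₁ ψ₁ := by
  have step : ∀ e₂ e ψ : κ → F, ψ ≠ 0 → ψ ⬝ᵥ e = 0 → e ∉ Submodule.span F {e₂ - e} → P e ψ →
      ∃ ψ₁, ψ₁ ≠ 0 ∧ ψ₁ ⬝ᵥ e₂ = 0 ∧ P e₂ ψ₁ := by
    intro e₂ e ψ hψ hψe hne h
    obtain ⟨η, hη1, hη2⟩ := exists_dot hne
    have hη : η ⬝ᵥ (e₂ - e) = 0 := hη1 _ (Submodule.mem_span_singleton_self _)
    have h' := hP e ψ (e₂ - e) η hη h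
    rw [hη2, one_smul, add_sub_cancel] at h'
    refine ⟨_, fun h0 => ?_, ?_, h'⟩
    · rw [sub_eq_zero] at h0
      have := congrArg (· ⬝ᵥ (e₂ - e)) h0
      simp only [smul_dotProduct, hη, smul_zero] at this
      rw [h0, this, zero_smul] at hψ
      exact hψ rfl
    · rw [sub_dotProduct, smul_dotProduct, smul_eq_mul,
        show η ⬝ᵥ e₂ = 1 by rw [← add_sub_cancel e e₂, dotProduct_add, hη, hη2, add_zero],
        dotProduct_sub, hψe, sub_zero, mul_one, sub_self]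
  have step' : ∀ e₂ e ψ : κ → F, e ≠ 0 → ψ ≠ 0 → ψ ⬝ᵥ e = 0 → e₂ ∉ Submodule.span F {e} → P e ψ →
      ∃ ψ₁, ψ₁ ≠ 0 ∧ ψ₁ ⬝ᵥ e₂ = 0 ∧ P e₂ ψ₁ := by
    intro e₂ e ψ he hψ hψe hne h
    refine step e₂ e ψ hψ hψe (notMem_span_symm he ?_) h
    intro hm
    exact hne (by simpa using Submodule.add_mem _ hm (Submodule.mem_span_singleton_self e))
  by_cases hind : e₁ ∈ Submodule.span F {e}
  · obtain ⟨p, hp⟩ : ∃ p, p ∉ Submodule.span F ({e} : Set (κ → F)) := by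
      by_contra hcon
      push Not at hcon
      have e1 := finrank_span_le_card (R := F) ({e} : Set (κ → F))
      rw [Submodule.eq_top_iff'.2 hcon, finrank_top, Module.finrank_fintype_fun_eq_card] at e1
      simp at e1
      omega
    obtain ⟨ψp, hψp0, hψp, hPp⟩ := step' p e ψ he hψ hψe hp h
    have hp0 : p ≠ 0 := fun h0 => hp (h0 ▸ zero_mem _)
    refine step' e₁ p ψp hp0 hψp0 hψp (notMem_span_symm he₁ fun hm => ?_) hPp
    exact hp ((Submodule.span_singleton_le_iff_mem _ _).2 hind hm)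
  · exact step' e₁ e ψ he hψ hψe hind h

/-- Fixing the vector, a property of incident pairs passes to every independent functional. -/
theorem move_dual {κ : Type} [Fintype κ] [DecidableEq κ] (P : (κ → F) → (κ → F) → Prop)
    (hP : ∀ e ψ e' η : κ → F, η ⬝ᵥ e' = 0 → P e ψ → P (e + (η ⬝ᵥ e) • e') (ψ - (ψ ⬝ᵥ e') • η))
    {e ψ ψ' : κ → F} (hψ : ψ ≠ 0) (hψe : ψ ⬝ᵥ e = 0) (hψ'e : ψ' ⬝ᵥ e = 0)
    (hind : ψ' ∉ Submodule.span F {ψ}) (h : P e ψ) : P e ψ' := by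
  have hne : ψ ∉ Submodule.span F {ψ - ψ'} := notMem_span_symm hψ fun hm => hind (by
    simpa using Submodule.sub_mem _ (Submodule.mem_span_singleton_self ψ) hm)
  obtain ⟨e', he1, he2⟩ := exists_dot hne
  have h1 : (ψ - ψ') ⬝ᵥ e' = 0 := by
    rw [dotProduct_comm]; exact he1 _ (Submodule.mem_span_singleton_self _)
  have h2 : ψ ⬝ᵥ e' = 1 := by rw [dotProduct_comm]; exact he2
  have h' := hP e ψ e' (ψ - ψ') h1 h
  rwa [sub_dotProduct, hψe, hψ'e, sub_zero, zero_smul, add_zero, h2, one_smul, sub_sub_cancel] at h'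

/-- The pure pairs whose transvection lies in M. -/
def PureTv (M : Subgroup (GL (α × β) F)) (e ψ : α → F) (c φ : β → F) : Prop :=
  ∀ h : pdual ψ φ (ten e c) = 0, tv (ten e c) (pdual ψ φ) h ∈ M

theorem pureTv_first (hU : ∀ (e ψ : α → F) (h : ψ ⬝ᵥ e = 0), uT β e ψ h ∈ M)
    (c φ : β → F) (hφ : φ ⬝ᵥ c = 0) (e ψ e' η : α → F) (hη : η ⬝ᵥ e' = 0)
    (h : PureTv M e ψ c φ) : PureTv M (e + (η ⬝ᵥ e) • e') (ψ - (ψ ⬝ᵥ e') • η) c φ := by
  intro h1
  have h0 : pdual ψ φ (ten e c) = 0 := by rw [pdual_ten, hφ, zero_mul]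
  rw [← tv_conj h0 (uT β e' η hη) h1 ?_ fun x => ?_]
  · exact M.mul_mem (M.mul_mem (hU _ _ _) (h h0)) (M.inv_mem (hU _ _ _))
  · rw [mv_uT, ctrL_ten, ten_add_left, ten_smul_left, ten_smul_right]
  · rw [pdual_apply, pdual_apply, ctr_uT]
    simp only [sub_dotProduct, smul_dotProduct, dotProduct_add, dotProduct_smul, hη, smul_eq_mul]
    ring

theorem pureTv_second (hT : ∀ (c φ : β → F) (h : φ ⬝ᵥ c = 0), tT α c φ h ∈ M)
    (e ψ : α → F) (hψ : ψ ⬝ᵥ e = 0) (c φ c' θ : β → F) (hθ : θ ⬝ᵥ c' = 0)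
    (h : PureTv M e ψ c φ) : PureTv M e ψ (c + (θ ⬝ᵥ c) • c') (φ - (φ ⬝ᵥ c') • θ) := by
  intro h1
  have h0 : pdual ψ φ (ten e c) = 0 := by rw [pdual_ten, hψ, mul_zero]
  rw [← tv_conj h0 (tT α c' θ hθ) h1 ?_ fun x => ?_]
  · exact M.mul_mem (M.mul_mem (hT _ _ _) (h h0)) (M.inv_mem (hT _ _ _))
  · rw [mv_tT, ctr_ten, ten_add_right, ten_smul_left, ten_smul_right]
  · rw [pdual_apply, pdual_apply, mv_tT, map_add, ctr_ten, ctr_sub_vec, ctr_smul_vec,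
      LinearMap.sub_apply, LinearMap.smul_apply]
    simp only [sub_dotProduct, smul_dotProduct, dotProduct_add, dotProduct_sub, dotProduct_smul, hθ,
      smul_eq_mul]
    ring

theorem pureTv_all (ha : 2 ≤ Fintype.card α) (hb : 3 ≤ Fintype.card β)
    (hT : ∀ (c φ : β → F) (h : φ ⬝ᵥ c = 0), tT α c φ h ∈ M)
    (hU : ∀ (e ψ : α → F) (h : ψ ⬝ᵥ e = 0), uT β e ψ h ∈ M)
    {e₀ ψ₀ : α → F} {c₀ φ₀ : β → F} (he₀ : e₀ ≠ 0) (hψ₀ : ψ₀ ≠ 0) (hc₀ : c₀ ≠ 0) (hφ₀ : φ₀ ≠ 0)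
    (hψe : ψ₀ ⬝ᵥ e₀ = 0) (hφc : φ₀ ⬝ᵥ c₀ = 0) (h₀ : PureTv M e₀ ψ₀ c₀ φ₀)
    {e : α → F} {c : β → F} (he : e ≠ 0) (hc : c ≠ 0) {ψ : α → F} {φ : β → F}
    (hψ : ψ ⬝ᵥ e = 0) (hφ : φ ⬝ᵥ c = 0) : PureTv M e ψ c φ := by
  obtain ⟨ψ₁, hψ₁0, hψ₁e, h1⟩ := move_vec ha (fun e ψ => PureTv M e ψ c₀ φ₀)
    (fun e ψ e' η hη h => pureTv_first hU c₀ φ₀ hφc e ψ e' η hη h) he₀ hψ₀ hψe h₀ he
  obtain ⟨φ₁, hφ₁0, hφ₁c, h2⟩ := move_vec (le_trans (by norm_num) hb) (fun c φ => PureTv M e ψ₁ c φ)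
    (fun c φ c' θ hθ h => pureTv_second hT e ψ₁ hψ₁e c φ c' θ hθ h) hc₀ hφ₀ hφc h1 hc
  -- any axis for the second factor
  have hB : ∀ φ' : β → F, φ' ⬝ᵥ c = 0 → φ' ≠ 0 → PureTv M e ψ₁ c φ' := by
    intro φ' hφ' hφ'0
    have hm := fun c φ c' θ hθ h => pureTv_second hT e ψ₁ hψ₁e c φ c' θ hθ h
    by_cases hind : φ' ∈ Submodule.span F {φ₁}
    · obtain ⟨p, hp, hpn⟩ : ∃ p : β → F, c ⬝ᵥ p = 0 ∧ p ∉ Submodule.span F {φ₁} :=
        exists_perp_notMem hb c φ₁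
      have hp' : p ⬝ᵥ c = 0 := by rw [dotProduct_comm]; exact hp
      have h3 := move_dual (fun c φ => PureTv M e ψ₁ c φ) hm hφ₁0 hφ₁c hp' hpn h2
      exact move_dual (fun c φ => PureTv M e ψ₁ c φ) hm (fun h0 => hpn (by rw [h0]; exact zero_mem _)) hp' hφ'
        (notMem_span_symm hφ'0 fun hh => hpn ((Submodule.span_singleton_le_iff_mem _ _).2 hind hh)) h3
    · exact move_dual (fun c φ => PureTv M e ψ₁ c φ) hm hφ₁0 hφ₁c hφ' hind h2
  intro hx
  by_cases hφ0 : φ = 0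
  · rw [show tv (ten e c) (pdual ψ φ) hx = 1 from ext_mv fun x => by
      rw [mv_tv, mv_one, pdual_apply, hφ0, ctr_zero_vec, LinearMap.zero_apply, dotProduct_zero,
        zero_smul, add_zero]]
    exact M.one_mem
  by_cases hind : ψ ∈ Submodule.span F {ψ₁}
  · obtain ⟨s, rfl⟩ := Submodule.mem_span_singleton.1 hind
    have e1 : pdual (s • ψ₁) φ = pdual ψ₁ (s • φ) := LinearMap.ext fun x => by
      rw [pdual_apply, pdual_apply, ctr_smul_vec, LinearMap.smul_apply, smul_dotProduct, dotProduct_smul]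
    rw [tv_congr hx (e1 ▸ hx) fun x => by rw [e1]]
    by_cases hs : s = 0
    · rw [show tv (ten e c) (pdual ψ₁ (s • φ)) (e1 ▸ hx) = 1 from ext_mv fun x => by
        rw [mv_tv, mv_one, pdual_apply, hs, zero_smul, ctr_zero_vec, LinearMap.zero_apply,
          dotProduct_zero, zero_smul, add_zero]]
      exact M.one_mem
    · exact hB (s • φ) (by rw [smul_dotProduct, hφ, smul_zero]) (smul_ne_zero hs hφ0) _
  · exact move_dual (fun e ψ => PureTv M e ψ c φ)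
      (fun e ψ e' η hη h => pureTv_first hU c φ hφ e ψ e' η hη h) hψ₁0 hψ₁e hψ hind (hB φ hφ hφ0) hx

theorem pureTv_comm {e e' ψ₁ ψ : α → F} {c c' φ₁ φ : β → F}
    (h1 : PureTv M e ψ₁ c φ₁) (h2 : PureTv M e' ψ c' φ)
    (hv : pdual ψ₁ φ₁ (ten e c) = 0) (hw : pdual ψ φ (ten e' c') = 0)
    (hvw : pdual ψ₁ φ₁ (ten e' c') = 1) : PureTv M e ψ c φ := by
  intro h
  have h'' : (pdual ψ₁ φ₁ (ten e' c') • pdual ψ φ) (ten e c) = 0 := by
    rw [LinearMap.smul_apply, h, smul_zero]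
  have := comm_mem (h1 hv) (h2 hw)
  rw [tv_comm_axis hv hw h h''] at this
  convert this using 1
  exact tv_congr _ _ fun x => by rw [hvw, one_smul]

/-- All transvections from one pure one. -/
theorem sl_le_of_pure (ha : 2 ≤ Fintype.card α) (hb : 3 ≤ Fintype.card β)
    (hT : ∀ (c φ : β → F) (h : φ ⬝ᵥ c = 0), tT α c φ h ∈ M)
    (hU : ∀ (e ψ : α → F) (h : ψ ⬝ᵥ e = 0), uT β e ψ h ∈ M)
    {e₀ ψ₀ : α → F} {c₀ φ₀ : β → F} (he₀ : e₀ ≠ 0) (hψ₀ : ψ₀ ≠ 0) (hc₀ : c₀ ≠ 0) (hφ₀ : φ₀ ≠ 0)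
    (hψe : ψ₀ ⬝ᵥ e₀ = 0) (hφc : φ₀ ⬝ᵥ c₀ = 0) (h₀ : PureTv M e₀ ψ₀ c₀ φ₀) :
    Geo.specialLinear (α × β) F ≤ M := by
  have hA : ∀ (e ψ : α → F) (c φ : β → F), e ≠ 0 → c ≠ 0 → ψ ⬝ᵥ e = 0 → φ ⬝ᵥ c = 0 →
      PureTv M e ψ c φ := fun e ψ c φ he hc hψ hφ =>
    pureTv_all ha hb hT hU he₀ hψ₀ hc₀ hφ₀ hψe hφc h₀ he hc hψ hφ
  have hB : ∀ (e ψ : α → F) (c φ : β → F), e ≠ 0 → c ≠ 0 → φ ⬝ᵥ c = 0 → PureTv M e ψ c φ := by
    intro e ψ c φ he hc hφ
    by_cases hψ : ψ ⬝ᵥ e = 0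
    · exact hA e ψ c φ he hc hψ hφ
    obtain ⟨p, hp⟩ : ∃ p, p ∉ Submodule.span F ({e} : Set (α → F)) := by
      by_contra hcon
      push Not at hcon
      have e1 := finrank_span_le_card (R := F) ({e} : Set (α → F))
      rw [Submodule.eq_top_iff'.2 hcon, finrank_top, Module.finrank_fintype_fun_eq_card] at e1
      simp at e1
      omega
    set e' := p - ((ψ ⬝ᵥ p) / (ψ ⬝ᵥ e)) • e with he'
    have hψe' : ψ ⬝ᵥ e' = 0 := by
      rw [he', dotProduct_sub, dotProduct_smul, smul_eq_mul, div_mul_cancel₀ _ hψ, sub_self]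
    have he'n : e' ∉ Submodule.span F {e} := fun hm => hp (by
      simpa [he'] using Submodule.add_mem _ hm
        (Submodule.smul_mem _ ((ψ ⬝ᵥ p) / (ψ ⬝ᵥ e)) (Submodule.mem_span_singleton_self e)))
    have he'0 : e' ≠ 0 := fun h => he'n (h ▸ zero_mem _)
    obtain ⟨c', hc'φ, hc'n⟩ := exists_perp_notMem hb φ c
    have hc'0 : c' ≠ 0 := fun h => hc'n (h ▸ zero_mem _)
    obtain ⟨ψ₁, hψ₁, hψ₁'⟩ := exists_dot he'n
    obtain ⟨φ₁, hφ₁, hφ₁'⟩ := exists_dot hc'n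
    have a1 : ψ₁ ⬝ᵥ e = 0 := hψ₁ e (Submodule.mem_span_singleton_self e)
    have a2 : φ₁ ⬝ᵥ c = 0 := hφ₁ c (Submodule.mem_span_singleton_self c)
    exact pureTv_comm (hA e ψ₁ c φ₁ he hc a1 a2) (hA e' ψ c' φ he'0 hc'0 hψe' hc'φ)
      (by rw [pdual_ten, a1, mul_zero]) (by rw [pdual_ten, hψe', mul_zero])
      (by rw [pdual_ten, hψ₁', hφ₁', one_mul])
  have hC : ∀ (e ψ : α → F) (c φ : β → F), e ≠ 0 → c ≠ 0 → pdual ψ φ (ten e c) = 0 →
      PureTv M e ψ c φ := by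
    intro e ψ c φ he hc h
    by_cases hφ : φ ⬝ᵥ c = 0
    · exact hB e ψ c φ he hc hφ
    obtain ⟨c', hc'φ, hc'n⟩ := exists_perp_notMem hb φ c
    have hc'0 : c' ≠ 0 := fun h => hc'n (h ▸ zero_mem _)
    obtain ⟨ψ₁, hψ₁⟩ := exists_dot_one he
    obtain ⟨φ₁, hφ₁, hφ₁'⟩ := exists_dot hc'n
    have a2 : φ₁ ⬝ᵥ c = 0 := hφ₁ c (Submodule.mem_span_singleton_self c)
    exact pureTv_comm (hB e ψ₁ c φ₁ he hc a2) (hB e ψ c' φ he hc'0 hc'φ)
      (by rw [pdual_ten, a2, zero_mul]) (by rw [pdual_ten, hc'φ, zero_mul])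
      (by rw [pdual_ten, hψ₁, hφ₁', one_mul])
  have hcent : ∀ (e : α → F) (c : β → F), ten e c ∈ centres M := by
    intro e c
    by_cases he : e = 0
    · rw [he, ten_zero_left]; exact centres_zero M
    by_cases hc : c = 0
    · rw [hc, ten_zero_right]; exact centres_zero M
    obtain ⟨θ, hθ⟩ := exists_dot_one hc
    intro Λ hΛ
    -- coefficient vectors of the functional
    choose r hr using fun i : α => exists_vec (Λ.comp (lam (Pi.single i (1 : F) : α → F)))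
    set ψ' : α → F := fun i => r i ⬝ᵥ c with hψ'
    have hdec : ∀ u w, Λ (ten u w) = ∑ i, u i * (r i ⬝ᵥ w) := by
      intro u w
      have : ten u w = ∑ i, u i • ten (Pi.single i (1 : F) : α → F) w := by
        funext ⟨a, b⟩
        rw [Finset.sum_apply, Finset.sum_eq_single a]
        · simp [ten]
        · intro i _ hi; simp [ten, Ne.symm hi]
        · simp
      rw [this, map_sum]
      exact Finset.sum_congr rfl fun i _ => by rw [map_smul, hr]; rfl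
    have hsum : Λ = (∑ i, pdual (Pi.single i (1 : F) : α → F) (r i - (r i ⬝ᵥ c) • θ)) + pdual ψ' θ := by
      refine ext_ten fun u w => ?_
      rw [LinearMap.add_apply, LinearMap.sum_apply, hdec, pdual_ten,
        show ψ' ⬝ᵥ u = ∑ i, ψ' i * u i from rfl, Finset.mul_sum, ← Finset.sum_add_distrib]
      refine Finset.sum_congr rfl fun i _ => ?_
      rw [pdual_ten, single_dotProduct, sub_dotProduct, smul_dotProduct, smul_eq_mul, hψ']
      ring
    have key : ∀ (s : Finset α) (h : (∑ i ∈ s, pdual (Pi.single i (1 : F) : α → F)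
        (r i - (r i ⬝ᵥ c) • θ)) (ten e c) = 0),
        tv (ten e c) (∑ i ∈ s, pdual (Pi.single i (1 : F) : α → F) (r i - (r i ⬝ᵥ c) • θ)) h ∈ M := by
      intro s
      induction s using Finset.induction_on with
      | empty =>
        intro h
        rw [show tv (ten e c) _ h = 1 from ext_mv fun x => by simp [mv_tv, mv_one]]
        exact M.one_mem
      | insert i s his ih =>
        intro h
        have h1 : pdual (Pi.single i (1 : F) : α → F) (r i - (r i ⬝ᵥ c) • θ) (ten e c) = 0 := by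
          rw [pdual_ten, sub_dotProduct, smul_dotProduct, hθ, smul_eq_mul, mul_one, sub_self, zero_mul]
        have h2 := h
        rw [Finset.sum_insert his, LinearMap.add_apply, h1, zero_add] at h2
        rw [show tv (ten e c) _ h = tv _ _ h1 * tv _ _ h2 by
          rw [tv_mul_tv]; exact tv_congr _ _ fun x => by rw [Finset.sum_insert his]]
        exact M.mul_mem (hC _ _ _ _ he hc h1 h1) (ih h2)
    have h1 : (∑ i, pdual (Pi.single i (1 : F) : α → F) (r i - (r i ⬝ᵥ c) • θ)) (ten e c) = 0 := by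
      rw [LinearMap.sum_apply]
      exact Finset.sum_eq_zero fun i _ => by
        rw [pdual_ten, sub_dotProduct, smul_dotProduct, hθ, smul_eq_mul, mul_one, sub_self, zero_mul]
    have h2 := hΛ
    rw [hsum, LinearMap.add_apply, h1, zero_add] at h2
    rw [show tv (ten e c) Λ hΛ = tv _ _ h1 * tv _ _ h2 by
      rw [tv_mul_tv]; exact tv_congr _ _ fun x => by rw [← hsum]]
    exact M.mul_mem (key _ h1) (hC _ _ _ _ he hc h2 h2)
  refine specialLinear_le fun v Λ h => ?_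
  have hv : v ∈ centreSpace M := by
    rw [eq_sum_ten v]
    exact Submodule.sum_mem _ fun k _ => hcent _ _
  exact hv Λ h

/-- Outside the scalar case the special linear group is contained. -/
theorem sl_le_of_not_scalar [Fintype F] (hex : ¬ (Fintype.card α = 2 ∧ Fintype.card F = 2))
    (ha : 2 ≤ Fintype.card α) (hb : 3 ≤ Fintype.card β)
    (hT : ∀ (c φ : β → F) (h : φ ⬝ᵥ c = 0), tT α c φ h ∈ M)
    (hU : ∀ (e ψ : α → F) (h : ψ ⬝ᵥ e = 0), uT β e ψ h ∈ M) (hS : ¬ ScalarRad M) :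
    Geo.specialLinear (α × β) F ≤ M := by
  obtain ⟨c, φ, e, ψ, hc, hφ, he, hψ, hφc, hψe, hk, g, hg, hgx⟩ := exists_pure hex ha hb hT hU hS
  refine sl_le_of_pure ha hb hT hU he hψ hc hφ hψe hφc fun h => ?_
  rw [show tv (ten e c) (pdual ψ φ) h = g from ext_mv fun x => by
    rw [mv_tv, hgx, LinearMap.comp_apply, outer_apply, ten_smul_left, pdual_apply]]
  exact hg

end Cfsg.Agent.TensorMax
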