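/-
Stabilisers of tensor decompositions with two factors of different dimensions are maximal in
the special linear group.
-/
import Cfsg.Agent.Lib.TensorMax.Kron
import Cfsg.Agent.Lib.TensorMax.Full

set_option autoImplicit false
set_option linter.unusedSectionVars false

namespace Cfsg.Agent.TensorMax

open scoped Matrix Kronecker
open Matrix Cfsg.Agent.Transvec

variable {α β : Type} [Fintype α] [DecidableEq α] [Fintype β] [DecidableEq β] {F : Type*} [Field F]

theorem isKron_tT [Nonempty α] [Nonempty β] (c φ : β → F) (h : φ ⬝ᵥ c = 0) :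
    IsKron (tT α c φ h) := by
  refine isKron_of_ten 1 (1 + Matrix.vecMulVec c φ) fun u w => ?_
  rw [mv_tT, ctr_ten, Matrix.one_mulVec, Matrix.add_mulVec, Matrix.one_mulVec,
    Matrix.vecMulVec_mulVec, op_smul_eq_smul, ten_add_right, ten_smul_left, ten_smul_right]

theorem isKron_uT [Nonempty α] [Nonempty β] (e ψ : α → F) (h : ψ ⬝ᵥ e = 0) :
    IsKron (uT β e ψ h) := by
  refine isKron_of_ten (1 + Matrix.vecMulVec e ψ) 1 fun u w => ?_
  rw [mv_uT, ctrL_ten, Matrix.one_mulVec, Matrix.add_mulVec, Matrix.one_mulVec,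
    Matrix.vecMulVec_mulVec, op_smul_eq_smul, ten_add_left, ten_smul_left, ten_smul_right]

theorem maximal_std [Fintype F] (ha : 2 ≤ Fintype.card α) (hab : Fintype.card α < Fintype.card β)
    (hex : ¬ (Fintype.card α = 2 ∧ Fintype.card F = 2)) {K : Subgroup (GL (α × β) F)}
    (hK : ∀ g, g ∈ K ↔ IsKron g) :
    Geo.IsMaximalIn (Geo.specialLinear (α × β) F) (K ⊓ Geo.specialLinear (α × β) F) := by
  haveI : Nonempty α := Fintype.card_pos_iff.1 (by omega)
  haveI : Nonempty β := Fintype.card_pos_iff.1 (by omega)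
  have hTs : ∀ (c φ : β → F) (h : φ ⬝ᵥ c = 0), tT α c φ h ∈ K ⊓ Geo.specialLinear (α × β) F :=
    fun c φ h => ⟨(hK _).2 (isKron_tT c φ h), sh_mem_specialLinear _ _⟩
  have hUs : ∀ (e ψ : α → F) (h : ψ ⬝ᵥ e = 0), uT β e ψ h ∈ K ⊓ Geo.specialLinear (α × β) F :=
    fun e ψ h => ⟨(hK _).2 (isKron_uT e ψ h), sh_mem_specialLinear _ _⟩
  refine ⟨lt_of_le_of_ne inf_le_right fun heq => ?_, fun M h1 h2 => ?_⟩
  · -- a transvection with pure centre and pure axis is not a Kronecker product
    obtain ⟨i₁, i₂, hi⟩ := Fintype.one_lt_card_iff.1 (by omega : 1 < Fintype.card α)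
    obtain ⟨k₁, k₂, hk⟩ := Fintype.one_lt_card_iff.1 (by omega : 1 < Fintype.card β)
    set e : α → F := Pi.single i₁ 1
    set f : α → F := Pi.single i₂ 1
    set c : β → F := Pi.single k₁ 1
    set d : β → F := Pi.single k₂ 1
    have h0 : pdual f d (ten e c) = 0 := by simp [pdual_ten, e, f, c, d, hi]
    obtain ⟨hKt, -⟩ : tv (ten e c) (pdual f d) h0 ∈ K ⊓ Geo.specialLinear (α × β) F := by
      rw [heq]; exact tv_mem_specialLinear h0
    obtain ⟨A, B, hAB⟩ := (hK _).1 hKt
    have hmv : ∀ u w, ten u w + ((d ⬝ᵥ w) * (f ⬝ᵥ u)) • ten e c =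
        ten ((A : Matrix α α F) *ᵥ u) ((B : Matrix β β F) *ᵥ w) := fun u w => by
      rw [← kronecker_mulVec_ten, ← hAB, ← pdual_ten, ← mv_tv h0]
    have e1 := hmv f d
    have q1 := congrFun e1 (i₁, k₂)
    have q2 := congrFun e1 (i₁, k₁)
    have q3 := congrFun e1 (i₂, k₂)
    have q4 := congrFun e1 (i₂, k₁)
    simp [ten, e, f, c, d, hi, hi.symm, hk, hk.symm] at q1 q2 q3 q4
    rcases q1 with h | h
    · rw [h, zero_mul] at q2; exact one_ne_zero q2
    · rw [h, mul_zero] at q3; exact one_ne_zero q3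
  · have hT := fun c φ h => h1 (hTs c φ h)
    have hU := fun e ψ h => h1 (hUs e ψ h)
    by_cases hS : ScalarRad M
    · exact Or.inl (le_antisymm (fun g hg =>
        ⟨(hK g).2 (isKron_of_lines fun c hc => map_line hab hT hU hS hg hc), h2 hg⟩) h1)
    · exact Or.inr (le_antisymm h2 (sl_le_of_not_scalar hex ha (by omega) hT hU hS))

/-- Maximality is preserved by isomorphisms. -/
theorem isMaximalIn_map {G G' : Type*} [Group G] [Group G'] (f : G ≃* G') {K H : Subgroup G}
    (h : Geo.IsMaximalIn K H) : Geo.IsMaximalIn (K.map f.toMonoidHom) (H.map f.toMonoidHom) := by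
  refine ⟨(Subgroup.map_lt_map_iff_of_injective f.injective).2 h.1, fun M h1 h2 => ?_⟩
  have h3 : M.comap f.toMonoidHom = H ∨ M.comap f.toMonoidHom = K := by
    refine h.2 _ (Subgroup.map_le_iff_le_comap.1 h1) ?_
    intro g hg
    obtain ⟨g', hg', hgg⟩ := h2 hg
    rwa [f.injective hgg] at hg'
  have hM : (M.comap f.toMonoidHom).map f.toMonoidHom = M :=
    Subgroup.map_comap_eq_self_of_surjective f.surjective M
  rcases h3 with h3 | h3
  · exact Or.inl (by rw [← hM, h3])
  · exact Or.inr (by rw [← hM, h3])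

theorem map_conj_specialLinear {ι κ : Type} [Fintype ι] [DecidableEq ι] [Fintype κ] [DecidableEq κ]
    (e : κ ≃ ι) (P : GL ι F) :
    ((Geo.specialLinear κ F).map (Geo.glReindex (F := F) e).toMonoidHom).map
      (MulAut.conj P).toMonoidHom = Geo.specialLinear ι F := by
  have hdet : ∀ g : GL κ F, Matrix.GeneralLinearGroup.det (Geo.glReindex e g) =
      Matrix.GeneralLinearGroup.det g := fun g => Units.ext (by
    rw [Matrix.GeneralLinearGroup.val_det_apply, Matrix.GeneralLinearGroup.val_det_apply]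
    exact Matrix.det_reindex_self e _)
  ext x
  simp only [Subgroup.mem_map, Geo.specialLinear, MonoidHom.mem_ker]
  constructor
  · rintro ⟨y, ⟨z, hz, rfl⟩, rfl⟩
    simp [MulAut.conj_apply, map_mul, hdet, hz]
  · intro hx
    refine ⟨P⁻¹ * x * P, ⟨(Geo.glReindex e).symm (P⁻¹ * x * P), ?_, by simp⟩, ?_⟩
    · rw [← hdet, MulEquiv.apply_symm_apply, map_mul, map_mul, map_inv, hx, mul_one, inv_mul_cancel]
    · simp [MulAut.conj_apply, mul_assoc]

/-- The stabiliser of a tensor decomposition with unequal factors is maximal in the special linear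
group. -/
theorem tensor_maximal {ι : Type} [Fintype ι] [DecidableEq ι] [Fintype F] (n₁ n₂ : ℕ) (h1 : 2 ≤ n₁)
    (h12 : n₁ < n₂) (hex : ¬ (n₁ = 2 ∧ Fintype.card F = 2)) (e : ι ≃ Fin n₁ × Fin n₂) (P : GL ι F) :
    Geo.IsMaximalIn (Geo.specialLinear ι F)
      (Geo.tensorProductSubgroup n₁ n₂ e P ⊓ Geo.specialLinear ι F) := by
  have h := maximal_std (α := Fin n₁) (β := Fin n₂) (K := Geo.kroneckerSubgroup n₁ n₂ F)
    (by simpa using h1) (by simpa using h12) (by simpa using hex) (fun g => Iff.rfl)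
  have h' := isMaximalIn_map (MulAut.conj P) (isMaximalIn_map (Geo.glReindex e.symm) h)
  rw [map_conj_specialLinear,
    Subgroup.map_inf _ _ (Geo.glReindex (F := F) e.symm).toMonoidHom (Geo.glReindex e.symm).injective,
    Subgroup.map_inf _ _ (MulAut.conj P).toMonoidHom (MulAut.conj P).injective,
    map_conj_specialLinear] at h'
  exact h'

end Cfsg.Agent.TensorMax
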