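/-
The tensor product of two unitary forms, factor isometries, and the shears fixing a line U ⊗ c.
-/
import Cfsg.Agent.Lib.TensorMax.Kron
import Cfsg.Agent.Lib.Transvec.HermStab

set_option autoImplicit false
set_option linter.unusedSectionVars false

namespace Cfsg.Agent.TensorMax.U

open scoped Matrix Kronecker
open Matrix Cfsg.Agent.Transvec Cfsg.Agent.Transvec.Herm

variable {α β : Type} [Fintype α] [DecidableEq α] [Fintype β] [DecidableEq β] {F : Type*} [Field F]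
variable {σ : F ≃+* F} {f₁ : (α → F) → (α → F) → F} {f₂ : (β → F) → (β → F) → F}

/-- The Kronecker product of two invertible matrices. -/
noncomputable def kr (A : GL α F) (B : GL β F) : GL (α × β) F where
  val := (A : Matrix α α F) ⊗ₖ (B : Matrix β β F)
  inv := ((A⁻¹ : GL α F) : Matrix α α F) ⊗ₖ ((B⁻¹ : GL β F) : Matrix β β F)
  val_inv := by
    rw [← Matrix.mul_kronecker_mul, ← Units.val_mul, ← Units.val_mul, mul_inv_cancel, mul_inv_cancel,
      Units.val_one, Units.val_one, Matrix.one_kronecker_one]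
  inv_val := by
    rw [← Matrix.mul_kronecker_mul, ← Units.val_mul, ← Units.val_mul, inv_mul_cancel, inv_mul_cancel,
      Units.val_one, Units.val_one, Matrix.one_kronecker_one]

theorem mv_kr_ten (A : GL α F) (B : GL β F) (u : α → F) (w : β → F) :
    mv (kr A B) (ten u w) = ten (mv A u) (mv B w) :=
  kronecker_mulVec_ten _ _ u w

theorem isKron_kr (A : GL α F) (B : GL β F) : IsKron (kr A B) := ⟨A, B, rfl⟩

theorem isKron_mul {g h : GL (α × β) F} (hg : IsKron g) (hh : IsKron h) : IsKron (g * h) := by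
  obtain ⟨A, B, hg⟩ := hg
  obtain ⟨A', B', hh⟩ := hh
  exact ⟨A * A', B * B', by
    rw [Units.val_mul, hg, hh, ← Matrix.mul_kronecker_mul, Units.val_mul, Units.val_mul]⟩

theorem isKron_inv {g : GL (α × β) F} (hg : IsKron g) : IsKron g⁻¹ := by
  obtain ⟨A, B, hg⟩ := hg
  have : g = kr A B := Units.ext hg
  rw [this]
  exact ⟨A⁻¹, B⁻¹, rfl⟩

theorem mv_kron_ten {g : GL (α × β) F} (hg : IsKron g) :
    ∃ (A : GL α F) (B : GL β F), ∀ u w, mv g (ten u w) = ten (mv A u) (mv B w) := by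
  obtain ⟨A, B, hg⟩ := hg
  exact ⟨A, B, fun u w => by
    show (g : Matrix (α × β) (α × β) F) *ᵥ ten u w = _
    rw [hg, kronecker_mulVec_ten]⟩

theorem ext_ten_mv {g h : GL (α × β) F} (H : ∀ u w, mv g (ten u w) = mv h (ten u w)) : g = h := by
  have e : mvLin g = mvLin h := ext_ten fun u w => by simpa using H u w
  exact ext_mv fun x => by simpa using LinearMap.congr_fun e x

/-- The vector representing x ↦ f(x, c). -/
def frow {κ : Type} [DecidableEq κ] (f : (κ → F) → (κ → F) → F) (c : κ → F) : κ → F :=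
  fun k => f (Pi.single k 1) c

theorem frow_dot {κ : Type} [Fintype κ] [DecidableEq κ] {f : (κ → F) → (κ → F) → F}
    (hf : Geo.IsUnitaryForm σ f) (c x : κ → F) : frow f c ⬝ᵥ x = f x c := by
  show _ = formH hf c x
  conv_rhs => rw [pi_eq_sum_univ' x, map_sum]
  simp [dotProduct, frow, formH_apply, mul_comm]

theorem frow_smul {κ : Type} [Fintype κ] [DecidableEq κ] {f : (κ → F) → (κ → F) → F}
    (hf : Geo.IsUnitaryForm σ f) (a : F) (c : κ → F) : frow f (a • c) = σ a • frow f c := by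
  funext k
  show f (Pi.single k 1) (a • c) = σ a • f (Pi.single k 1) c
  rw [Herm.smul_right hf, smul_eq_mul]

theorem frow_add {κ : Type} [Fintype κ] [DecidableEq κ] {f : (κ → F) → (κ → F) → F}
    (hf : Geo.IsUnitaryForm σ f) (c c' : κ → F) : frow f (c + c') = frow f c + frow f c' :=
  funext fun k => Herm.add_right hf _ _ _

theorem frow_surj {κ : Type} [Fintype κ] [DecidableEq κ] {f : (κ → F) → (κ → F) → F}
    (hf : Geo.IsUnitaryForm σ f) (φ : κ → F) : ∃ c, frow f c = φ := by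
  let Φ : Module.Dual F (κ → F) :=
    { toFun := fun x => φ ⬝ᵥ x
      map_add' := fun x y => dotProduct_add _ _ _
      map_smul' := fun a x => dotProduct_smul a φ x }
  obtain ⟨z, hz⟩ := exists_eq_f hf Φ
  refine ⟨z, funext fun k => ?_⟩
  show f (Pi.single k 1) z = φ k
  rw [← hz]
  show φ ⬝ᵥ Pi.single k 1 = φ k
  simp

theorem frow_ne_zero {κ : Type} [Fintype κ] [DecidableEq κ] {f : (κ → F) → (κ → F) → F}
    (hf : Geo.IsUnitaryForm σ f) {c : κ → F} (hc : c ≠ 0) : frow f c ≠ 0 := by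
  intro h
  obtain ⟨x, hx⟩ := (hf.nondegenerate c hc).1
  exact hx (by rw [← frow_dot hf, h, zero_dotProduct])

/-- The tensor product of the two forms. -/
def tf (σ : F ≃+* F) (f₁ : (α → F) → (α → F) → F) (f₂ : (β → F) → (β → F) → F)
    (x y : α × β → F) : F :=
  Geo.formOfGram (fun a => σ a) (Geo.gramMatrix f₁ ⊗ₖ Geo.gramMatrix f₂) x y

theorem gram_apply {κ : Type} [Fintype κ] [DecidableEq κ] {f : (κ → F) → (κ → F) → F}
    (hf : Geo.IsUnitaryForm σ f) (u v : κ → F) :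
    ∑ a, ∑ b, u a * Geo.gramMatrix f a b * σ (v b) = f u v := by
  have h : ∀ a : κ, ∑ b : κ, Geo.gramMatrix f a b * σ (v b) = f (Pi.single a 1) v := by
    intro a
    rw [hf.herm _ v, show f v (Pi.single a 1) = formH hf (Pi.single a 1) v from rfl]
    conv_rhs => rw [pi_eq_sum_univ' v, map_sum, map_sum]
    refine Finset.sum_congr rfl fun b _ => ?_
    rw [map_smul, smul_eq_mul, map_mul, formH_apply, ← hf.herm, Geo.gramMatrix, mul_comm]
  rw [← frow_dot hf v u]
  refine Finset.sum_congr rfl fun a _ => ?_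
  show _ = f (Pi.single a 1) v * u a
  rw [← h, Finset.sum_mul]
  exact Finset.sum_congr rfl fun b _ => by ring

theorem tf_ten (h₁ : Geo.IsUnitaryForm σ f₁) (h₂ : Geo.IsUnitaryForm σ f₂) (u v : α → F)
    (w z : β → F) : tf σ f₁ f₂ (ten u w) (ten v z) = f₁ u v * f₂ w z := by
  rw [← gram_apply h₁, ← gram_apply h₂]
  simp only [tf, Geo.formOfGram, Fintype.sum_prod_type, ten_apply, Matrix.kroneckerMap_apply, map_mul,
    Finset.sum_mul, Finset.mul_sum]
  rw [Finset.sum_comm]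
  refine Finset.sum_congr rfl fun k _ => ?_
  conv_rhs => rw [Finset.sum_comm]
  refine Finset.sum_congr rfl fun a _ => ?_
  rw [Finset.sum_comm]
  exact Finset.sum_congr rfl fun l _ => Finset.sum_congr rfl fun b _ => by ring

theorem tf_add_left (x y v : α × β → F) :
    tf σ f₁ f₂ (x + y) v = tf σ f₁ f₂ x v + tf σ f₁ f₂ y v := by
  simp [tf, Geo.formOfGram, add_mul, Finset.sum_add_distrib]

theorem tf_smul_left (a : F) (x v : α × β → F) : tf σ f₁ f₂ (a • x) v = a * tf σ f₁ f₂ x v := by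
  simp [tf, Geo.formOfGram, Finset.mul_sum, mul_assoc]

theorem gram_herm {κ : Type} [Fintype κ] [DecidableEq κ] {f : (κ → F) → (κ → F) → F}
    (hf : Geo.IsUnitaryForm σ f) (a b : κ) : σ (Geo.gramMatrix f a b) = Geo.gramMatrix f b a :=
  (hf.herm _ _).symm

theorem tf_herm (h₁ : Geo.IsUnitaryForm σ f₁) (h₂ : Geo.IsUnitaryForm σ f₂) (x y : α × β → F) :
    tf σ f₁ f₂ x y = σ (tf σ f₁ f₂ y x) := by
  simp only [tf, Geo.formOfGram, map_sum, map_mul, Matrix.kroneckerMap_apply, h₁.involutive,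
    gram_herm h₁, gram_herm h₂]
  rw [Finset.sum_comm]
  exact Finset.sum_congr rfl fun p _ => Finset.sum_congr rfl fun q _ => by ring

theorem tf_ctr (h₁ : Geo.IsUnitaryForm σ f₁) (h₂ : Geo.IsUnitaryForm σ f₂) (x : α × β → F)
    (v : α → F) (z : β → F) : tf σ f₁ f₂ x (ten v z) = f₁ (ctr (frow f₂ z) x) v := by
  let L : (α × β → F) →ₗ[F] F :=
    { toFun := fun x => tf σ f₁ f₂ x (ten v z)
      map_add' := fun x y => tf_add_left x y _
      map_smul' := fun a x => tf_smul_left a x _ }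
  have e : L = (formH h₁ v).comp (ctr (frow f₂ z)) := ext_ten fun u w => by
    show tf σ f₁ f₂ (ten u w) (ten v z) = f₁ (ctr (frow f₂ z) (ten u w)) v
    rw [tf_ten h₁ h₂, ctr_ten, frow_dot h₂, h₁.smul_left, mul_comm]
  exact LinearMap.congr_fun e x

theorem tf_unitary (h₁ : Geo.IsUnitaryForm σ f₁) (h₂ : Geo.IsUnitaryForm σ f₂) :
    Geo.IsUnitaryForm σ (tf σ f₁ f₂) where
  ne_refl := h₁.ne_refl
  involutive := h₁.involutive
  add_left := tf_add_left
  smul_left := tf_smul_left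
  herm := tf_herm h₁ h₂
  nondegenerate := fun x hx => by
    obtain ⟨φ, hφ⟩ : ∃ φ : β → F, ctr φ x ≠ 0 := by
      by_contra h
      push Not at h
      exact hx (eq_zero_of_ctr h)
    obtain ⟨z, rfl⟩ := frow_surj h₂ φ
    obtain ⟨v, hv⟩ := (h₁.nondegenerate _ hφ).1
    have hv' : f₁ (ctr (frow f₂ z) x) v ≠ 0 := fun h => hv (by rw [h₁.herm, h, map_zero])
    rw [← tf_ctr h₁ h₂] at hv'
    exact ⟨⟨ten v z, fun h => hv' (by rw [tf_herm h₁ h₂, h, map_zero])⟩, ⟨ten v z, hv'⟩⟩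

/-- The hypotheses on an overgroup of the tensor stabiliser. -/
structure Ctx (σ : F ≃+* F) (f₁ : (α → F) → (α → F) → F) (f₂ : (β → F) → (β → F) → F)
    (M : Subgroup (GL (α × β) F)) : Prop where
  h₁ : Geo.IsUnitaryForm σ f₁
  h₂ : Geo.IsUnitaryForm σ f₂
  le_su : M ≤ preserving (Units.coeHom (Matrix (α × β) (α × β) F)) (tf σ f₁ f₂) ⊓
    Geo.specialLinear (α × β) F
  memU : ∀ A ∈ preserving (Units.coeHom (Matrix α α F)) f₁ ⊓ Geo.specialLinear α F, kr A 1 ∈ M
  memW : ∀ B ∈ preserving (Units.coeHom (Matrix β β F)) f₂ ⊓ Geo.specialLinear β F, kr 1 B ∈ M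

variable {M : Subgroup (GL (α × β) F)}

theorem Ctx.iso (C : Ctx σ f₁ f₂ M) {g : GL (α × β) F} (hg : g ∈ M) (x y : α × β → F) :
    tf σ f₁ f₂ (mv g x) (mv g y) = tf σ f₁ f₂ x y :=
  (C.le_su hg).1 x y

theorem Ctx.hf (C : Ctx σ f₁ f₂ M) : Geo.IsUnitaryForm σ (tf σ f₁ f₂) := tf_unitary C.h₁ C.h₂

theorem Ctx.dot_self (C : Ctx σ f₁ f₂ M) {c : β → F} (hiso : f₂ c c = 0) (s : F) :
    (s • frow f₂ c) ⬝ᵥ c = 0 := by
  rw [smul_dotProduct, frow_dot C.h₂, hiso, smul_zero]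

/-- The transvection of the second factor at an isotropic vector. -/
noncomputable def uT₂ (C : Ctx σ f₁ f₂ M) (c : β → F) (hiso : f₂ c c = 0) (s : F) : GL (α × β) F :=
  tT α c (s • frow f₂ c) (C.dot_self hiso s)

theorem mv_uT₂ (C : Ctx σ f₁ f₂ M) (c : β → F) (hiso : f₂ c c = 0) (s : F) (x : α × β → F) :
    mv (uT₂ C c hiso s) x = x + s • ten (ctr (frow f₂ c) x) c := by
  rw [uT₂, mv_tT, ctr_smul_vec, LinearMap.smul_apply, ten_smul_left]

theorem uT₂_eq_kr (C : Ctx σ f₁ f₂ M) (c : β → F) (hiso : f₂ c c = 0) (s : F) :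
    uT₂ C c hiso s = kr 1 (htv C.h₂ c hiso s) := ext_ten_mv fun u w => by
  rw [mv_uT₂, mv_kr_ten, mv_one, mv_htv, ctr_ten, frow_dot C.h₂, ten_smul_left, smul_smul,
    ten_add_right, ten_smul_right]

theorem uT₂_mem (C : Ctx σ f₁ f₂ M) (c : β → F) (hiso : f₂ c c = 0) {s : F} (hs : σ s = -s) :
    uT₂ C c hiso s ∈ M := by
  rw [uT₂_eq_kr]
  exact C.memW _ ⟨htv_mem C.h₂ c hiso hs, htv_mem_specialLinear C.h₂ c hiso s⟩

theorem isKron_uT₂ (C : Ctx σ f₁ f₂ M) (c : β → F) (hiso : f₂ c c = 0) (s : F) :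
    IsKron (uT₂ C c hiso s) := by
  rw [uT₂_eq_kr]; exact isKron_kr _ _

/-- The shear x ↦ x + p(x) ⊗ v + (l p(x) − ctr_v(x)) ⊗ c, where p is the contraction by c. -/
theorem exists_shear (C : Ctx σ f₁ f₂ M) {c v : β → F} (hiso : f₂ c c = 0) (hvc : f₂ v c = 0) {l : F}
    (hl : l + σ l + f₂ v v = 0) :
    ∃ E ∈ M, IsKron E ∧ ∀ x, mv E x =
      x + ten (ctr (frow f₂ c) x) v + ten (l • ctr (frow f₂ c) x - ctr (frow f₂ v) x) c := by
  obtain ⟨B, hB, hBz⟩ := exists_eichler C.h₂ hiso hvc hl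
  refine ⟨kr 1 B, C.memW B hB, isKron_kr _ _, ?_⟩
  let R : (α × β → F) →ₗ[F] α × β → F := LinearMap.id + (rho v).comp (ctr (frow f₂ c)) +
    (rho c).comp (l • ctr (frow f₂ c) - ctr (frow f₂ v))
  have e : mvLin (kr (1 : GL α F) B) = R := ext_ten fun u w => by
    rw [Matrix.toLin'_apply]
    show mv (kr 1 B) (ten u w) = _
    rw [mv_kr_ten, mv_one, hBz]
    simp only [R, LinearMap.add_apply, LinearMap.id_apply, LinearMap.comp_apply, rho_apply,
      LinearMap.sub_apply, LinearMap.smul_apply, ctr_ten, frow_dot C.h₂, ten_add_right, ten_smul_right,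
      ten_smul_left, ten_sub_left, smul_smul]
    module
  intro x
  have := LinearMap.congr_fun e x
  rw [Matrix.toLin'_apply] at this
  exact this

/-- The vectors killed by the contraction by c. -/
def perpLine (f₂ : (β → F) → (β → F) → F) (c : β → F) : Submodule F (α × β → F) :=
  LinearMap.ker (ctr (frow f₂ c))

theorem mem_perpLine {c : β → F} {x : α × β → F} :
    x ∈ perpLine (α := α) f₂ c ↔ ctr (frow f₂ c) x = 0 := Iff.rfl

theorem line_le_perpLine (C : Ctx σ f₁ f₂ M) {c : β → F} (hiso : f₂ c c = 0) :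
    line α c ≤ perpLine f₂ c := by
  intro x hx
  obtain ⟨u, rfl⟩ := mem_line.1 hx
  rw [mem_perpLine, ctr_ten, frow_dot C.h₂, hiso, zero_smul]

theorem eq_zero_of_orth₁ (C : Ctx σ f₁ f₂ M) {u : α → F} (h : ∀ v, f₁ u v = 0) : u = 0 := by
  by_contra hu
  obtain ⟨v, hv⟩ := (C.h₁.nondegenerate u hu).1
  exact hv (by rw [C.h₁.herm, h, map_zero])

/-- A member fixing a line pointwise moves vectors inside the orthogonal of that line. -/
theorem disp_mem_perp (C : Ctx σ f₁ f₂ M) {g : GL (α × β) F} (hg : g ∈ M) {c : β → F}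
    (hfix : ∀ u, mv g (ten u c) = ten u c) (x : α × β → F) :
    ctr (frow f₂ c) (mv g x - x) = 0 := by
  refine eq_zero_of_orth₁ C fun v => ?_
  have e := C.iso hg x (ten v c)
  rw [hfix, tf_ctr C.h₁ C.h₂, tf_ctr C.h₁ C.h₂] at e
  rw [map_sub, Herm.sub_left C.h₁, e, sub_self]

/-- A member fixing the orthogonal of a line pointwise moves vectors inside that line. -/
theorem disp_mem_line (C : Ctx σ f₁ f₂ M) {g : GL (α × β) F} (hg : g ∈ M) {c : β → F} (hc : c ≠ 0)
    (hfix : ∀ x, ctr (frow f₂ c) x = 0 → mv g x = x) (x : α × β → F) :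
    mv g x - x ∈ line α c := by
  refine mem_line_of_ctr hc fun φ hφ => ?_
  obtain ⟨z, rfl⟩ := frow_surj C.h₂ φ
  rw [frow_dot C.h₂] at hφ
  refine eq_zero_of_orth₁ C fun v => ?_
  have hz : mv g (ten v z) = ten v z := hfix _ (by
    rw [ctr_ten, frow_dot C.h₂, (f_eq_zero_comm C.h₂).1 hφ, zero_smul])
  have e := C.iso hg x (ten v z)
  rw [hz, tf_ctr C.h₁ C.h₂, tf_ctr C.h₁ C.h₂] at e
  rw [map_sub, Herm.sub_left C.h₁, e, sub_self]

theorem exists_norm_d (C : Ctx σ f₁ f₂ M) {c : β → F} (hc : c ≠ 0) (hiso : f₂ c c = 0) :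
    ∃ d, f₂ d d = 0 ∧ f₂ c d = 1 ∧ f₂ d c = 1 := by
  obtain ⟨d, -, hcd, hdd⟩ := exists_partner C.h₂ (nondeg_top C.h₂) Submodule.mem_top hc hiso
  exact ⟨d, hdd, hcd, by rw [C.h₂.herm, hcd, map_one]⟩

/-- The centre condition: members fixing the orthogonal of a line act as factor transvections. -/
def CentreScalar (σ : F ≃+* F) (f₂ : (β → F) → (β → F) → F) (M : Subgroup (GL (α × β) F)) : Prop :=
  ∀ c : β → F, c ≠ 0 → f₂ c c = 0 → ∀ g ∈ M, (∀ x, ctr (frow f₂ c) x = 0 → mv g x = x) →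
    ∃ s : F, σ s = -s ∧ ∀ x, mv g x = x + s • ten (ctr (frow f₂ c) x) c

end Cfsg.Agent.TensorMax.U
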