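/-
Two symplectic factors inside an orthogonal space: contractions, factor transvections and shears,
root elements at singular lines.
-/
import Cfsg.Agent.Lib.TensorMax.UBase
import Cfsg.Agent.Lib.Transvec.Alt
import Cfsg.Agent.Lib.Transvec.Quad
import Cfsg.Agent.Lib.Transvec.OrthFamily

set_option autoImplicit false
set_option linter.unusedSectionVars false

namespace Cfsg.Agent.TensorMax.S

open scoped Matrix Kronecker
open Matrix Cfsg.Agent.Transvec
open Cfsg.Agent.TensorMax.U (kr mv_kr_ten isKron_kr isKron_mul isKron_inv mv_kron_ten ext_ten_mv frow)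

section Symp

variable {κ : Type} [Fintype κ] [DecidableEq κ] {F : Type*} [Field F] {f : (κ → F) → (κ → F) → F}

theorem frow_dot (hf : Geo.IsSymplecticForm f) (c x : κ → F) : frow f c ⬝ᵥ x = f x c := by
  show _ = formR hf c x
  conv_rhs => rw [pi_eq_sum_univ' x, map_sum]
  simp [dotProduct, frow, formR_apply, mul_comm]

theorem frow_smul (hf : Geo.IsSymplecticForm f) (a : F) (c : κ → F) : frow f (a • c) = a • frow f c :=
  funext fun k => hf.bilinear.smul_right a _ c

theorem frow_add (hf : Geo.IsSymplecticForm f) (c c' : κ → F) : frow f (c + c') = frow f c + frow f c' :=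
  funext fun _ => hf.bilinear.add_right _ c c'

theorem frow_surj (hf : Geo.IsSymplecticForm f) (φ : κ → F) : ∃ c, frow f c = φ := by
  let Φ : Module.Dual F (κ → F) :=
    { toFun := fun x => φ ⬝ᵥ x
      map_add' := fun x y => dotProduct_add _ _ _
      map_smul' := fun a x => dotProduct_smul a φ x }
  obtain ⟨z, hz⟩ := exists_eq_f hf Φ
  refine ⟨z, funext fun k => ?_⟩
  show f (Pi.single k 1) z = φ k
  rw [← hz]
  show φ ⬝ᵥ Pi.single k 1 = φ k
  simp

theorem frow_ne_zero (hf : Geo.IsSymplecticForm f) {c : κ → F} (hc : c ≠ 0) : frow f c ≠ 0 := by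
  intro h
  obtain ⟨x, hx⟩ := (hf.nondegenerate c hc).1
  exact hx (by rw [← frow_dot hf, h, zero_dotProduct])

theorem even_card (hf : Geo.IsSymplecticForm f) : Even (Fintype.card κ) := by
  have h := Transvec.Orth.even_finrank_range_alt (formR hf) (fun x => hf.alternating x)
  rwa [LinearMap.range_eq_top.2 (formR_surjective hf), finrank_top, Subspace.dual_finrank_eq,
    Module.finrank_fintype_fun_eq_card] at h

/-- A vector with a non-zero partner. -/
theorem exists_pair (hf : Geo.IsSymplecticForm f) {c : κ → F} (hc : c ≠ 0) : ∃ d, f d c = 1 := by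
  obtain ⟨x, hx⟩ := (hf.nondegenerate c hc).1
  exact ⟨(f x c)⁻¹ • x, by rw [hf.bilinear.smul_left, inv_mul_cancel₀ hx]⟩

/-- A vector with prescribed products with a subspace and a vector outside it. -/
theorem exists_with (hf : Geo.IsSymplecticForm f) {P : Submodule F (κ → F)} {u : κ → F} (hu : u ∉ P) :
    ∃ z, (∀ x ∈ P, f x z = 0) ∧ f u z = 1 := by
  obtain ⟨φ, h1, h2⟩ := exists_dual hu
  obtain ⟨z, hz⟩ := exists_eq_f hf φ
  exact ⟨z, fun x hx => by rw [← hz, h1 x hx], by rw [← hz, h2]⟩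

/-- Small subspaces do not contain their orthogonal spaces. -/
theorem exists_perp_out (hf : Geo.IsSymplecticForm f) {P : Submodule F (κ → F)}
    (h : 2 * Module.finrank F P < Fintype.card κ) : ∃ z, z ∉ P ∧ ∀ x ∈ P, f x z = 0 := by
  by_contra hcon
  push Not at hcon
  let T : (κ → F) →ₗ[F] Module.Dual F P := (LinearMap.lcomp F F P.subtype).comp (formR hf)
  have hle : LinearMap.ker T ≤ P := by
    intro z hz
    by_contra hzP
    obtain ⟨x, hx, hxz⟩ := hcon z hzP
    exact hxz (LinearMap.congr_fun (LinearMap.mem_ker.1 hz) ⟨x, hx⟩)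
  have h1 := LinearMap.finrank_range_add_finrank_ker T
  have h2 := Submodule.finrank_le (LinearMap.range T)
  have h3 := Submodule.finrank_mono hle
  rw [Subspace.dual_finrank_eq] at h2
  rw [Module.finrank_fintype_fun_eq_card] at h1
  omega

theorem finrank_span_le_two (c v : κ → F) :
    Module.finrank F (Submodule.span F ({c, v} : Set (κ → F))) ≤ 2 := by
  classical
  have h := finrank_span_finset_le_card (R := F) ({c, v} : Finset (κ → F))
  rw [Finset.coe_insert, Finset.coe_singleton] at h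
  exact h.trans Finset.card_le_two

/-- Transitivity on independent orthogonal pairs. -/
theorem exists_move_orth (hf : Geo.IsSymplecticForm f) {c v c' v' : κ → F} (hc : c ≠ 0)
    (hv : v ∉ Submodule.span F {c}) (hvc : f v c = 0) (hc' : c' ≠ 0)
    (hv' : v' ∉ Submodule.span F {c'}) (hv'c : f v' c' = 0) :
    ∃ B ∈ preserving (Units.coeHom (Matrix κ κ F)) f, mv B c = c' ∧ mv B v = v' := by
  obtain ⟨B, hB, hBc, -⟩ := exists_move_nondeg hf (K := preserving (Units.coeHom (Matrix κ κ F)) f)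
    (nondeg_top hf) (fun z _ k => stv_mem hf z k) Submodule.mem_top Submodule.mem_top hc hc'
  obtain ⟨v₁, hv₁⟩ : ∃ v₁, v₁ = mv B v := ⟨_, rfl⟩
  have hv₁n : v₁ ∉ Submodule.span F {c'} := fun h => by
    obtain ⟨a, ha⟩ := Submodule.mem_span_singleton.1 h
    refine hv (Submodule.mem_span_singleton.2 ⟨a, mv_inj B ?_⟩)
    rw [mv_smul, hBc, ha, hv₁]
  have hv₁c : f v₁ c' = 0 := by
    have e : f (mv B v) (mv B c) = f v c := hB v c
    rw [hv₁, ← hBc, e, hvc]
  obtain ⟨a, ha, hav⟩ := exists_with hf hv₁n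
  obtain ⟨b, hb, hbv⟩ := exists_with hf hv'
  have hca : f c' a = 0 := ha c' (Submodule.mem_span_singleton_self _)
  have hcb : f c' b = 0 := hb c' (Submodule.mem_span_singleton_self _)
  obtain ⟨z, hzc, hz1, hz2⟩ : ∃ z, f c' z = 0 ∧ f v₁ z ≠ 0 ∧ f v' z ≠ 0 := by
    by_cases h1 : f v' a = 0
    · by_cases h2 : f v₁ b = 0
      · refine ⟨a + b, by rw [hf.bilinear.add_right, hca, hcb, add_zero], ?_, ?_⟩
        · rw [hf.bilinear.add_right, hav, h2, add_zero]; exact one_ne_zero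
        · rw [hf.bilinear.add_right, h1, hbv, zero_add]; exact one_ne_zero
      · exact ⟨b, hcb, h2, by rw [hbv]; exact one_ne_zero⟩
    · exact ⟨a, hca, by rw [hav]; exact one_ne_zero, h1⟩
  have hz2' : f z v' ≠ 0 := fun h => hz2 ((f_eq_zero_comm hf).1 h)
  refine ⟨stv hf (v' - z) (f z v')⁻¹ * stv hf (z - v₁) (f v₁ z)⁻¹ * B,
    Subgroup.mul_mem _ (Subgroup.mul_mem _ (stv_mem hf _ _) (stv_mem hf _ _)) hB, ?_, ?_⟩
  · rw [mv_mul, hBc, mv_mul, stv_fix hf (z - v₁) _ (x := c') (by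
        rw [f_sub_right hf, (f_eq_zero_comm hf).1 hv₁c, hzc, sub_zero]),
      stv_fix hf (v' - z) _ (x := c') (by
        rw [f_sub_right hf, (f_eq_zero_comm hf).1 hv'c, hzc, sub_zero])]
  · rw [mv_mul, ← hv₁, mv_mul, stv_map hf hz1, stv_map hf hz2']

end Symp

variable {α β : Type} [Fintype α] [DecidableEq α] [Fintype β] [DecidableEq β] {F : Type*} [Field F]
variable {Q : (α × β → F) → F} {f₁ : (α → F) → (α → F) → F} {f₂ : (β → F) → (β → F) → F}

/-- The hypotheses on an overgroup of the stabiliser of a product of two symplectic forms. -/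
structure Ctx (Q : (α × β → F) → F) (f₁ : (α → F) → (α → F) → F) (f₂ : (β → F) → (β → F) → F)
    (M : Subgroup (GL (α × β) F)) : Prop where
  hQ : Geo.IsNondegenerateQuadraticForm Q
  h₁ : Geo.IsSymplecticForm f₁
  h₂ : Geo.IsSymplecticForm f₂
  hpol : ∀ u w v z, Orth.pol Q (ten u w) (ten v z) = f₁ u v * f₂ w z
  pure : ∀ u w, Q (ten u w) = 0
  le : M ≤ isometryGroup F Q
  memU : ∀ A ∈ preserving (Units.coeHom (Matrix α α F)) f₁, kr A 1 ∈ M
  memW : ∀ B ∈ preserving (Units.coeHom (Matrix β β F)) f₂, kr 1 B ∈ M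

variable {M : Subgroup (GL (α × β) F)}

theorem Ctx.iso (C : Ctx Q f₁ f₂ M) {g : GL (α × β) F} (hg : g ∈ M) (x y : α × β → F) :
    Orth.pol Q (mv g x) (mv g y) = Orth.pol Q x y :=
  Orth.pol_mv C.hQ (C.le hg) x y

theorem Ctx.pol_ctr (C : Ctx Q f₁ f₂ M) (x : α × β → F) (v : α → F) (z : β → F) :
    Orth.pol Q x (ten v z) = f₁ (ctr (frow f₂ z) x) v := by
  have e : Orth.formQ C.hQ (ten v z) = (formR C.h₁ v).comp (ctr (frow f₂ z)) := ext_ten fun u w => by
    rw [LinearMap.comp_apply, Orth.formQ_apply, formR_apply, C.hpol, ctr_ten, frow_dot C.h₂,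
      C.h₁.bilinear.smul_left, mul_comm]
  exact LinearMap.congr_fun e x

theorem Ctx.pol_ctr_left (C : Ctx Q f₁ f₂ M) (x : α × β → F) (v : α → F) (z : β → F) :
    Orth.pol Q (ten v z) x = f₁ (ctr (frow f₂ z) x) v := by
  rw [Orth.pol_comm, C.pol_ctr]

theorem Ctx.dot_self (C : Ctx Q f₁ f₂ M) (c : β → F) (s : F) : (s • frow f₂ c) ⬝ᵥ c = 0 := by
  rw [smul_dotProduct, frow_dot C.h₂, C.h₂.alternating, smul_zero]

/-- The transvection of the second factor. -/
noncomputable def uT₂ (C : Ctx Q f₁ f₂ M) (c : β → F) (s : F) : GL (α × β) F :=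
  tT α c (s • frow f₂ c) (C.dot_self c s)

theorem mv_uT₂ (C : Ctx Q f₁ f₂ M) (c : β → F) (s : F) (x : α × β → F) :
    mv (uT₂ C c s) x = x + s • ten (ctr (frow f₂ c) x) c := by
  rw [uT₂, mv_tT, ctr_smul_vec, LinearMap.smul_apply, ten_smul_left]

theorem uT₂_eq_kr (C : Ctx Q f₁ f₂ M) (c : β → F) (s : F) :
    uT₂ C c s = kr 1 (stv C.h₂ c s) := ext_ten_mv fun u w => by
  rw [mv_uT₂, mv_kr_ten, mv_one, mv_stv, ctr_ten, frow_dot C.h₂, ten_smul_left, smul_smul,
    ten_add_right, ten_smul_right]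

theorem uT₂_mem (C : Ctx Q f₁ f₂ M) (c : β → F) (s : F) : uT₂ C c s ∈ M := by
  rw [uT₂_eq_kr]
  exact C.memW _ (stv_mem C.h₂ c s)

theorem isKron_uT₂ (C : Ctx Q f₁ f₂ M) (c : β → F) (s : F) : IsKron (uT₂ C c s) := by
  rw [uT₂_eq_kr]; exact isKron_kr _ _

/-- The contraction of the image under a member of the second factor. -/
theorem ctr_kr (C : Ctx Q f₁ f₂ M) {B : GL β F} (hB : B ∈ preserving (Units.coeHom (Matrix β β F)) f₂)
    (z : β → F) (x : α × β → F) : ctr (frow f₂ (mv B z)) (mv (kr 1 B) x) = ctr (frow f₂ z) x := by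
  have e : (ctr (frow f₂ (mv B z))).comp (mvLin (kr (1 : GL α F) B)) = ctr (frow f₂ z) :=
    ext_ten fun u w => by
      rw [LinearMap.comp_apply, Matrix.toLin'_apply]
      show ctr _ (mv (kr 1 B) (ten u w)) = _
      rw [mv_kr_ten, mv_one, ctr_ten, ctr_ten, frow_dot C.h₂, frow_dot C.h₂,
        show f₂ (mv B w) (mv B z) = f₂ w z from hB w z]
  have := LinearMap.congr_fun e x
  rw [LinearMap.comp_apply, Matrix.toLin'_apply] at this
  exact this

/-- The contraction of the image under a member of the first factor. -/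
theorem ctr_krL (A : GL α F) (φ : β → F) (x : α × β → F) :
    ctr φ (mv (kr A 1) x) = mv A (ctr φ x) := by
  have e : (ctr φ).comp (mvLin (kr A (1 : GL β F))) = (mvLin A).comp (ctr φ) :=
    ext_ten fun u w => by
      simp only [LinearMap.comp_apply, Matrix.toLin'_apply]
      show ctr _ (mv (kr A 1) (ten u w)) = mv A _
      rw [mv_kr_ten, mv_one, ctr_ten, ctr_ten, mv_smul]
  have := LinearMap.congr_fun e x
  simp only [LinearMap.comp_apply, Matrix.toLin'_apply] at this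
  exact this

/-- The shear x ↦ x + p(x) ⊗ v + (l p(x) + ctr_v(x)) ⊗ c. -/
theorem exists_shear (C : Ctx Q f₁ f₂ M) {c v : β → F} (hvc : f₂ v c = 0) (l : F) :
    ∃ E ∈ M, IsKron E ∧ ∀ x, mv E x =
      x + ten (ctr (frow f₂ c) x) v + ten (l • ctr (frow f₂ c) x + ctr (frow f₂ v) x) c := by
  set B := stv C.h₂ (v + c) 1 * stv C.h₂ v (-1) * stv C.h₂ c (l - 1) with hB
  have hBm : B ∈ preserving (Units.coeHom (Matrix β β F)) f₂ :=
    Subgroup.mul_mem _ (Subgroup.mul_mem _ (stv_mem _ _ _) (stv_mem _ _ _)) (stv_mem _ _ _)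
  refine ⟨kr 1 B, C.memW B hBm, isKron_kr _ _, ?_⟩
  have hBz : ∀ w, mv B w = w + f₂ w c • v + (l * f₂ w c + f₂ w v) • c := by
    intro w
    rw [hB, mv_mul, mv_mul, mv_stv, mv_stv, mv_stv]
    simp only [C.h₂.bilinear.add_left, C.h₂.bilinear.add_right, C.h₂.bilinear.smul_left, C.h₂.alternating,
      hvc, (f_eq_zero_comm C.h₂).1 hvc, mul_zero, add_zero]
    module
  let R : (α × β → F) →ₗ[F] α × β → F := LinearMap.id + (rho v).comp (ctr (frow f₂ c)) +
    (rho c).comp (l • ctr (frow f₂ c) + ctr (frow f₂ v))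
  have e : mvLin (kr (1 : GL α F) B) = R := ext_ten fun u w => by
    rw [Matrix.toLin'_apply]
    show mv (kr 1 B) (ten u w) = _
    rw [mv_kr_ten, mv_one, hBz]
    simp only [R, LinearMap.add_apply, LinearMap.id_apply, LinearMap.comp_apply, rho_apply,
      LinearMap.smul_apply, ctr_ten, frow_dot C.h₂, ten_add_right, ten_smul_right,
      ten_smul_left, ten_add_left, smul_smul]
    module
  intro x
  have := LinearMap.congr_fun e x
  rw [Matrix.toLin'_apply] at this
  exact this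

theorem eq_zero_of_orth₁ (C : Ctx Q f₁ f₂ M) {u : α → F} (h : ∀ v, f₁ u v = 0) : u = 0 := by
  by_contra hu
  obtain ⟨v, hv⟩ := (C.h₁.nondegenerate u hu).1
  exact hv (by rw [C.h₁.skew, h, neg_zero])

theorem ctr_eq_zero_of_orth (C : Ctx Q f₁ f₂ M) {x : α × β → F} {c : β → F}
    (h : ∀ u, Orth.pol Q x (ten u c) = 0) : ctr (frow f₂ c) x = 0 :=
  eq_zero_of_orth₁ C fun v => by rw [← C.pol_ctr, h]

theorem disp_mem_perp (C : Ctx Q f₁ f₂ M) {g : GL (α × β) F} (hg : g ∈ isometryGroup F Q) {c : β → F}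
    (hfix : ∀ u, mv g (ten u c) = ten u c) (x : α × β → F) :
    ctr (frow f₂ c) (mv g x - x) = 0 := by
  refine eq_zero_of_orth₁ C fun v => ?_
  have e := Orth.pol_mv C.hQ hg x (ten v c)
  rw [hfix, C.pol_ctr, C.pol_ctr] at e
  rw [map_sub, f_sub_left C.h₁, e, sub_self]

theorem disp_mem_line (C : Ctx Q f₁ f₂ M) {g : GL (α × β) F} (hg : g ∈ isometryGroup F Q) {c : β → F}
    (hc : c ≠ 0) (hfix : ∀ x, ctr (frow f₂ c) x = 0 → mv g x = x) (x : α × β → F) :
    mv g x - x ∈ line α c := by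
  refine mem_line_of_ctr hc fun φ hφ => ?_
  obtain ⟨z, rfl⟩ := frow_surj C.h₂ φ
  rw [frow_dot C.h₂] at hφ
  refine eq_zero_of_orth₁ C fun v => ?_
  have hz : mv g (ten v z) = ten v z := hfix _ (by
    rw [ctr_ten, frow_dot C.h₂, (f_eq_zero_comm C.h₂).1 hφ, zero_smul])
  have e := Orth.pol_mv C.hQ hg x (ten v z)
  rw [hz, C.pol_ctr, C.pol_ctr] at e
  rw [map_sub, f_sub_left C.h₁, e, sub_self]

/-- An isometry fixing the orthogonal of a line has the form x ↦ x + Y(p x) ⊗ c with f(u, Y u) = 0. -/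
theorem centre_shape (C : Ctx Q f₁ f₂ M) {g : GL (α × β) F} (hg : g ∈ isometryGroup F Q) {c : β → F}
    (hc : c ≠ 0) (hfix : ∀ x, ctr (frow f₂ c) x = 0 → mv g x = x) :
    ∃ Y : (α → F) →ₗ[F] α → F, (∀ u, f₁ u (Y u) = 0) ∧
      ∀ x, mv g x = x + ten (Y (ctr (frow f₂ c) x)) c := by
  obtain ⟨d, hdc⟩ := exists_pair C.h₂ hc
  obtain ⟨θ, hθ⟩ := exists_dot_one hc
  set Y : (α → F) →ₗ[F] α → F := (ctr θ).comp ((mvLin g - LinearMap.id).comp (rho d)) with hYdef
  have hgd : ∀ u, mv g (ten u d) = ten u d + ten (Y u) c := by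
    intro u
    obtain ⟨v, hv⟩ := mem_line.1 (disp_mem_line C hg hc hfix (ten u d))
    have hY' : Y u = v := by
      show ctr θ (mvLin g (ten u d) - ten u d) = v
      rw [Matrix.toLin'_apply]
      show ctr θ (mv g _ - _) = v
      rw [← hv, ctr_ten, hθ, one_smul]
    rw [hY', hv, add_sub_cancel]
  refine ⟨Y, fun u => ?_, fun x => ?_⟩
  · have e := Orth.mem_isometry.1 hg (ten u d)
    rw [hgd, Orth.q_add C.hQ, C.pure, C.pure, C.hpol, zero_add, zero_add, hdc, mul_one] at e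
    exact e
  · have h0 : mv g (x - ten (ctr (frow f₂ c) x) d) = x - ten (ctr (frow f₂ c) x) d := hfix _ (by
      rw [map_sub, ctr_ten, frow_dot C.h₂, hdc, one_smul, sub_self])
    rw [mv_sub, hgd] at h0
    linear_combination (norm := module) h0

/-- The root elements at the singular vectors x and y with all parameters lie in M. -/
def Sie (Q : (α × β → F) → F) (M : Subgroup (GL (α × β) F)) (x y : α × β → F) : Prop :=
  Orth.pol Q x y = 0 ∧ ∀ t : F, ∃ g ∈ M, Orth.IsSiegel Q g x (t • y)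

/-- The formula of a root element with singular second vector. -/
theorem siegel_apply (C : Ctx Q f₁ f₂ M) {g : GL (α × β) F} {x y : α × β → F} (hy : Q y = 0) {t : F}
    (h : Orth.IsSiegel Q g x (t • y)) (z : α × β → F) :
    mv g z = z + (t * Orth.pol Q z x) • y - (t * Orth.pol Q z y) • x := by
  rw [h, Orth.q_smul C.hQ, hy, Orth.pol_smul_right C.hQ]
  module

theorem Sie.conj (C : Ctx Q f₁ f₂ M) {g : GL (α × β) F} (hg : g ∈ M) {x y : α × β → F}
    (h : Sie Q M x y) : Sie Q M (mv g x) (mv g y) := by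
  refine ⟨by rw [C.iso hg, h.1], fun t => ?_⟩
  obtain ⟨e, he, hes⟩ := h.2 t
  refine ⟨g * e * g⁻¹, M.mul_mem (M.mul_mem hg he) (M.inv_mem hg), ?_⟩
  rw [← mv_smul]
  exact Orth.isSiegel_conj C.hQ (C.le hg) hes

theorem Sie.add (C : Ctx Q f₁ f₂ M) {x y y' : α × β → F} (hx : Q x = 0) (h : Sie Q M x y)
    (h' : Sie Q M x y') : Sie Q M x (y + y') := by
  refine ⟨by rw [Orth.pol_add_right C.hQ, h.1, h'.1, add_zero], fun t => ?_⟩
  obtain ⟨a, ha, has⟩ := h.2 t
  obtain ⟨b, hb, hbs⟩ := h'.2 t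
  refine ⟨a * b, M.mul_mem ha hb, ?_⟩
  rw [smul_add]
  exact Orth.isSiegel_mul C.hQ hx (by rw [Orth.pol_smul_right C.hQ, h.1, mul_zero])
    (by rw [Orth.pol_smul_right C.hQ, h'.1, mul_zero]) has hbs

theorem Sie.smul (C : Ctx Q f₁ f₂ M) {x y : α × β → F} (h : Sie Q M x y) (a : F) :
    Sie Q M x (a • y) :=
  ⟨by rw [Orth.pol_smul_right C.hQ, h.1, mul_zero], fun t => by rw [smul_smul]; exact h.2 (t * a)⟩

theorem Sie.zero (C : Ctx Q f₁ f₂ M) (x : α × β → F) : Sie Q M x 0 :=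
  ⟨Orth.pol_zero_right C.hQ x, fun t => ⟨1, M.one_mem, by rw [smul_zero]; exact Orth.isSiegel_zero C.hQ x⟩⟩

theorem Sie.sub (C : Ctx Q f₁ f₂ M) {x y y' : α × β → F} (hx : Q x = 0) (h : Sie Q M x y)
    (h' : Sie Q M x y') : Sie Q M x (y - y') := by
  have := h.add C hx (h'.smul C (-1))
  rwa [neg_one_smul, ← sub_eq_add_neg] at this

theorem Sie.symm (C : Ctx Q f₁ f₂ M) {x y : α × β → F} (hx : Q x = 0) (hy : Q y = 0)
    (h : Sie Q M x y) : Sie Q M y x := by
  refine ⟨by rw [Orth.pol_comm, h.1], fun t => ?_⟩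
  obtain ⟨e, he, hes⟩ := h.2 (-t)
  refine ⟨e, he, fun z => ?_⟩
  rw [siegel_apply C hy hes, Orth.q_smul C.hQ, hx, Orth.pol_smul_right C.hQ]
  module

/-- A root element at a pure tensor and an orthogonal pair of second factors. -/
def Root (Q : (α × β → F) → F) (f₂ : (β → F) → (β → F) → F) (M : Subgroup (GL (α × β) F)) : Prop :=
  ∃ (e : α → F) (c v : β → F), e ≠ 0 ∧ c ≠ 0 ∧ v ∉ Submodule.span F {c} ∧ f₂ v c = 0 ∧
    Sie Q M (ten e c) (ten e v)

/-- The centre condition: members fixing the orthogonal of a line act as factor transvections. -/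
def CentreScalar (f₂ : (β → F) → (β → F) → F) (M : Subgroup (GL (α × β) F)) : Prop :=
  ∀ c : β → F, c ≠ 0 → ∀ g ∈ M, (∀ x, ctr (frow f₂ c) x = 0 → mv g x = x) →
    ∃ s : F, ∀ x, mv g x = x + s • ten (ctr (frow f₂ c) x) c

/-- Members fixing a line and trivial on the middle act there as factor shears. -/
def MiddleScalar (f₂ : (β → F) → (β → F) → F) (M : Subgroup (GL (α × β) F)) : Prop :=
  ∀ c : β → F, c ≠ 0 → ∀ g ∈ M, (∀ u, mv g (ten u c) = ten u c) →
    (∀ x, ctr (frow f₂ c) x = 0 → mv g x - x ∈ line α c) →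
    ∃ φ : β → F, φ ⬝ᵥ c = 0 ∧ ∀ x, ctr (frow f₂ c) x = 0 → mv g x = x + ten (ctr φ x) c

end Cfsg.Agent.TensorMax.S
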