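/-
The special unitary group in dimension at least three is transitive on isotropic vectors.
-/
import Cfsg.Agent.Lib.Transvec.HermStab

set_option autoImplicit false
set_option linter.unusedSectionVars false

namespace Cfsg.Agent.TensorMax.U

open scoped Matrix
open Matrix Cfsg.Agent.Transvec Cfsg.Agent.Transvec.Herm

variable {F : Type*} [Field F] {σ : F ≃+* F}
variable {κ : Type} [Fintype κ] [DecidableEq κ] {f : (κ → F) → (κ → F) → F}

/-- Isotropic vectors are connected through a common non-orthogonal one. -/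
theorem exists_bridge (hf : Geo.IsUnitaryForm σ f) {e e' : κ → F} (he : e ≠ 0) (he' : e' ≠ 0)
    (hee : f e e = 0) (he'e : f e' e' = 0) :
    ∃ u, f u u = 0 ∧ f e u ≠ 0 ∧ f u e' ≠ 0 := by
  obtain ⟨d, -, hed, hdd⟩ := exists_partner hf (nondeg_top hf) Submodule.mem_top he hee
  by_cases h1 : f d e' = 0
  · obtain ⟨d', -, hed', hdd'⟩ := exists_partner hf (nondeg_top hf) Submodule.mem_top he' he'e
    have hde' : f d' e' = 1 := by rw [hf.herm, hed', map_one]
    by_cases h2 : f e d' = 0
    · obtain ⟨t, ht0, ht⟩ := exists_anti hf.ne_refl hf.involutive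
      obtain ⟨τ, hτ0, hτ⟩ : ∃ τ : F, τ ≠ 0 ∧ σ τ * f d d' + τ * f d' d = 0 := by
        by_cases h3 : f d' d = 0
        · exact ⟨1, one_ne_zero, by rw [(f_eq_zero_comm hf).1 h3, h3]; ring⟩
        · refine ⟨t / f d' d, div_ne_zero ht0 h3, ?_⟩
          have h3' : f d d' ≠ 0 := fun h => h3 ((f_eq_zero_comm hf).1 h)
          rw [map_div₀, ← hf.herm, div_mul_cancel₀ _ h3, div_mul_cancel₀ _ h3', ht]
          ring
      refine ⟨d + τ • d', ?_, ?_, ?_⟩
      · rw [hf.add_left, Herm.add_right hf, Herm.add_right hf, hf.smul_left, hf.smul_left,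
          Herm.smul_right hf, Herm.smul_right hf, hdd, hdd']
        linear_combination hτ
      · rw [Herm.add_right hf, Herm.smul_right hf, hed, h2, mul_zero, add_zero]
        exact one_ne_zero
      · rw [hf.add_left, hf.smul_left, h1, hde', mul_one, zero_add]
        exact hτ0
    · exact ⟨d', hdd', h2, by rw [hde']; exact one_ne_zero⟩
  · exact ⟨d, hdd, by rw [hed]; exact one_ne_zero, h1⟩

/-- Isotropic vectors are conjugate under the special unitary group. -/
theorem exists_move_su [Finite F] (hf : Geo.IsUnitaryForm σ f) (hκ : 3 ≤ Fintype.card κ) {u w : κ → F}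
    (hu : u ≠ 0) (hw : w ≠ 0) (huu : f u u = 0) (hww : f w w = 0) :
    ∃ g ∈ preserving (Units.coeHom (Matrix κ κ F)) f ⊓ Geo.specialLinear κ F, mv g u = w := by
  have one : ∀ u v, f u u = 0 → f v v = 0 → f u v ≠ 0 →
      ∃ g ∈ preserving (Units.coeHom (Matrix κ κ F)) f ⊓ Geo.specialLinear κ F, mv g u = v := by
    intro u v hu hv huv
    set r := u - v with hr
    have hur : f u r = -f u v := by rw [hr, Herm.sub_right hf, hu, zero_sub]
    have hA : f u r ≠ 0 := by rw [hur]; exact neg_ne_zero.2 huv
    have htr : f u r + σ (f u r) = f r r := by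
      rw [hur, map_neg, ← hf.herm v u, hr, Herm.sub_left hf, Herm.sub_right hf, Herm.sub_right hf, hu, hv]
      ring
    by_cases hrr : f r r = 0
    · have hanti : σ (-(f u r)⁻¹) = -(-(f u r)⁻¹) := by
        rw [map_neg, map_inv₀, show σ (f u r) = -f u r by linear_combination htr.trans hrr, inv_neg]
      refine ⟨htv hf r hrr (-(f u r)⁻¹), ⟨htv_mem hf r hrr hanti, htv_mem_specialLinear hf r hrr _⟩, ?_⟩
      rw [mv_htv, neg_mul, inv_mul_cancel₀ hA, hr]; module
    · have hη : (-(σ (f u r)) / f u r) * σ (-(σ (f u r)) / f u r) = 1 := by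
        rw [map_div₀, map_neg, hf.involutive]
        field_simp [(map_ne_zero_iff σ σ.injective).2 hA]
      set d := (σ (f u v))⁻¹ • v with hd
      have hdd : f d d = 0 := by rw [hd, hf.smul_left, Herm.smul_right hf, hv, mul_zero, mul_zero]
      have hud : f u d = 1 := by
        rw [hd, Herm.smul_right hf, map_inv₀, hf.involutive, inv_mul_cancel₀ huv]
      obtain ⟨hP, hP2⟩ := nondeg_pair hf hu hdd hud
      have hsum := finrank_orth_add hf hP
      rw [hP2, Module.finrank_fintype_fun_eq_card] at hsum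
      obtain ⟨w', hw'Y, hw'⟩ := exists_anisotropic hf (nondeg_orth hf hP)
        (fun h0 => by rw [h0, finrank_bot] at hsum; omega)
      have huw : f u w' = 0 := hw'Y u (Submodule.subset_span (Set.mem_insert _ _))
      have hvw : f v w' = 0 := by
        have h1 := hw'Y d (Submodule.subset_span (Set.mem_insert_of_mem _ rfl))
        rw [hd, hf.smul_left, mul_eq_zero] at h1
        exact h1.resolve_left (inv_ne_zero fun h0 => huv ((map_eq_zero_iff σ σ.injective).1 h0))
      obtain ⟨g, hg, hgz⟩ := exists_double_refl hf hrr hw'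
        (by rw [hr, Herm.sub_left hf, huw, hvw, sub_zero]) hη
      refine ⟨g, hg, ?_⟩
      rw [hgz, huw, mul_zero, zero_smul, add_zero]
      have : (-(σ (f u r)) / f u r - 1) / f r r * f u r = -1 := by
        field_simp; linear_combination -htr
      rw [this, hr]; module
  obtain ⟨v, hvv, huv, hvw⟩ := exists_bridge hf hu hw huu hww
  obtain ⟨g, hg, hgu⟩ := one u v huu hvv huv
  obtain ⟨g', hg', hgv⟩ := one v w hvv hww hvw
  exact ⟨g' * g, mul_mem hg' hg, by rw [mv_mul, hgu, hgv]⟩

end Cfsg.Agent.TensorMax.U
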