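/-
When some centre is not scalar there is a transvection at a pure tensor of isotropic vectors.
-/
import Cfsg.Agent.Lib.TensorMax.UBase
import Cfsg.Agent.Lib.TensorMax.UMove
import Cfsg.Agent.Lib.Transvec.HermStab

set_option autoImplicit false
set_option linter.unusedSectionVars false

namespace Cfsg.Agent.TensorMax.U

open scoped Matrix Kronecker
open Matrix Cfsg.Agent.Transvec Cfsg.Agent.Transvec.Herm

section RankOne

variable {α : Type} [Fintype α] [DecidableEq α] {F : Type*} [Field F]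
variable {σ : F ≃+* F} {f : (α → F) → (α → F) → F}

/-- x ↦ f(x, e) z. -/
def opL (hf : Geo.IsUnitaryForm σ f) (e z : α → F) : (α → F) →ₗ[F] α → F :=
  (formH hf e).smulRight z

theorem opL_apply (hf : Geo.IsUnitaryForm σ f) (e z x : α → F) : opL hf e z x = f x e • z := rfl

theorem eigen_eq {Y : (α → F) →ₗ[F] α → F} {u v : α → F} {a b r t : F} (hu : u ≠ 0)
    (hv : v ∉ Submodule.span F {u}) (ht : t ≠ 0) (h1 : Y u = a • u) (h2 : Y v = b • v)
    (h3 : Y (u + t • v) = r • (u + t • v)) : a = b := by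
  have e : (t * (b - r)) • v = (r - a) • u := by
    rw [map_add, map_smul, h1, h2] at h3
    linear_combination (norm := module) h3
  have h4 : t * (b - r) = 0 := by
    by_contra h
    exact hv (Submodule.mem_span_singleton.2 ⟨(t * (b - r))⁻¹ * (r - a), by
      rw [mul_smul, ← e, smul_smul, inv_mul_cancel₀ h, one_smul]⟩)
  rw [h4, zero_smul, eq_comm, smul_eq_zero, sub_eq_zero] at e
  rw [← e.resolve_right hu, ← sub_eq_zero.1 ((mul_eq_zero.1 h4).resolve_left ht)]

/-- A map with all isotropic vectors as eigenvectors is scalar. -/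
theorem scalar_of_iso_eigen [Finite F] (hf : Geo.IsUnitaryForm σ f) (ha : 2 ≤ Fintype.card α)
    {Y : (α → F) →ₗ[F] α → F} (h : ∀ e, f e e = 0 → Y e ∈ Submodule.span F {e}) :
    ∃ l : F, ∀ u, Y u = l • u := by
  have h2 : 2 ≤ Module.finrank F (⊤ : Submodule F (α → F)) := by
    rw [finrank_top, Module.finrank_fintype_fun_eq_card]; exact ha
  have heig : ∀ e, f e e = 0 → ∃ l : F, Y e = l • e := fun e he => by
    obtain ⟨l, hl⟩ := Submodule.mem_span_singleton.1 (h e he)
    exact ⟨l, hl.symm⟩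
  have hnon : ∀ u v (a b : F), f u u = 0 → f v v = 0 → f u v ≠ 0 →
      Y u = a • u → Y v = b • v → a = b := by
    intro u v a b hu hv huv h1 h2
    obtain ⟨s, hs0, hs⟩ := exists_anti hf.ne_refl hf.involutive
    have hvu : f v u ≠ 0 := fun h => huv ((f_eq_zero_comm hf).1 h)
    obtain ⟨r, hr⟩ := heig (u + (s / f v u) • v) (by
      rw [hf.add_left, Herm.add_right hf, Herm.add_right hf, hf.smul_left, hf.smul_left,
        Herm.smul_right hf, Herm.smul_right hf, hu, hv, map_div₀, hs, ← hf.herm,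
        div_mul_cancel₀ _ hvu, div_mul_cancel₀ _ huv]
      ring)
    refine eigen_eq (fun h => huv (by rw [h, Herm.zero_left hf])) (fun hm => huv ?_)
      (div_ne_zero hs0 hvu) h1 h2 hr
    obtain ⟨c, rfl⟩ := Submodule.mem_span_singleton.1 hm
    rw [Herm.smul_right hf, hu, mul_zero]
  obtain ⟨e, -, he0, hee⟩ := exists_isotropic hf (nondeg_top hf) h2
  obtain ⟨d, -, hed, hdd⟩ := exists_partner hf (nondeg_top hf) Submodule.mem_top he0 hee
  obtain ⟨l, hl⟩ := heig e hee
  obtain ⟨m, hm⟩ := heig d hdd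
  have hlm : l = m := hnon e d l m hee hdd (by rw [hed]; exact one_ne_zero) hl hm
  refine ⟨l, fun u => ?_⟩
  have hspan : Submodule.span F {v | v ∈ (⊤ : Submodule F (α → F)) ∧ f v v = 0} ≤
      LinearMap.ker (Y - l • LinearMap.id) := by
    refine Submodule.span_le.2 ?_
    rintro v ⟨-, hv⟩
    show Y v - l • v = 0
    obtain ⟨n, hn⟩ := heig v hv
    rw [hn, sub_eq_zero]
    by_cases hve : f v e = 0
    · by_cases hv0 : v = 0
      · rw [hv0, smul_zero, smul_zero]
      by_cases hvd : f v d = 0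
      · obtain ⟨r, hr⟩ := heig (v + (1 : F) • e) (by
          rw [one_smul, hf.add_left, Herm.add_right hf, Herm.add_right hf, hv, hee, hve,
            (f_eq_zero_comm hf).1 hve]
          ring)
        rw [eigen_eq hv0 (fun hm => ?_) one_ne_zero hn hl hr]
        obtain ⟨c, hc⟩ := Submodule.mem_span_singleton.1 hm
        rw [← hc, hf.smul_left, hvd, mul_zero] at hed
        exact zero_ne_one hed
      · rw [hnon v d n m hv hdd hvd hn hm, hlm]
    · rw [hnon v e n l hv hee hve hn hl]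
  have := hspan (isotropic_span hf (nondeg_top hf) h2 (Submodule.mem_top (x := u)))
  rw [LinearMap.mem_ker, LinearMap.sub_apply, LinearMap.smul_apply, LinearMap.id_apply, sub_eq_zero] at this
  exact this

/-- A class of skew maps closed under the unitary group contains a map of rank one. -/
theorem exists_rank_one [Finite F] (hf : Geo.IsUnitaryForm σ f) (ha : 2 ≤ Fintype.card α)
    (hq : Fintype.card α = 2 → Nat.card (fixedField σ) ≠ 2)
    (S : ((α → F) →ₗ[F] α → F) → Prop) (hadd : ∀ Y Z, S Y → S Z → S (Y + Z))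
    (hneg : ∀ Y, S Y → S (-Y))
    (hscale : ∀ Y (r : F), σ r = r → r ≠ 0 → S Y → S (r • Y))
    (hconj : ∀ Y, ∀ A ∈ preserving (Units.coeHom (Matrix α α F)) f ⊓ Geo.specialLinear α F,
      S Y → S ((mvLin A).comp (Y.comp (mvLin A⁻¹))))
    {Y : (α → F) →ₗ[F] α → F} (hY : S Y) (hskew : ∀ u v, f (Y u) v + f u (Y v) = 0)
    (hns : ∀ l : F, ∃ u, Y u ≠ l • u) :
    ∃ (e : α → F) (r : F), e ≠ 0 ∧ f e e = 0 ∧ r ≠ 0 ∧ S (r • opL hf e e) := by
  obtain ⟨e, hee, hYe⟩ : ∃ e, f e e = 0 ∧ Y e ∉ Submodule.span F {e} := by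
    by_contra hcon
    push Not at hcon
    obtain ⟨l, hl⟩ := scalar_of_iso_eigen hf ha hcon
    obtain ⟨u, hu⟩ := hns l
    exact hu (hl u)
  have he0 : e ≠ 0 := fun h => hYe (by rw [h, map_zero]; exact Submodule.zero_mem _)
  obtain ⟨z, hz⟩ : ∃ z, z = Y e := ⟨_, rfl⟩
  obtain ⟨μ, hμ⟩ : ∃ μ, μ = f z e := ⟨_, rfl⟩
  obtain ⟨T, hT⟩ : ∃ T : (α → F) → (α → F) →ₗ[F] α → F, ∀ w x, T w x = f x w • e + f x e • w :=
    ⟨fun w => opL hf w e + opL hf e w, fun w x => rfl⟩
  have happ : ∀ (A : GL α F) (Z : (α → F) →ₗ[F] α → F) (x : α → F),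
      ((mvLin A).comp (Z.comp (mvLin A⁻¹))) x = mv A (Z (mv A⁻¹ x)) := fun A Z x => by
    simp [LinearMap.comp_apply, Matrix.toLin'_apply, mv]
  -- conjugating by a transvection
  have hD : ∀ s : F, σ s = -s → S ((-s) • T z + (-(s * s * μ)) • opL hf e e) := by
    intro s hs
    have h := hadd _ _ (hconj Y _ ⟨htv_mem hf e hee hs, htv_mem_specialLinear hf e hee s⟩ hY) (hneg _ hY)
    convert h using 1
    refine LinearMap.ext fun x => ?_
    have hinv : mv (htv hf e hee s)⁻¹ x = x - (s * f x e) • e := by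
      rw [mv_eq_iff, inv_inv, mv_htv, Herm.sub_left hf, hf.smul_left, hee, mul_zero, sub_zero,
        sub_add_cancel]
    rw [LinearMap.add_apply, LinearMap.add_apply, LinearMap.smul_apply, LinearMap.smul_apply, happ, hinv,
      map_sub, map_smul, ← hz, mv_htv, Herm.sub_left hf, hf.smul_left, ← hμ, hT, opL_apply,
      LinearMap.neg_apply]
    have hsk : f (Y x) e = -f x z := by rw [hz]; linear_combination hskew x e
    rw [hsk]
    module
  have hke : ∀ {A : GL α F}, A ∈ preserving (Units.coeHom (Matrix α α F)) f ⊓ Geo.specialLinear α F →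
      ∀ x y, f (mv A⁻¹ x) y = f x (mv A y) := fun {A} hA x y => by
    have e1 : f (mv A (mv A⁻¹ x)) (mv A y) = f (mv A⁻¹ x) y := hA.1 (mv A⁻¹ x) y
    rw [mv_mv_inv] at e1
    exact e1.symm
  have hTconj : ∀ (A : GL α F), A ∈ preserving (Units.coeHom (Matrix α α F)) f ⊓ Geo.specialLinear α F →
      mv A e = e → ∀ w x, mv A (T w (mv A⁻¹ x)) = T (mv A w) x := by
    intro A hA hAe w x
    rw [hT, hT, mv_add, mv_smul, mv_smul, hAe, hke hA, hke hA, hAe]
  -- a translation vector orthogonal to e suffices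
  have hfin : ∀ (w : α → F) (s : F), s ≠ 0 → w ∉ Submodule.span F {e} → f w e = 0 → S (s • T w) →
      ∃ (e : α → F) (r : F), e ≠ 0 ∧ f e e = 0 ∧ r ≠ 0 ∧ S (r • opL hf e e) := by
    intro w s hs hw hwe hS
    obtain ⟨b, hb⟩ := exists_trace hf.ne_refl hf.involutive 1 (map_one σ)
    obtain ⟨φ, hφ, hφw⟩ := exists_dual hw
    obtain ⟨y, hy⟩ := exists_eq_f hf (b • φ)
    have hwy : f w y = b := by rw [← hy, LinearMap.smul_apply, hφw, smul_eq_mul, mul_one]
    have hye : f y e = 0 := (f_eq_zero_comm hf).1 (by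
      rw [← hy, LinearMap.smul_apply, hφ e (Submodule.mem_span_singleton_self e), smul_zero])
    obtain ⟨l, hl⟩ := exists_trace hf.ne_refl hf.involutive (-f y y) (by rw [map_neg, self_fixed hf])
    obtain ⟨A, hA, hAx⟩ := Herm.exists_eichler hf hee hye (l := l) (by rw [hl, neg_add_cancel])
    have hAe : mv A e = e := by
      rw [hAx, hee, (f_eq_zero_comm hf).1 hye, zero_smul, mul_zero, sub_zero, zero_smul, add_zero, add_zero]
    have hAw : mv A w = w + (-b) • e := by
      rw [hAx, hwe, hwy, zero_smul, mul_zero, zero_sub, add_zero]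
    refine ⟨e, -s, he0, hee, neg_ne_zero.2 hs, ?_⟩
    have h := hadd _ _ (hconj _ A hA hS) (hneg _ hS)
    convert h using 1
    refine LinearMap.ext fun x => ?_
    rw [LinearMap.smul_apply, LinearMap.add_apply, LinearMap.neg_apply, happ, LinearMap.smul_apply,
      LinearMap.smul_apply, mv_smul, hTconj A hA hAe, hAw, hT, hT, opL_apply, Herm.add_right hf,
      Herm.smul_right hf, map_neg]
    linear_combination (norm := module) (s * f x e) • (congrArg (fun r : F => r • e) hb)
  obtain ⟨s, hs0, hs⟩ := exists_anti hf.ne_refl hf.involutive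
  by_cases hμ0 : μ = 0
  · refine hfin z (-s) (neg_ne_zero.2 hs0) (hz ▸ hYe) (hμ ▸ hμ0) ?_
    have := hD s hs
    rwa [hμ0, mul_zero, neg_zero, zero_smul, add_zero] at this
  by_cases hq2 : Nat.card (fixedField σ) = 2
  · -- a translation by an Eichler element
    have h3 : 3 ≤ Fintype.card α := by
      by_contra h
      exact hq (by omega) hq2
    obtain ⟨y, hye, hyn⟩ : ∃ y, f y e = 0 ∧ y ∉ Submodule.span F {e} := by
      by_contra hcon
      push Not at hcon
      have hle : LinearMap.ker (formH hf e) ≤ Submodule.span F {e} := fun y hy => hcon y hy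
      have h1 := Submodule.finrank_mono hle
      have h2 : Module.finrank F (Submodule.span F ({e} : Set (α → F))) = 1 := finrank_span_singleton he0
      have h4 := LinearMap.finrank_range_add_finrank_ker (formH hf e)
      have h5 := Submodule.finrank_le (LinearMap.range (formH hf e))
      rw [Module.finrank_self] at h5
      rw [Module.finrank_fintype_fun_eq_card] at h4
      omega
    obtain ⟨l, hl⟩ := exists_trace hf.ne_refl hf.involutive (-f y y) (by rw [map_neg, self_fixed hf])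
    obtain ⟨A, hA, hAx⟩ := Herm.exists_eichler hf hee hye (l := l) (by rw [hl, neg_add_cancel])
    have hAe : mv A e = e := by
      rw [hAx, hee, (f_eq_zero_comm hf).1 hye, zero_smul, mul_zero, sub_zero, zero_smul, add_zero, add_zero]
    refine hfin (mv A z - z) (-s) (neg_ne_zero.2 hs0) (fun hm => hyn ?_) ?_ ?_
    · rw [hAx, ← hμ, add_assoc, add_sub_cancel_left] at hm
      have := Submodule.sub_mem _ hm
        (Submodule.smul_mem _ (l * μ - f z y) (Submodule.mem_span_singleton_self e))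
      rw [add_sub_cancel_right] at this
      exact (Submodule.smul_mem_iff _ hμ0).1 this
    · rw [hAx, add_assoc, add_sub_cancel_left, hf.add_left, hf.smul_left, hf.smul_left, hye, hee]
      ring
    · have hS := hD s hs
      have h := hadd _ _ (hconj _ A hA hS) (hneg _ hS)
      convert h using 1
      refine LinearMap.ext fun x => ?_
      have hop : mv A (opL hf e e (mv A⁻¹ x)) = opL hf e e x := by
        rw [opL_apply, opL_apply, mv_smul, hAe, hke hA, hAe]
      rw [LinearMap.add_apply, LinearMap.neg_apply, happ, LinearMap.add_apply, LinearMap.add_apply,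
        LinearMap.smul_apply, LinearMap.smul_apply, LinearMap.smul_apply, LinearMap.smul_apply,
        LinearMap.smul_apply, mv_add, mv_smul, mv_smul, hop, hTconj A hA hAe, hT, hT, hT, Herm.sub_right hf]
      module
  · -- two scalings
    obtain ⟨ν, hν, hν0, hν1⟩ : ∃ ν : F, σ ν = ν ∧ ν ≠ 0 ∧ ν ≠ 1 := by
      by_contra hcon
      push Not at hcon
      have h2 : 2 ≤ Nat.card (fixedField σ) := Finite.one_lt_card
      refine hq2 (le_antisymm ?_ h2)
      have : Function.Surjective (fun b : Bool => (cond b 1 0 : fixedField σ)) := by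
        intro x
        by_cases h : (x : F) = 0
        · exact ⟨false, Subtype.ext h.symm⟩
        · exact ⟨true, Subtype.ext (hcon x x.2 h).symm⟩
      have := Nat.card_le_card_of_surjective _ this
      simpa using this
    refine ⟨e, -((ν * ν - ν) * (s * s * μ)), he0, hee, neg_ne_zero.2 (mul_ne_zero ?_
      (mul_ne_zero (mul_ne_zero hs0 hs0) hμ0)), ?_⟩
    · rw [show ν * ν - ν = ν * (ν - 1) by ring]
      exact mul_ne_zero hν0 (sub_ne_zero.2 hν1)
    have h := hadd _ _ (hD (ν * s) (by rw [map_mul, hν, hs, mul_neg]))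
      (hneg _ (hscale _ ν hν hν0 (hD s hs)))
    convert h using 1
    refine LinearMap.ext fun x => ?_
    simp only [LinearMap.add_apply, LinearMap.neg_apply, LinearMap.smul_apply]
    module

end RankOne

variable {α β : Type} [Fintype α] [DecidableEq α] [Fintype β] [DecidableEq β] {F : Type*} [Field F]
variable {σ : F ≃+* F} {f₁ : (α → F) → (α → F) → F} {f₂ : (β → F) → (β → F) → F}
variable {M : Subgroup (GL (α × β) F)}

/-- The maps acting as centres at the line of c inside M. -/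
def CentreMap (f₂ : (β → F) → (β → F) → F) (M : Subgroup (GL (α × β) F)) (c : β → F)
    (Y : (α → F) →ₗ[F] α → F) : Prop :=
  ∃ g ∈ M, ∀ x, mv g x = x + ten (Y (ctr (frow f₂ c) x)) c

/-- Without the centre condition some pure tensor of isotropic vectors is a centre. -/
theorem exists_pure_centre [Finite F] (hα : 2 ≤ Fintype.card α) (hβ : 3 ≤ Fintype.card β)
    (C : Ctx σ f₁ f₂ M) (hq : Fintype.card α = 2 → Nat.card (fixedField σ) ≠ 2)
    (hC : ¬ CentreScalar σ f₂ M) :
    ∃ (e : α → F) (c : β → F), e ≠ 0 ∧ c ≠ 0 ∧ f₁ e e = 0 ∧ f₂ c c = 0 ∧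
      ten e c ∈ hCentres C.hf M := by
  simp only [CentreScalar, not_forall, not_exists, not_and] at hC
  obtain ⟨c, hc, hiso, g, hg, hfix, hns⟩ := hC
  obtain ⟨d, hdd, hcd, hdc⟩ := exists_norm_d C hc hiso
  obtain ⟨θ, hθ⟩ := exists_dot_one hc
  set Y : (α → F) →ₗ[F] α → F := (ctr θ).comp ((mvLin g - LinearMap.id).comp (rho d)) with hYdef
  have hgx : ∀ x, mv g x = x + ten (Y (ctr (frow f₂ c) x)) c := by
    intro x
    obtain ⟨p, hp⟩ : ∃ p, p = ctr (frow f₂ c) x := ⟨_, rfl⟩
    have h0 : mv g (x - ten p d) = x - ten p d := hfix _ (by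
      rw [map_sub, ctr_ten, frow_dot C.h₂, hdc, one_smul, hp, sub_self])
    rw [mv_sub] at h0
    obtain ⟨v, hv⟩ := mem_line.1 (disp_mem_line C hg hc hfix (ten p d))
    have hY' : Y p = v := by
      show ctr θ (mvLin g (ten p d) - ten p d) = v
      rw [Matrix.toLin'_apply]
      show ctr θ (mv g _ - _) = v
      rw [← hv, ctr_ten, hθ, one_smul]
    rw [← hp, hY', hv]
    linear_combination (norm := module) h0
  have hp : ∀ (x : α × β → F) (v : α → F), ctr (frow f₂ c) (x + ten v c) = ctr (frow f₂ c) x :=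
    fun x v => by rw [map_add, ctr_ten, frow_dot C.h₂, hiso, zero_smul, add_zero]
  have hskew : ∀ u v, f₁ (Y u) v + f₁ u (Y v) = 0 := by
    intro u v
    have e := C.iso hg (ten u d) (ten v d)
    rw [hgx, hgx, ctr_ten, ctr_ten, frow_dot C.h₂, hdc, one_smul, one_smul, tf_add_left,
      Herm.add_right C.hf, Herm.add_right C.hf, tf_ten C.h₁ C.h₂, tf_ten C.h₁ C.h₂, tf_ten C.h₁ C.h₂,
      tf_ten C.h₁ C.h₂, hdd, hdc, hcd, hiso] at e
    linear_combination e
  have hYns : ∀ l : F, ∃ u, Y u ≠ l • u := by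
    intro l
    by_contra hcon
    push Not at hcon
    obtain ⟨u, v, huv⟩ : ∃ u v, f₁ u v ≠ 0 := by
      obtain ⟨i⟩ : Nonempty α := Fintype.card_pos_iff.1 (by omega)
      obtain ⟨v, hv⟩ := (C.h₁.nondegenerate (Pi.single i (1 : F)) (by simp)).2
      exact ⟨_, v, hv⟩
    have e := hskew u v
    rw [hcon, hcon, C.h₁.smul_left, Herm.smul_right C.h₁] at e
    have hl : σ l = -l := by
      have h' : (l + σ l) * f₁ u v = 0 := by linear_combination e
      linear_combination (mul_eq_zero.1 h').resolve_right huv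
    obtain ⟨x, hx⟩ := hns l hl
    exact hx (by rw [hgx, hcon, ten_smul_left])
  have hscale : ∀ Z (r : F), σ r = r → r ≠ 0 → CentreMap f₂ M c Z → CentreMap f₂ M c (r • Z) := by
    rintro Z r hr hr0 ⟨h, hh, hhx⟩
    obtain ⟨l, hl⟩ := exists_norm C.h₂.ne_refl C.h₂.involutive r hr
    have hl0 : l ≠ 0 := fun h0 => hr0 (by rw [← hl, h0, zero_mul])
    obtain ⟨B, hB, hBc⟩ := exists_move_su C.h₂ hβ hc (smul_ne_zero hl0 hc) hiso
      (show f₂ (l • c) (l • c) = 0 by rw [C.h₂.smul_left, Herm.smul_right C.h₂, hiso, mul_zero, mul_zero])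
    refine ⟨kr 1 B * h * (kr 1 B)⁻¹, M.mul_mem (M.mul_mem (C.memW B hB) hh) (M.inv_mem (C.memW B hB)),
      fun x => ?_⟩
    obtain ⟨y, rfl⟩ : ∃ y, x = mv (kr 1 B) y := ⟨mv (kr 1 B)⁻¹ x, (mv_mv_inv _ x).symm⟩
    have hct : ctr (frow f₂ c) (mv (kr 1 B) y) = σ l⁻¹ • ctr (frow f₂ c) y := by
      have e : (ctr (frow f₂ c)).comp (mvLin (kr (1 : GL α F) B)) = σ l⁻¹ • ctr (frow f₂ c) :=
        ext_ten fun u w => by
          rw [LinearMap.comp_apply, Matrix.toLin'_apply]
          show ctr _ (mv (kr 1 B) (ten u w)) = _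
          rw [mv_kr_ten, mv_one, LinearMap.smul_apply, ctr_ten, ctr_ten, frow_dot C.h₂, frow_dot C.h₂,
            smul_smul]
          congr 1
          rw [← show f₂ (mv B w) (mv B (l⁻¹ • c)) = σ l⁻¹ * f₂ w c by
            rw [show f₂ (mv B w) (mv B (l⁻¹ • c)) = f₂ w (l⁻¹ • c) from hB.1 _ _, Herm.smul_right C.h₂],
            mv_smul, hBc, smul_smul, inv_mul_cancel₀ hl0, one_smul]
      have := LinearMap.congr_fun e y
      rw [LinearMap.comp_apply, Matrix.toLin'_apply] at this
      exact this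
    rw [mv_mul, mv_mul, mv_inv_mv, hhx, mv_add, mv_kr_ten, mv_one, hBc, hct, LinearMap.smul_apply,
      map_smul, smul_smul, ten_smul_right, ten_smul_left]
    congr 2
    rw [← hl, map_inv₀]
    field_simp [(map_ne_zero_iff σ σ.injective).2 hl0]
  have hconj : ∀ Z, ∀ A ∈ preserving (Units.coeHom (Matrix α α F)) f₁ ⊓ Geo.specialLinear α F,
      CentreMap f₂ M c Z → CentreMap f₂ M c ((mvLin A).comp (Z.comp (mvLin A⁻¹))) := by
    rintro Z A hA ⟨h, hh, hhx⟩
    refine ⟨kr A 1 * h * (kr A 1)⁻¹, M.mul_mem (M.mul_mem (C.memU A hA) hh) (M.inv_mem (C.memU A hA)),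
      fun x => ?_⟩
    obtain ⟨y, rfl⟩ : ∃ y, x = mv (kr A 1) y := ⟨mv (kr A 1)⁻¹ x, (mv_mv_inv _ x).symm⟩
    have hct : ctr (frow f₂ c) (mv (kr A 1) y) = mv A (ctr (frow f₂ c) y) := by
      have e : (ctr (frow f₂ c)).comp (mvLin (kr A (1 : GL β F))) = (mvLin A).comp (ctr (frow f₂ c)) :=
        ext_ten fun u w => by
          simp only [LinearMap.comp_apply, Matrix.toLin'_apply]
          show ctr _ (mv (kr A 1) (ten u w)) = mv A _
          rw [mv_kr_ten, mv_one, ctr_ten, ctr_ten, mv_smul]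
      have := LinearMap.congr_fun e y
      simp only [LinearMap.comp_apply, Matrix.toLin'_apply] at this
      exact this
    rw [mv_mul, mv_mul, mv_inv_mv, hhx, mv_add, mv_kr_ten, mv_one, hct]
    simp only [LinearMap.comp_apply, Matrix.toLin'_apply]
    show _ = _ + ten (mv A (Z (mv A⁻¹ (mv A _)))) c
    rw [mv_inv_mv]
  obtain ⟨e, r, he, hee, hr, h, hh, hhx⟩ := exists_rank_one C.h₁ hα hq (CentreMap f₂ M c)
    (by
      rintro Z Z' ⟨h, hh, hhx⟩ ⟨k, hk, hkx⟩
      exact ⟨h * k, M.mul_mem hh hk, fun x => by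
        rw [mv_mul, hhx, hkx, hp, LinearMap.add_apply, ten_add_left]; abel⟩)
    (by
      rintro Z ⟨h, hh, hhx⟩
      exact ⟨h⁻¹, M.inv_mem hh, fun x => by
        rw [mv_eq_iff, inv_inv, hhx, hp, LinearMap.neg_apply, ten_neg_left]; abel⟩)
    hscale hconj (Y := Y) ⟨g, hg, hgx⟩ hskew hYns
  -- its scalings give every transvection at the pure tensor
  have hiso' : tf σ f₁ f₂ (ten e c) (ten e c) = 0 := by rw [tf_ten C.h₁ C.h₂, hee, zero_mul]
  have hform : ∀ x, tf σ f₁ f₂ x (ten e c) = f₁ (ctr (frow f₂ c) x) e := fun x => tf_ctr C.h₁ C.h₂ x e c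
  have hrs : σ r = -r := by
    obtain ⟨u, hu⟩ := (C.h₁.nondegenerate e he).1
    have e1 := C.iso hh (ten u d) (ten u d)
    rw [hhx, ctr_ten, frow_dot C.h₂, hdc, one_smul, tf_add_left, Herm.add_right C.hf,
      Herm.add_right C.hf, tf_ten C.h₁ C.h₂, tf_ten C.h₁ C.h₂, tf_ten C.h₁ C.h₂, tf_ten C.h₁ C.h₂, hdd,
      hdc, hcd, hiso, LinearMap.smul_apply, opL_apply, C.h₁.smul_left, C.h₁.smul_left,
      Herm.smul_right C.h₁, Herm.smul_right C.h₁, ← C.h₁.herm] at e1
    have hu' : f₁ e u ≠ 0 := fun h => hu (by rw [C.h₁.herm, h, map_zero])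
    have e2 : (r + σ r) * (f₁ u e * f₁ e u) = 0 := by linear_combination e1
    linear_combination (mul_eq_zero.1 e2).resolve_right (mul_ne_zero hu hu')
  refine ⟨e, c, he, hc, hee, hiso, hiso', fun k hk => ?_⟩
  by_cases hk0 : k = 0
  · rw [hk0, htv_zero]; exact M.one_mem
  have hr2 : σ (k / r) = k / r := by rw [map_div₀, hk, hrs, neg_div_neg_eq]
  obtain ⟨h', hh', hh'x⟩ := hscale _ (k / r) hr2 (div_ne_zero hk0 hr) ⟨h, hh, hhx⟩
  have : htv C.hf (ten e c) hiso' k = h' := ext_mv fun x => by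
    rw [mv_htv, hh'x, hform, LinearMap.smul_apply, LinearMap.smul_apply, opL_apply, smul_smul, smul_smul,
      div_mul_cancel₀ _ hr, ten_smul_left]
  rw [this]
  exact hh'

end Cfsg.Agent.TensorMax.U
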