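/-
A member with a centre or a middle that is not scalar yields a root element at a pure tensor.
-/
import Cfsg.Agent.Lib.TensorMax.SBase
import Cfsg.Agent.Lib.TensorMax.UGrow

set_option autoImplicit false
set_option linter.unusedSectionVars false

namespace Cfsg.Agent.TensorMax.S

open scoped Matrix Kronecker
open Matrix Cfsg.Agent.Transvec
open Cfsg.Agent.TensorMax.U (kr mv_kr_ten isKron_kr frow eigen_eq)

section Symp

variable {κ : Type} [Fintype κ] [DecidableEq κ] {F : Type*} [Field F] {f : (κ → F) → (κ → F) → F}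

/-- A map with every vector as an eigenvector is scalar. -/
theorem scalar_of_eigen {Y : (κ → F) →ₗ[F] κ → F} (h : ∀ e, Y e ∈ Submodule.span F {e}) :
    ∃ l : F, ∀ u, Y u = l • u := by
  by_cases hz : ∀ u : κ → F, u = 0
  · exact ⟨0, fun u => by rw [hz u, map_zero, smul_zero]⟩
  push Not at hz
  obtain ⟨e, he⟩ := hz
  obtain ⟨l, hl⟩ := Submodule.mem_span_singleton.1 (h e)
  refine ⟨l, fun u => ?_⟩
  by_cases hu : u ∈ Submodule.span F {e}
  · obtain ⟨a, rfl⟩ := Submodule.mem_span_singleton.1 hu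
    rw [map_smul, ← hl, smul_comm]
  · obtain ⟨m, hm⟩ := Submodule.mem_span_singleton.1 (h u)
    obtain ⟨r, hr⟩ := Submodule.mem_span_singleton.1 (h (e + (1 : F) • u))
    rw [← hm, eigen_eq he hu one_ne_zero hl.symm hm.symm hr.symm]

theorem exists_perp_ne_zero (hf : Geo.IsSymplecticForm f) {P : Submodule F (κ → F)}
    (h : Module.finrank F P < Fintype.card κ) : ∃ z, z ≠ 0 ∧ ∀ x ∈ P, f x z = 0 := by
  let T : (κ → F) →ₗ[F] Module.Dual F P := (LinearMap.lcomp F F P.subtype).comp (formR hf)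
  have h1 := LinearMap.finrank_range_add_finrank_ker T
  have h2 := Submodule.finrank_le (LinearMap.range T)
  rw [Subspace.dual_finrank_eq] at h2
  rw [Module.finrank_fintype_fun_eq_card] at h1
  obtain ⟨z, hz, hz0⟩ := (LinearMap.ker T).ne_bot_iff.1 (fun h0 => by
    rw [h0, finrank_bot] at h1; omega)
  exact ⟨z, hz0, fun x hx => LinearMap.congr_fun (LinearMap.mem_ker.1 hz) ⟨x, hx⟩⟩

/-- Two independent orthogonal vectors need dimension four. -/
theorem four_of_orth (hf : Geo.IsSymplecticForm f) {e z : κ → F} (he : e ≠ 0)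
    (hz : z ∉ Submodule.span F {e}) (hze : f z e = 0) : 4 ≤ Fintype.card κ := by
  obtain ⟨y, hye, hy⟩ := exists_with hf hz
  by_contra hlt
  obtain ⟨k, hk⟩ := even_card hf
  have hind : LinearIndependent F ![e, z] := (LinearIndependent.pair_iff' he).2 fun a ha =>
    hz (Submodule.mem_span_singleton.2 ⟨a, ha⟩)
  have hr := finrank_span_eq_card hind
  rw [show Set.range ![e, z] = ({e, z} : Set (κ → F)) by simp [Matrix.range_cons, Set.pair_comm],
    Fintype.card_fin] at hr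
  have htop := Submodule.eq_top_of_finrank_eq (S := Submodule.span F ({e, z} : Set (κ → F)))
    (le_antisymm (Submodule.finrank_le _) (by rw [hr, Module.finrank_fintype_fun_eq_card]; omega))
  obtain ⟨a, b, rfl⟩ := Submodule.mem_span_pair.1
    (htop ▸ Submodule.mem_top : y ∈ Submodule.span F ({e, z} : Set (κ → F)))
  rw [hf.bilinear.add_right, hf.bilinear.smul_right, hf.bilinear.smul_right, hze, hf.alternating] at hy
  simp at hy

end Symp

variable {α β : Type} [Fintype α] [DecidableEq α] [Fintype β] [DecidableEq β] {F : Type*} [Field F]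
variable {Q : (α × β → F) → F} {f₁ : (α → F) → (α → F) → F} {f₂ : (β → F) → (β → F) → F}
variable {M : Subgroup (GL (α × β) F)}

/-- Rescaling the first vector of a root element. -/
theorem siegel_rescale (C : Ctx Q f₁ f₂ M) {g : GL (α × β) F} {x y : α × β → F} (hy : Q y = 0) {a t : F}
    (h : Orth.IsSiegel Q g (a • x) (t • y)) : Orth.IsSiegel Q g x ((a * t) • y) := by
  intro z
  rw [siegel_apply C hy h, Orth.q_smul C.hQ, hy, Orth.pol_smul_right C.hQ, Orth.pol_smul_right C.hQ]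
  module

/-- One root element at a pure tensor and an orthogonal pair gives all of them. -/
theorem root_of_one (C : Ctx Q f₁ f₂ M) {e : α → F} {c v : β → F} (he : e ≠ 0) (hc : c ≠ 0)
    (hv : v ∉ Submodule.span F {c}) (hvc : f₂ v c = 0) {t₀ : F} (ht₀ : t₀ ≠ 0) {g : GL (α × β) F}
    (hg : g ∈ M) (hgs : Orth.IsSiegel Q g (ten e c) (t₀ • ten e v)) : Root Q f₂ M := by
  refine ⟨e, c, v, he, hc, hv, hvc, by rw [C.hpol, C.h₁.alternating, zero_mul], fun t => ?_⟩
  by_cases ht : t = 0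
  · exact ⟨1, M.one_mem, by rw [ht, zero_smul]; exact Orth.isSiegel_zero C.hQ _⟩
  have hl : t / t₀ ≠ 0 := div_ne_zero ht ht₀
  obtain ⟨B, hB, hBc, hBv⟩ := exists_move_orth C.h₂ hc hv hvc (smul_ne_zero hl hc)
    (v' := v) (by rwa [Submodule.span_singleton_smul_eq (isUnit_iff_ne_zero.2 hl)])
    (by rw [C.h₂.bilinear.smul_right, hvc, mul_zero])
  refine ⟨_, M.mul_mem (M.mul_mem (C.memW B hB) hg) (M.inv_mem (C.memW B hB)), ?_⟩
  have h := Orth.isSiegel_conj C.hQ (C.le (C.memW B hB)) hgs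
  rw [mv_smul, mv_kr_ten, mv_kr_ten, mv_one, hBc, hBv, ten_smul_right] at h
  have h2 := siegel_rescale C (C.pure _ _) h
  rwa [div_mul_cancel₀ _ ht₀] at h2

/-- A root element at two first factors gives one at two second factors. -/
theorem root_of_kind (hβ : 6 ≤ Fintype.card β) (C : Ctx Q f₁ f₂ M) {e z : α → F} {c : β → F} (he : e ≠ 0)
    (hc : c ≠ 0) (hz : z ∉ Submodule.span F {e}) (hze : f₁ z e = 0)
    (hS : Sie Q M (ten e c) (ten z c)) : Root Q f₂ M := by
  obtain ⟨w, hwe, hzw⟩ := exists_with C.h₁ hz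
  have hew : f₁ e w = 0 := hwe e (Submodule.mem_span_singleton_self e)
  have hS' : Sie Q M (ten e c) (ten w c) := by
    have h := hS.conj C (C.memU _ (stv_mem C.h₁ w 1))
    rw [mv_kr_ten, mv_kr_ten, mv_one, stv_fix C.h₁ _ _ hew, mv_stv, hzw, mul_one, one_smul,
      ten_add_left] at h
    have h2 := h.sub C (C.pure _ _) hS
    rwa [add_sub_cancel_left] at h2
  obtain ⟨c', hc'c⟩ := exists_pair C.h₂ hc
  have hc'0 : c' ≠ 0 := fun h => by rw [h, f_zero_left C.h₂] at hc'c; exact zero_ne_one hc'c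
  obtain ⟨B, hB, hBc, -⟩ := exists_move_nondeg C.h₂ (K := preserving (Units.coeHom (Matrix β β F)) f₂)
    (nondeg_top C.h₂) (fun u _ k => stv_mem C.h₂ u k) Submodule.mem_top Submodule.mem_top hc hc'0
  have hS2 := hS'.conj C (C.memW B hB)
  rw [mv_kr_ten, mv_kr_ten, mv_one, mv_one, hBc] at hS2
  obtain ⟨k, hk, hks⟩ := hS2.2 1
  have hkf := siegel_apply C (C.pure _ _) hks
  have k1 : mv k (ten e c) = ten e c := by
    rw [hkf, C.hpol, C.hpol, C.h₁.alternating, hew, zero_mul, mul_zero, zero_smul, zero_smul, add_zero,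
      sub_zero]
  have k2 : mv k (ten z c) = ten z c + ten e c' := by
    rw [hkf, C.hpol, C.hpol, hze, hzw, C.h₂.skew c c', hc'c]
    module
  have h3 := hS.conj C hk
  rw [k1, k2] at h3
  have hS3 := h3.sub C (C.pure _ _) hS
  rw [add_sub_cancel_left] at hS3
  -- replacing the partner by an orthogonal vector
  set P := Submodule.span F ({c, c'} : Set (β → F))
  have mc : c ∈ P := Submodule.subset_span (Set.mem_insert _ _)
  have mc' : c' ∈ P := Submodule.subset_span (Set.mem_insert_of_mem _ rfl)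
  obtain ⟨y, hyP, hy⟩ := exists_perp_out C.h₂ (P := P) (by
    have : Module.finrank F P ≤ 2 := finrank_span_le_two c c'; omega)
  have hw1 : f₂ c (c + y) = 0 := by rw [C.h₂.bilinear.add_right, C.h₂.alternating, hy c mc, add_zero]
  have hw2 : f₂ c' (c + y) = 1 := by rw [C.h₂.bilinear.add_right, hc'c, hy c' mc', add_zero]
  have h4 := hS3.conj C (C.memW _ (stv_mem C.h₂ (c + y) 1))
  rw [mv_kr_ten, mv_kr_ten, mv_one, stv_fix C.h₂ _ _ hw1, mv_stv, hw2, mul_one, one_smul,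
    ten_add_right] at h4
  have h5 := h4.sub C (C.pure _ _) hS3
  rw [add_sub_cancel_left] at h5
  refine ⟨e, c, c + y, he, hc, fun hm => hyP ?_, (f_eq_zero_comm C.h₂).1 hw1, h5⟩
  obtain ⟨a, ha⟩ := Submodule.mem_span_singleton.1 hm
  have : y = a • c - c := by rw [ha, add_sub_cancel_left]
  rw [this]
  exact P.sub_mem (P.smul_mem a mc) mc

/-- A centre that is not scalar gives a root element. -/
theorem root_of_centre (hβ : 6 ≤ Fintype.card β) (C : Ctx Q f₁ f₂ M) (hC : ¬ CentreScalar f₂ M) :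
    Root Q f₂ M := by
  simp only [CentreScalar, not_forall, not_exists] at hC
  obtain ⟨c, hc, g, hg, hfix, hns⟩ := hC
  obtain ⟨Y, hY, hgx⟩ := centre_shape C (C.le hg) hc hfix
  obtain ⟨e, hYe⟩ : ∃ e, Y e ∉ Submodule.span F {e} := by
    by_contra hcon
    push Not at hcon
    obtain ⟨l, hl⟩ := scalar_of_eigen hcon
    obtain ⟨x, hx⟩ := hns l
    exact hx (by rw [hgx, hl, ten_smul_left])
  have he : e ≠ 0 := fun h => hYe (by rw [h, map_zero]; exact Submodule.zero_mem _)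
  obtain ⟨z, hz⟩ : ∃ z, z = Y e := ⟨_, rfl⟩
  have hze : f₁ z e = 0 := by rw [hz]; exact (f_eq_zero_comm C.h₁).1 (hY e)
  have hp : ∀ (x : α × β → F) (v : α → F), ctr (frow f₂ c) (x + ten v c) = ctr (frow f₂ c) x :=
    fun x v => by rw [map_add, ctr_ten, frow_dot C.h₂, C.h₂.alternating, zero_smul, add_zero]
  set A := stv C.h₁ e 1 with hA
  set K := kr A (1 : GL β F) with hK
  have hKM : K ∈ M := C.memU A (stv_mem C.h₁ e 1)
  have hg' : K * g * K⁻¹ * g⁻¹ ∈ M :=
    M.mul_mem (M.mul_mem (M.mul_mem hKM hg) (M.inv_mem hKM)) (M.inv_mem hg)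
  have hsym : ∀ x, f₁ (Y x) e = f₁ x z := by
    intro x
    have h := hY (x + e)
    rw [map_add, C.h₁.bilinear.add_left, C.h₁.bilinear.add_right, C.h₁.bilinear.add_right, hY, hY,
      ← hz] at h
    rw [C.h₁.skew (Y x) e]
    linear_combination -h
  have hinv : ∀ u, mv A⁻¹ u = u - f₁ u e • e := by
    intro u
    rw [mv_eq_iff, inv_inv, hA, mv_stv, f_sub_left C.h₁, C.h₁.bilinear.smul_left, C.h₁.alternating]
    module
  have hgs : Orth.IsSiegel Q (K * g * K⁻¹ * g⁻¹) (ten e c) ((-1 : F) • ten z c) := by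
    intro x
    obtain ⟨y, hy⟩ : ∃ y, y = mv g⁻¹ x := ⟨_, rfl⟩
    have hx : x = y + ten (Y (ctr (frow f₂ c) y)) c := by rw [hy, ← hgx, mv_mv_inv]
    have hpy : ctr (frow f₂ c) x = ctr (frow f₂ c) y := by rw [hx, hp]
    obtain ⟨y', hy'⟩ : ∃ y', y' = mv K⁻¹ y := ⟨_, rfl⟩
    have hpy' : ctr (frow f₂ c) y' = mv A⁻¹ (ctr (frow f₂ c) y) := by
      have : ctr (frow f₂ c) y = mv A (ctr (frow f₂ c) y') := by
        rw [← ctr_krL, ← hK, hy', mv_mv_inv]
      rw [this, mv_inv_mv]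
    rw [mv_mul, mv_mul, mv_mul, ← hy, ← hy', hgx, mv_add, hy', mv_mv_inv, ← hy', hpy', hK,
      mv_kr_ten, mv_one, hinv, map_sub, map_smul, ← hz, hA, mv_stv, f_sub_left C.h₁,
      C.h₁.bilinear.smul_left, hze, hsym, Orth.q_smul C.hQ, C.pure, Orth.pol_smul_right C.hQ,
      C.pol_ctr, C.pol_ctr, hpy, hx]
    simp only [ten_sub_left, ten_add_left, ten_smul_left]
    module
  refine root_of_kind hβ C he hc (hz ▸ hYe) hze
    ⟨by rw [C.hpol, C.h₂.alternating, mul_zero], fun t => ?_⟩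
  by_cases ht : t = 0
  · exact ⟨1, M.one_mem, by rw [ht, zero_smul]; exact Orth.isSiegel_zero C.hQ _⟩
  obtain ⟨A', hA', hAe, hAz⟩ := exists_move_orth C.h₁ he (hz ▸ hYe) hze (smul_ne_zero (neg_ne_zero.2 ht) he)
    (v' := z) (by rw [Submodule.span_singleton_smul_eq (isUnit_iff_ne_zero.2 (neg_ne_zero.2 ht))]; exact hz ▸ hYe)
    (by rw [C.h₁.bilinear.smul_right, hze, mul_zero])
  refine ⟨_, M.mul_mem (M.mul_mem (C.memU A' hA') hg') (M.inv_mem (C.memU A' hA')), ?_⟩
  have h := Orth.isSiegel_conj C.hQ (C.le (C.memU A' hA')) hgs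
  rw [mv_smul, mv_kr_ten, mv_kr_ten, mv_one, hAe, hAz, ten_smul_left] at h
  have h2 := siegel_rescale C (C.pure _ _) h
  rwa [mul_neg, neg_mul, neg_neg, mul_one] at h2

/-- The map exchanging two orthogonal pairs, the displacement of two commuting root elements. -/
def NN (Q : (α × β → F) → F) (a b a' b' x : α × β → F) : α × β → F :=
  (-Orth.pol Q x a) • b + Orth.pol Q x b • a - Orth.pol Q x a' • b' + Orth.pol Q x b' • a'

/-- The middle map of a member has a scalar symmetrical part. -/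
theorem mid_skew (C : Ctx Q f₁ f₂ M) (hC : CentreScalar f₂ M) {c : β → F} (hc : c ≠ 0)
    {g : GL (α × β) F} (hg : g ∈ M) (hfix : ∀ u, mv g (ten u c) = ten u c)
    {Z : (α × β → F) →ₗ[F] α → F}
    (hgx : ∀ x, ctr (frow f₂ c) x = 0 → mv g x = x + ten (Z x) c)
    {v : β → F} (hv : f₂ v c = 0) :
    ∃ s : F, ∀ u w, f₁ (Z (ten u v)) w + f₁ u (Z (ten w v)) = s * f₁ u w := by
  obtain ⟨d, hdc⟩ := exists_pair C.h₂ hc
  have hcd : f₂ c d = -1 := by rw [C.h₂.skew, hdc]
  obtain ⟨E, hE, -, hEx⟩ := exists_shear C hv 0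
  have hEperp : ∀ x, ctr (frow f₂ c) x = 0 → mv E x = x + ten (ctr (frow f₂ v) x) c := fun x hx => by
    rw [hEx, hx, ten_zero_left, add_zero, smul_zero, zero_add]
  have hEline : ∀ u, mv E (ten u c) = ten u c := fun u => by
    rw [hEperp _ (by rw [ctr_ten, frow_dot C.h₂, C.h₂.alternating, zero_smul]), ctr_ten, frow_dot C.h₂,
      (f_eq_zero_comm C.h₂).1 hv, zero_smul, ten_zero_left, add_zero]
  have hz : g * E * g⁻¹ * E⁻¹ ∈ M :=
    M.mul_mem (M.mul_mem (M.mul_mem hg hE) (M.inv_mem hg)) (M.inv_mem hE)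
  have hcomm : ∀ x, ctr (frow f₂ c) x = 0 → mv g (mv E x) = mv E (mv g x) := by
    intro x hx
    rw [hEperp x hx, mv_add, hfix, hgx x hx, mv_add, hEline, hEperp x hx]
    abel
  obtain ⟨s, hs⟩ := hC c hc _ hz fun x hx => by
    obtain ⟨y, rfl⟩ : ∃ y, x = mv E y := ⟨mv E⁻¹ x, (mv_mv_inv E x).symm⟩
    have hy : ctr (frow f₂ c) y = 0 := by
      rw [hEx y, map_add, map_add, ctr_ten, ctr_ten, frow_dot C.h₂, frow_dot C.h₂, hv, C.h₂.alternating,
        zero_smul, zero_smul, add_zero, add_zero] at hx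
      exact hx
    obtain ⟨y', rfl⟩ : ∃ y', y = mv g y' := ⟨mv g⁻¹ y, (mv_mv_inv g y).symm⟩
    have hy' : ctr (frow f₂ c) y' = 0 := by
      have e : ctr (frow f₂ c) (mv g y' - y') = 0 := disp_mem_perp C (C.le hg) hfix y'
      rw [map_sub, hy, zero_sub, neg_eq_zero] at e
      exact e
    rw [mv_mul, mv_mul, mv_mul, mv_inv_mv, mv_inv_mv, hcomm y' hy']
  have hperp : ∀ w : α → F, ctr (frow f₂ c) (ten w v) = 0 := fun w => by
    rw [ctr_ten, frow_dot C.h₂, hv, zero_smul]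
  refine ⟨s, fun u w => ?_⟩
  have h1 : ∀ a : α → F, ctr (frow f₂ c) (ten a d) = a := fun a => by rw [ctr_ten, frow_dot C.h₂, hdc, one_smul]
  obtain ⟨m, hm⟩ : ∃ m, m = mv g (ten u d) - ten u d := ⟨_, rfl⟩
  have hm0 : ctr (frow f₂ c) m = 0 := hm ▸ disp_mem_perp C (C.le hg) hfix _
  have hgd : mv g (ten u d) = ten u d + m := by rw [hm, add_sub_cancel]
  have hkey : Z (ten u v) = ctr (frow f₂ v) m + s • u := by
    refine rho_injective hc ?_
    have e : mv g (mv E (ten u d)) = mv (g * E * g⁻¹ * E⁻¹) (mv E (mv g (ten u d))) := by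
      simp only [mv_mul, mv_inv_mv]
    rw [hs, hEx (ten u d), mv_add, mv_add, h1, hfix, hgd, mv_add, hEperp m hm0, hEx (ten u d), h1,
      hgx (ten u v) (hperp u)] at e
    simp only [map_add, hm0, h1, ctr_ten, frow_dot C.h₂, C.h₂.alternating, hv, zero_smul, smul_zero,
      zero_add, add_zero] at e
    simp only [rho_apply]
    rw [ten_add_left, ten_smul_left s]
    linear_combination (norm := module) e
  have hadj : f₁ (ctr (frow f₂ v) m) w = f₁ (Z (ten w v)) u := by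
    have e := C.iso hg (ten w v) (ten u d)
    rw [hgx (ten w v) (hperp w), hgd] at e
    simp only [Orth.pol_add_left C.hQ, Orth.pol_add_right C.hQ] at e
    rw [C.pol_ctr_left m w v, C.pol_ctr_left m (Z (ten w v)) c, hm0, f_zero_left C.h₁, C.hpol, C.hpol,
      hcd] at e
    linear_combination e
  rw [hkey, C.h₁.bilinear.add_left, C.h₁.bilinear.smul_left, hadj, C.h₁.skew u (Z (ten w v))]
  ring

/-- Middle maps realised by members. -/
def MidMap (f₂ : (β → F) → (β → F) → F) (M : Subgroup (GL (α × β) F)) (c v : β → F)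
    (X : (α → F) →ₗ[F] α → F) : Prop :=
  ∃ g ∈ M, ∀ x, ctr (frow f₂ c) x = 0 → mv g x = x + ten (X (ctr (frow f₂ v) x)) c

/-- A middle map that is not scalar yields the displacement of an orthogonal exchange or of a rank one map. -/
theorem mid_reduce (C : Ctx Q f₁ f₂ M) (hex : ¬ (Fintype.card α = 2 ∧ Nat.card F = 2)) [Finite F]
    (S : ((α → F) →ₗ[F] α → F) → Prop) (hadd : ∀ Y Z, S Y → S Z → S (Y + Z))
    (hneg : ∀ Y, S Y → S (-Y)) (hscale : ∀ Y (r : F), r ≠ 0 → S Y → S (r • Y))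
    (hconj : ∀ Y, ∀ A ∈ preserving (Units.coeHom (Matrix α α F)) f₁,
      S Y → S ((mvLin A).comp (Y.comp (mvLin A⁻¹))))
    {X : (α → F) →ₗ[F] α → F} (hX : S X) {s : F}
    (hskew : ∀ u w, f₁ (X u) w + f₁ u (X w) = s * f₁ u w) (hns : ∀ l : F, ∃ u, X u ≠ l • u) :
    ∃ e : α → F, e ≠ 0 ∧ ((Fintype.card α = 2 ∧ ∃ Y, S Y ∧ ∀ x, Y x = f₁ x e • e) ∨
      ∃ w, w ∉ Submodule.span F {e} ∧ f₁ w e = 0 ∧ ∃ Y, S Y ∧ ∀ x, Y x = f₁ x w • e + f₁ x e • w) := by
  obtain ⟨e, hXe⟩ : ∃ e, X e ∉ Submodule.span F {e} := by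
    by_contra hcon
    push Not at hcon
    obtain ⟨l, hl⟩ := scalar_of_eigen hcon
    obtain ⟨u, hu⟩ := hns l
    exact hu (hl u)
  have he : e ≠ 0 := fun h => hXe (by rw [h, map_zero]; exact Submodule.zero_mem _)
  obtain ⟨z, hz⟩ : ∃ z, z = X e := ⟨_, rfl⟩
  obtain ⟨μ, hμ⟩ : ∃ μ, μ = f₁ z e := ⟨_, rfl⟩
  have happ : ∀ (A : GL α F) (Z : (α → F) →ₗ[F] α → F) (x : α → F),
      ((mvLin A).comp (Z.comp (mvLin A⁻¹))) x = mv A (Z (mv A⁻¹ x)) := fun A Z x => by
    simp [LinearMap.comp_apply, Matrix.toLin'_apply, mv]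
  have hD : ∀ r : F, ∃ D, S D ∧ ∀ x, D x =
      r • ((s * f₁ x e) • e - f₁ x z • e - f₁ x e • z) - (r * r * μ * f₁ x e) • e := by
    intro r
    refine ⟨_, hadd _ _ (hconj X _ (stv_mem C.h₁ e r) hX) (hneg _ hX), fun x => ?_⟩
    have hinv : mv (stv C.h₁ e r)⁻¹ x = x - (r * f₁ x e) • e := by
      rw [mv_eq_iff, inv_inv, mv_stv, f_sub_left C.h₁, C.h₁.bilinear.smul_left, C.h₁.alternating]
      module
    have hsk : f₁ (X x) e = s * f₁ x e - f₁ x z := by rw [hz]; linear_combination hskew x e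
    rw [LinearMap.add_apply, LinearMap.neg_apply, happ, hinv, map_sub, map_smul, ← hz, mv_stv,
      f_sub_left C.h₁, C.h₁.bilinear.smul_left, ← hμ, hsk]
    module
  by_cases h4 : 4 ≤ Fintype.card α
  · -- moving z by a transvection fixing e
    obtain ⟨D, hDS, hDx⟩ := hD 1
    obtain ⟨w, hew, hzw, hwn⟩ : ∃ w, f₁ e w = 0 ∧ f₁ z w = 1 ∧ w ∉ Submodule.span F {e} := by
      obtain ⟨w, hw, hzw⟩ := exists_with C.h₁ (hz ▸ hXe)
      have hew : f₁ e w = 0 := hw e (Submodule.mem_span_singleton_self e)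
      by_cases hm : w ∈ Submodule.span F {e}
      · obtain ⟨y, hy0, hy⟩ := exists_perp_ne_zero C.h₁ (P := Submodule.span F ({e, z} : Set (α → F)))
          (by have := finrank_span_le_two (F := F) e z; omega)
        have hye : f₁ e y = 0 := hy e (Submodule.subset_span (Set.mem_insert _ _))
        have hyz : f₁ z y = 0 := hy z (Submodule.subset_span (Set.mem_insert_of_mem _ rfl))
        obtain ⟨a, ha⟩ := Submodule.mem_span_singleton.1 hm
        refine ⟨w + y, by rw [C.h₁.bilinear.add_right, hew, hye, add_zero],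
          by rw [C.h₁.bilinear.add_right, hzw, hyz, add_zero], fun hm' => ?_⟩
        obtain ⟨b, hb⟩ := Submodule.mem_span_singleton.1 hm'
        have hyb : y = (b - a) • e := by rw [sub_smul, hb, ha, add_sub_cancel_left]
        rw [← ha, C.h₁.bilinear.smul_right] at hzw
        rw [hyb, C.h₁.bilinear.smul_right] at hyz
        rcases mul_eq_zero.1 hyz with h | h
        · exact hy0 (by rw [hyb, h, zero_smul])
        · rw [h, mul_zero] at hzw; exact zero_ne_one hzw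
      · exact ⟨w, hew, hzw, hm⟩
    refine ⟨e, he, Or.inr ⟨w, hwn, (f_eq_zero_comm C.h₁).1 hew,
      _, hneg _ (hadd _ _ (hconj D _ (stv_mem C.h₁ w 1) hDS) (hneg _ hDS)), fun x => ?_⟩⟩
    have hke : mv (stv C.h₁ w 1) e = e := stv_fix C.h₁ _ _ hew
    have hinv : mv (stv C.h₁ w 1)⁻¹ x = x - f₁ x w • w := by
      rw [mv_eq_iff, inv_inv, mv_stv, f_sub_left C.h₁, C.h₁.bilinear.smul_left, C.h₁.alternating]
      module
    rw [LinearMap.neg_apply, LinearMap.add_apply, LinearMap.neg_apply, happ, hinv, hDx, hDx, mv_sub, mv_smul,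
      mv_sub, mv_sub, mv_smul, mv_smul, mv_smul, mv_smul, hke, mv_stv, hzw, f_sub_left C.h₁,
      f_sub_left C.h₁, C.h₁.bilinear.smul_left, C.h₁.bilinear.smul_left, C.h₁.skew w z, hzw,
      (f_eq_zero_comm C.h₁).1 hew]
    module
  · -- two scalings
    have h2 : Fintype.card α = 2 := by
      obtain ⟨k, hk⟩ := even_card C.h₁
      have : Fintype.card α ≠ 0 := fun h0 => by
        have : IsEmpty α := Fintype.card_eq_zero_iff.1 h0
        exact he (funext fun i => isEmptyElim i)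
      omega
    have hμ0 : μ ≠ 0 := fun h0 => h4 (four_of_orth C.h₁ he (hz ▸ hXe) (hμ ▸ h0))
    obtain ⟨ν, hν0, hν1⟩ : ∃ ν : F, ν ≠ 0 ∧ ν ≠ 1 := by
      by_contra hcon
      push Not at hcon
      refine hex ⟨h2, le_antisymm ?_ Finite.one_lt_card⟩
      have : Function.Surjective (fun b : Bool => (cond b 1 0 : F)) := by
        intro x
        by_cases h : x = 0
        · exact ⟨false, h.symm⟩
        · exact ⟨true, (hcon x h).symm⟩
      have := Nat.card_le_card_of_surjective _ this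
      simpa using this
    obtain ⟨D₁, hD₁, hD₁x⟩ := hD 1
    obtain ⟨D₂, hD₂, hD₂x⟩ := hD ν
    have hc : -((ν * ν - ν) * μ) ≠ 0 := by
      rw [show ν * ν - ν = ν * (ν - 1) by ring]
      exact neg_ne_zero.2 (mul_ne_zero (mul_ne_zero hν0 (sub_ne_zero.2 hν1)) hμ0)
    refine ⟨e, he, Or.inl ⟨h2, _, hscale _ _ (inv_ne_zero hc)
      (hadd _ _ hD₂ (hneg _ (hscale _ ν hν0 hD₁))), fun x => ?_⟩⟩
    rw [LinearMap.smul_apply, LinearMap.add_apply, LinearMap.neg_apply, LinearMap.smul_apply, hD₁x, hD₂x]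
    apply smul_right_injective (α → F) hc
    dsimp only
    rw [smul_smul, mul_inv_cancel₀ hc, one_smul]
    module

/-- A middle that is not scalar gives a root element. -/
theorem root_of_middle [Finite F] (hβ : 6 ≤ Fintype.card β) (C : Ctx Q f₁ f₂ M)
    (hex : ¬ (Fintype.card α = 2 ∧ Nat.card F = 2)) (hC : CentreScalar f₂ M) (hM : ¬ MiddleScalar f₂ M) :
    Root Q f₂ M := by
  classical
  simp only [MiddleScalar, not_forall, not_exists, not_and] at hM
  obtain ⟨c, hc, g, hg, hfix, hmid, hns⟩ := hM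
  obtain ⟨θ, hθ⟩ := exists_dot_one hc
  set Z : (α × β → F) →ₗ[F] α → F := (ctr θ).comp (mvLin g - LinearMap.id) with hZ
  have hgx : ∀ x, ctr (frow f₂ c) x = 0 → mv g x = x + ten (Z x) c := fun x hx => by
    obtain ⟨u, hu⟩ := mem_line.1 (hmid x hx)
    have : Z x = u := by
      show ctr θ (mvLin g x - x) = u
      rw [Matrix.toLin'_apply]
      show ctr θ (mv g x - x) = u
      rw [← hu, ctr_ten, hθ, one_smul]
    rw [this, hu, add_sub_cancel]
  have hp : ∀ (x : α × β → F) (u : α → F), ctr (frow f₂ c) (x + ten u c) = ctr (frow f₂ c) x :=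
    fun x u => by rw [map_add, ctr_ten, frow_dot C.h₂, C.h₂.alternating, zero_smul, add_zero]
  obtain ⟨d, hdc⟩ := exists_pair C.h₂ hc
  have hperp : ∀ (u : α → F) (v : β → F), f₂ v c = 0 → ctr (frow f₂ c) (ten u v) = 0 := fun u v hv => by
    rw [ctr_ten, frow_dot C.h₂, hv, zero_smul]
  -- a direction in which the middle is not scalar
  obtain ⟨v, hv, hvns⟩ : ∃ v, f₂ v c = 0 ∧ ∀ l : F, ∃ u, Z (ten u v) ≠ l • u := by
    by_contra hcon
    push Not at hcon
    by_cases hα : IsEmpty α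
    · obtain ⟨x, -, hne⟩ := hns 0 (zero_dotProduct c)
      exact hne (funext fun p => hα.elim p.1)
    obtain ⟨i₀⟩ := not_isEmpty_iff.1 hα
    set u₁ : α → F := Pi.single i₀ 1
    let f : (β → F) →ₗ[F] F :=
      { toFun := fun v => Z (ten u₁ (v - f₂ v c • d)) i₀
        map_add' := fun v w => by
          rw [C.h₂.bilinear.add_left, add_smul, show v + w - (f₂ v c • d + f₂ w c • d) =
            (v - f₂ v c • d) + (w - f₂ w c • d) by abel, ten_add_right, map_add]
          rfl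
        map_smul' := fun a v => by
          rw [C.h₂.bilinear.smul_left, mul_smul, ← smul_sub, ten_smul_right, map_smul]
          rfl }
    obtain ⟨φ, hφ⟩ := exists_vec f
    have hval : ∀ v, f₂ v c = 0 → ∀ u, Z (ten u v) = (φ ⬝ᵥ v) • u := by
      intro v hv u
      obtain ⟨z, hz⟩ := hcon v hv
      have : φ ⬝ᵥ v = z := by
        rw [hφ]
        show Z (ten u₁ (v - f₂ v c • d)) i₀ = z
        rw [hv, zero_smul, sub_zero, hz]
        simp [u₁]
      rw [this, hz]
    have hφc : φ ⬝ᵥ c = 0 := by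
      have h0 : ∀ u, Z (ten u c) = 0 := fun u => by
        show ctr θ (mvLin g (ten u c) - ten u c) = 0
        rw [Matrix.toLin'_apply]
        show ctr θ (mv g (ten u c) - ten u c) = 0
        rw [hfix, sub_self, map_zero]
      have := congrFun (hval c (C.h₂.alternating c) u₁) i₀
      rw [h0] at this
      simpa [u₁] using this.symm
    obtain ⟨x, hx, hne⟩ := hns φ hφc
    refine hne ?_
    let L : (α × β → F) →ₗ[F] α × β → F := LinearMap.id - (rho d).comp (ctr (frow f₂ c))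
    have hLx : L x = x := by
      show x - ten (ctr (frow f₂ c) x) d = x
      rw [hx, ten_zero_left, sub_zero]
    have e : Z.comp L = (ctr φ).comp L := ext_ten fun u w => by
      have hL : L (ten u w) = ten u (w - f₂ w c • d) := by
        funext p
        simp only [L, LinearMap.sub_apply, LinearMap.id_apply, LinearMap.comp_apply, rho_apply, ctr_ten,
          frow_dot C.h₂, Pi.sub_apply, ten, Pi.smul_apply, smul_eq_mul]
        ring
      show Z (L (ten u w)) = ctr φ (L (ten u w))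
      rw [hL, ctr_ten, hval _ (by
        rw [f_sub_left C.h₂, C.h₂.bilinear.smul_left, hdc, mul_one, sub_self])]
    have e' := LinearMap.congr_fun e x
    change Z (L x) = ctr φ (L x) at e'
    rw [hLx] at e'
    rw [hgx x hx, e']
  have hvn : v ∉ Submodule.span F {c} := by
    intro hm
    obtain ⟨a, rfl⟩ := Submodule.mem_span_singleton.1 hm
    obtain ⟨u, hu⟩ := hvns 0
    refine hu ?_
    rw [zero_smul]
    show ctr θ (mvLin g (ten u (a • c)) - ten u (a • c)) = 0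
    rw [Matrix.toLin'_apply]
    show ctr θ (mv g (ten u (a • c)) - ten u (a • c)) = 0
    rw [ten_smul_right, mv_smul, hfix, sub_self, map_zero]
  set X : (α → F) →ₗ[F] α → F := Z.comp (rho v) with hXdef
  have hXu : ∀ u, X u = Z (ten u v) := fun u => rfl
  obtain ⟨s, hs⟩ := mid_skew C hC hc hg hfix hgx hv
  have hkperp : ∀ {B : GL β F}, B ∈ preserving (Units.coeHom (Matrix β β F)) f₂ → ∀ a : F, mv B c = a • c →
      ∀ x : α × β → F, ctr (frow f₂ c) x = 0 → ctr (frow f₂ c) (mv (kr (1 : GL α F) B)⁻¹ x) = 0 := by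
    intro B hB a hBc x hx
    have := ctr_kr C hB c (mv (kr 1 B)⁻¹ x)
    rw [mv_mv_inv, hBc, frow_smul C.h₂, ctr_smul_vec, LinearMap.smul_apply, hx, smul_zero] at this
    exact this.symm
  -- the map at v is realised
  have hX0 : MidMap f₂ M c v X := by
    set B := stv C.h₂ v (-1) with hBdef
    have hB : B ∈ preserving (Units.coeHom (Matrix β β F)) f₂ := stv_mem C.h₂ v (-1)
    have hBc : mv B c = c := stv_fix C.h₂ _ _ ((f_eq_zero_comm C.h₂).1 hv)
    set K := kr (1 : GL α F) B with hK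
    refine ⟨K * g * K⁻¹ * g⁻¹, M.mul_mem (M.mul_mem (M.mul_mem (C.memW B hB) hg) (M.inv_mem (C.memW B hB)))
      (M.inv_mem hg), fun x hx => ?_⟩
    obtain ⟨y, hy⟩ : ∃ y, y = mv g⁻¹ x := ⟨_, rfl⟩
    have hgy : mv g y = x := by rw [hy, mv_mv_inv]
    have hpy : ctr (frow f₂ c) y = 0 := by
      have e : ctr (frow f₂ c) (mv g y - y) = 0 := disp_mem_perp C (C.le hg) hfix y
      rwa [map_sub, hgy, hx, zero_sub, neg_eq_zero] at e
    have hxy : x = y + ten (Z y) c := by rw [← hgx y hpy, hgy]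
    obtain ⟨y', hy'⟩ : ∃ y', y' = mv K⁻¹ y := ⟨_, rfl⟩
    have hpy' : ctr (frow f₂ c) y' = 0 := hy' ▸ hkperp hB 1 (by rw [hBc, one_smul]) y hpy
    have hKinv : y' = y + ten (ctr (frow f₂ v) y) v := by
      rw [hy', mv_eq_iff, inv_inv, hK, hBdef, ← uT₂_eq_kr C, mv_uT₂, map_add, ctr_ten, frow_dot C.h₂,
        C.h₂.alternating, zero_smul, add_zero]
      module
    rw [mv_mul, mv_mul, mv_mul, ← hy, ← hy', hgx y' hpy', mv_add, hy', mv_mv_inv, ← hy', hK, mv_kr_ten,
      mv_one, hBc, hKinv, map_add, hxy, hXu, map_add, ctr_ten, frow_dot C.h₂,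
      (f_eq_zero_comm C.h₂).1 hv, zero_smul, add_zero, ten_add_left]
    abel
  have hSconj : ∀ Y, ∀ A ∈ preserving (Units.coeHom (Matrix α α F)) f₁, MidMap f₂ M c v Y →
      MidMap f₂ M c v ((mvLin A).comp (Y.comp (mvLin A⁻¹))) := by
    rintro Y A hA ⟨h, hh, hhx⟩
    refine ⟨kr A 1 * h * (kr A 1)⁻¹, M.mul_mem (M.mul_mem (C.memU A hA) hh) (M.inv_mem (C.memU A hA)),
      fun x hx => ?_⟩
    obtain ⟨y, rfl⟩ : ∃ y, x = mv (kr A 1) y := ⟨mv (kr A 1)⁻¹ x, (mv_mv_inv _ x).symm⟩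
    have hy : ctr (frow f₂ c) y = 0 := mv_inj A (by rw [← ctr_krL, hx, mv_zero])
    rw [mv_mul, mv_mul, mv_inv_mv, hhx y hy, mv_add, mv_kr_ten, mv_one, ctr_krL]
    simp only [LinearMap.comp_apply, Matrix.toLin'_apply]
    show _ = _ + ten (mv A (Y (mv A⁻¹ (mv A _)))) c
    rw [mv_inv_mv]
  have hSscale : ∀ Y (r : F), r ≠ 0 → MidMap f₂ M c v Y → MidMap f₂ M c v (r • Y) := by
    rintro Y r hr ⟨h, hh, hhx⟩
    obtain ⟨B, hB, hBc, hBv⟩ := exists_move_orth C.h₂ hc hvn hv (smul_ne_zero hr hc) (v' := v)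
      (by rwa [Submodule.span_singleton_smul_eq (isUnit_iff_ne_zero.2 hr)])
      (by rw [C.h₂.bilinear.smul_right, hv, mul_zero])
    refine ⟨kr 1 B * h * (kr 1 B)⁻¹, M.mul_mem (M.mul_mem (C.memW B hB) hh) (M.inv_mem (C.memW B hB)),
      fun x hx => ?_⟩
    have hy := hkperp hB r hBc x hx
    have hq := ctr_kr C hB v (mv (kr 1 B)⁻¹ x)
    rw [mv_mv_inv, hBv] at hq
    rw [mv_mul, mv_mul, hhx _ hy, mv_add, mv_mv_inv, mv_kr_ten, mv_one, hBc, ← hq, LinearMap.smul_apply,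
      ten_smul_right, ten_smul_left]
  have hSadd : ∀ Y Y', MidMap f₂ M c v Y → MidMap f₂ M c v Y' → MidMap f₂ M c v (Y + Y') := by
    rintro Y Y' ⟨h, hh, hhx⟩ ⟨k, hk, hkx⟩
    refine ⟨h * k, M.mul_mem hh hk, fun x hx => ?_⟩
    rw [mv_mul, hkx x hx, hhx _ (by rw [hp, hx]), map_add, ctr_ten, frow_dot C.h₂,
      (f_eq_zero_comm C.h₂).1 hv, zero_smul, add_zero, LinearMap.add_apply, ten_add_left]
    abel
  have hSneg : ∀ Y, MidMap f₂ M c v Y → MidMap f₂ M c v (-Y) := by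
    rintro Y ⟨h, hh, hhx⟩
    refine ⟨h⁻¹, M.inv_mem hh, fun x hx => ?_⟩
    rw [mv_eq_iff, inv_inv, hhx _ (by rw [hp, hx]), map_add, ctr_ten, frow_dot C.h₂,
      (f_eq_zero_comm C.h₂).1 hv, zero_smul, add_zero, LinearMap.neg_apply, ten_neg_left]
    abel
  obtain ⟨e, he, ⟨hα2, Y, ⟨g₁, hg₁, hg₁x⟩, hY⟩ | ⟨w, hwn, hwe, Y, ⟨g₁, hg₁, hg₁x⟩, hY⟩⟩ :=
    mid_reduce C hex _ hSadd hSneg hSscale hSconj hX0 (fun u w => hs u w) hvns
  · -- rank one: a root element up to a scalar centre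
    obtain ⟨ρ, hρ, hρs⟩ := Orth.exists_siegel C.hQ (u := ten e c) (y := (-1 : F) • ten e v) (C.pure _ _)
      (by rw [Orth.pol_smul_right C.hQ, C.hpol, C.h₁.alternating, zero_mul, mul_zero])
    have hρx : ∀ x, ctr (frow f₂ c) x = 0 →
        mv ρ x = x + ten (f₁ (ctr (frow f₂ v) x) e • e) c := fun x hx => by
      rw [siegel_apply C (C.pure _ _) hρs, C.pol_ctr, C.pol_ctr, hx, f_zero_left C.h₁, ten_smul_left]
      module
    have hiso : ρ⁻¹ * g₁ ∈ isometryGroup F Q := Subgroup.mul_mem _ (Subgroup.inv_mem _ hρ) (C.le hg₁)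
    obtain ⟨Y', hY', hhx⟩ := centre_shape C hiso hc fun x hx => by
      rw [mv_mul, mv_eq_iff, inv_inv, hρx x hx, hg₁x x hx, hY]
    obtain ⟨l, hl⟩ : ∃ l : F, ∀ u, Y' u = l • u := scalar_of_eigen fun u => by
      by_contra hu
      have hu0 : u ≠ 0 := fun h => hu (by rw [h, map_zero]; exact Submodule.zero_mem _)
      have := four_of_orth C.h₁ hu0 hu ((f_eq_zero_comm C.h₁).1 (hY' u))
      omega
    have hu : ρ⁻¹ * g₁ = uT₂ C c l := ext_mv fun x => by rw [hhx, hl, mv_uT₂, ten_smul_left]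
    have hρM : ρ ∈ M := by
      rw [show ρ = g₁ * (ρ⁻¹ * g₁)⁻¹ by group, hu]
      exact M.mul_mem hg₁ (M.inv_mem (uT₂_mem C c l))
    exact root_of_one C he hc hvn hv (neg_ne_zero.2 one_ne_zero) hρM hρs
  · -- two root elements up to a centre
    have hwe' : f₁ e w = 0 := (f_eq_zero_comm C.h₁).1 hwe
    have hpol0 : ∀ (x y : β → F), Orth.pol Q (ten e x) (ten e y) = 0 ∧ Orth.pol Q (ten e x) (ten w y) = 0 ∧
        Orth.pol Q (ten w x) (ten e y) = 0 ∧ Orth.pol Q (ten w x) (ten w y) = 0 := fun x y => by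
      simp only [C.hpol, C.h₁.alternating, hwe, hwe', zero_mul, and_self]
    obtain ⟨ρ₁, hρ₁, hρ₁s⟩ := Orth.exists_siegel C.hQ (u := ten e c) (y := (1 : F) • ten w v) (C.pure _ _)
      (by rw [Orth.pol_smul_right C.hQ, (hpol0 c v).2.1, mul_zero])
    obtain ⟨ρ₂, hρ₂, hρ₂s⟩ := Orth.exists_siegel C.hQ (u := ten w c) (y := (1 : F) • ten e v) (C.pure _ _)
      (by rw [Orth.pol_smul_right C.hQ, (hpol0 c v).2.2.1, mul_zero])
    set N := fun (v' : β → F) => NN Q (ten e c) (ten w v') (ten w c) (ten e v') with hN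
    have hρ : ∀ x, mv (ρ₁ * ρ₂) x = x - N v x := fun x => by
      rw [mv_mul, siegel_apply C (C.pure _ _) hρ₁s, siegel_apply C (C.pure _ _) hρ₂s]
      simp only [hN, NN, Orth.pol_add_left C.hQ, Orth.pol_sub_left C.hQ, Orth.pol_smul_left C.hQ,
        fun x y => (hpol0 x y).1, fun x y => (hpol0 x y).2.1, fun x y => (hpol0 x y).2.2.1,
        fun x y => (hpol0 x y).2.2.2]
      module
    have hiso : (ρ₁ * ρ₂)⁻¹ * g₁⁻¹ ∈ isometryGroup F Q :=
      Subgroup.mul_mem _ (Subgroup.inv_mem _ (Subgroup.mul_mem _ hρ₁ hρ₂)) (Subgroup.inv_mem _ (C.le hg₁))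
    obtain ⟨Y', -, hhx⟩ := centre_shape C hiso hc fun x hx => by
      rw [mv_mul, mv_eq_iff, inv_inv, hρ, mv_eq_iff, inv_inv, hN]
      simp only [NN, C.pol_ctr, hx, f_zero_left C.h₁, neg_zero, zero_smul, sub_zero, zero_add]
      rw [hg₁x _ (by
        simp only [map_sub, map_add, map_smul, ctr_ten, frow_dot C.h₂, C.h₂.alternating, hx, zero_smul,
          smul_zero, sub_zero, zero_add]), hY]
      simp only [map_sub, map_add, map_smul, ctr_ten, frow_dot C.h₂, (f_eq_zero_comm C.h₂).1 hv, zero_smul,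
        smul_zero, sub_zero, ten_add_left, ten_smul_left, add_zero]
      module
    obtain ⟨v₂, hv₂c, hvv₂⟩ := exists_with C.h₂ hvn
    have hcv₂ : f₂ c v₂ = 0 := hv₂c c (Submodule.mem_span_singleton_self c)
    have hv₂n : v₂ ∉ Submodule.span F {c} := fun hm => by
      obtain ⟨a, rfl⟩ := Submodule.mem_span_singleton.1 hm
      rw [C.h₂.bilinear.smul_right, hv, mul_zero] at hvv₂
      exact zero_ne_one hvv₂
    -- the centre cancels in a commutator
    have hPP : ∃ g ∈ M, ∀ x, mv g x = x + N v₂ x := by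
      set B := stv C.h₂ v₂ (-1) with hBdef
      have hB : B ∈ preserving (Units.coeHom (Matrix β β F)) f₂ := stv_mem C.h₂ v₂ (-1)
      have hBc : mv B c = c := stv_fix C.h₂ _ _ hcv₂
      have hBv : mv B v = v + (-1 : F) • v₂ := by rw [hBdef, mv_stv, hvv₂, mul_one]
      set K := kr (1 : GL α F) B with hK
      set h := (ρ₁ * ρ₂)⁻¹ * g₁⁻¹ with hh
      have hcom : K * h = h * K := ext_mv fun x => by
        rw [mv_mul K h, mv_mul h K, hhx, hhx, mv_add, hK, mv_kr_ten, mv_one, hBc]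
        have := ctr_kr C hB c x
        rw [hBc] at this
        rw [this]
      refine ⟨g₁⁻¹⁻¹ * (K * g₁⁻¹⁻¹ * K⁻¹)⁻¹ , M.mul_mem (by rw [inv_inv]; exact hg₁) (M.inv_mem
        (M.mul_mem (M.mul_mem (C.memW B hB) (by rw [inv_inv]; exact hg₁)) (M.inv_mem (C.memW B hB)))),
        fun x => ?_⟩
      have e1 : g₁⁻¹⁻¹ * (K * g₁⁻¹⁻¹ * K⁻¹)⁻¹ = (ρ₁ * ρ₂ * h)⁻¹ * (K * (ρ₁ * ρ₂ * h) * K⁻¹) := by
        rw [hh]; group
      have e2 : (ρ₁ * ρ₂ * h)⁻¹ * (K * (ρ₁ * ρ₂ * h) * K⁻¹) =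
          h⁻¹ * ((ρ₁ * ρ₂)⁻¹ * (K * (ρ₁ * ρ₂) * K⁻¹)) * h := by
        rw [show K * (ρ₁ * ρ₂ * h) * K⁻¹ = K * (ρ₁ * ρ₂) * K⁻¹ * (K * h * K⁻¹) by group, hcom]
        group
      have hin : ∀ y, mv (ρ₁ * ρ₂)⁻¹ y = y + N v y := fun y => by
        rw [mv_eq_iff, inv_inv, hρ, hN]
        simp only [NN, Orth.pol_add_left C.hQ, Orth.pol_sub_left C.hQ, Orth.pol_smul_left C.hQ,
          fun x y => (hpol0 x y).1, fun x y => (hpol0 x y).2.1, fun x y => (hpol0 x y).2.2.1,
          fun x y => (hpol0 x y).2.2.2]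
        module
      have hconjN : ∀ y, mv (K * (ρ₁ * ρ₂) * K⁻¹) y = y - N (v + (-1 : F) • v₂) y := fun y => by
        obtain ⟨y', rfl⟩ : ∃ y', y = mv K y' := ⟨mv K⁻¹ y, (mv_mv_inv K y).symm⟩
        have hpK : ∀ a b, Orth.pol Q (mv K y') (ten a (mv B b)) = Orth.pol Q y' (ten a b) := fun a b => by
          rw [← C.iso (C.memW B hB) y' (ten a b), mv_kr_ten, mv_one]
        rw [mv_mul, mv_mul, mv_inv_mv, hρ, mv_sub, hN, ← hBv]
        simp only [NN, mv_sub, mv_add, mv_smul]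
        rw [hK, mv_kr_ten, mv_kr_ten, mv_kr_ten, mv_kr_ten, mv_one, mv_one, hBc]
        rw [← hpK e c, ← hpK w v, ← hpK w c, ← hpK e v, hBc, ← hK]
      have hmid : ∀ y, mv ((ρ₁ * ρ₂)⁻¹ * (K * (ρ₁ * ρ₂) * K⁻¹)) y = y + N v₂ y := fun y => by
        rw [mv_mul, hconjN, hin, hN]
        simp only [NN, ten_add_right, ten_smul_right, Orth.pol_smul_right C.hQ, Orth.pol_add_left C.hQ, Orth.pol_sub_left C.hQ, Orth.pol_smul_left C.hQ,
          Orth.pol_add_right C.hQ, fun x y => (hpol0 x y).1, fun x y => (hpol0 x y).2.1,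
          fun x y => (hpol0 x y).2.2.1, fun x y => (hpol0 x y).2.2.2]
        module
      have hpN : ∀ y, ctr (frow f₂ c) (N v₂ y) = 0 := fun y => by
        simp only [hN, NN, map_sub, map_add, map_smul, ctr_ten, frow_dot C.h₂, C.h₂.alternating,
          (f_eq_zero_comm C.h₂).1 hcv₂, zero_smul, smul_zero, add_zero, sub_zero]
      rw [e1, e2, mv_mul, mv_mul, hmid, mv_eq_iff, inv_inv, hhx, hhx, map_add, hpN, add_zero]
      have hNc : ∀ u, N v₂ (ten u c) = 0 := fun u => by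
        simp only [hN, NN, C.hpol, C.h₂.alternating, hcv₂, mul_zero, neg_zero, zero_smul, add_zero, sub_zero]
      have hNadd : ∀ a b, N v₂ (a + b) = N v₂ a + N v₂ b := fun a b => by
        simp only [hN, NN, Orth.pol_add_left C.hQ]; module
      rw [hNadd, hNc]
      abel
    obtain ⟨P, hP, hPx⟩ := hPP
    -- a second exchange meeting it in one pair
    set V := Submodule.span F ({c, v₂} : Set (β → F))
    have mc : c ∈ V := Submodule.subset_span (Set.mem_insert _ _)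
    have mv₂ : v₂ ∈ V := Submodule.subset_span (Set.mem_insert_of_mem _ rfl)
    obtain ⟨c', hc'V, hc'⟩ := exists_perp_out C.h₂ (P := V) (by
      have : Module.finrank F V ≤ 2 := finrank_span_le_two c v₂; omega)
    have hcc' : f₂ c c' = 0 := hc' c mc
    have hv₂c' : f₂ v₂ c' = 0 := hc' v₂ mv₂
    have hv₂P : v₂ ∉ Submodule.span F ({c, c'} : Set (β → F)) := fun hm => by
      obtain ⟨a, b, hab⟩ := Submodule.mem_span_pair.1 hm
      by_cases hb : b = 0
      · exact hv₂n (Submodule.mem_span_singleton.2 ⟨a, by rw [← hab, hb, zero_smul, add_zero]⟩)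
      · refine hc'V ((Submodule.smul_mem_iff _ hb).1 ?_)
        rw [eq_sub_of_add_eq' hab]
        exact V.sub_mem mv₂ (V.smul_mem a mc)
    obtain ⟨v', hv'P, hv₂v'⟩ := exists_with C.h₂ hv₂P
    have hcv' : f₂ c v' = 0 := hv'P c (Submodule.subset_span (Set.mem_insert _ _))
    have hc'v' : f₂ c' v' = 0 := hv'P c' (Submodule.subset_span (Set.mem_insert_of_mem _ rfl))
    have hc'0 : c' ≠ 0 := fun h => hc'V (h ▸ Submodule.zero_mem _)
    have hv'n : v' ∉ Submodule.span F {c'} := fun hm => by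
      obtain ⟨a, rfl⟩ := Submodule.mem_span_singleton.1 hm
      rw [C.h₂.bilinear.smul_right, hv₂c', mul_zero] at hv₂v'
      exact zero_ne_one hv₂v'
    obtain ⟨y, hye, hwy⟩ := exists_with C.h₁ hwn
    have hey : f₁ e y = 0 := hye e (Submodule.mem_span_singleton_self e)
    have hyn : y ∉ Submodule.span F {e} := fun hm => by
      obtain ⟨a, rfl⟩ := Submodule.mem_span_singleton.1 hm
      rw [C.h₁.bilinear.smul_right, hwe, mul_zero] at hwy
      exact zero_ne_one hwy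
    obtain ⟨A, hA, hAe, hAw⟩ := exists_move_orth C.h₁ he hwn hwe he hyn ((f_eq_zero_comm C.h₁).1 hey)
    obtain ⟨B, hB, hBc, hBv⟩ := exists_move_orth C.h₂ hc hv₂n ((f_eq_zero_comm C.h₂).1 hcv₂) hc'0 hv'n
      ((f_eq_zero_comm C.h₂).1 hc'v')
    set L := kr (1 : GL α F) B * kr A 1 with hL
    have hLM : L ∈ M := M.mul_mem (C.memW B hB) (C.memU A hA)
    have hLt : ∀ a b, mv L (ten a b) = ten (mv A a) (mv B b) := fun a b => by
      rw [hL, mv_mul, mv_kr_ten, mv_kr_ten, mv_one, mv_one]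
    set k := L * P * L⁻¹ with hk
    have hkM : k ∈ M := M.mul_mem (M.mul_mem hLM hP) (M.inv_mem hLM)
    have hkx : ∀ x, mv k x = x + NN Q (ten e c') (ten y v') (ten y c') (ten e v') x := fun x => by
      obtain ⟨x', rfl⟩ : ∃ x', x = mv L x' := ⟨mv L⁻¹ x, (mv_mv_inv L x).symm⟩
      rw [hk, mv_mul, mv_mul, mv_inv_mv, hPx, mv_add, hN]
      simp only [NN, mv_sub, mv_add, mv_smul]
      have hpL : ∀ a b, Orth.pol Q x' (ten a b) = Orth.pol Q (mv L x') (mv L (ten a b)) :=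
        fun a b => (C.iso hLM x' (ten a b)).symm
      rw [hpL e c, hpL w v₂, hpL w c, hpL e v₂, hLt, hLt, hLt, hLt, hAe, hAw, hBc, hBv]
    have k1 : mv k (ten e c) = ten e c := by
      rw [hkx, NN, C.hpol, C.hpol, C.hpol, C.hpol, C.h₁.alternating, hey, zero_mul, zero_mul]
      module
    have k2 : mv k (ten w c) = ten w c := by
      rw [hkx, NN, C.hpol, C.hpol, C.hpol, C.hpol, hcc', hcv']
      module
    have k3 : mv k (ten e v₂) = ten e v₂ := by
      rw [hkx, NN, C.hpol, C.hpol, C.hpol, C.hpol, C.h₁.alternating, hey, zero_mul, zero_mul]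
      module
    have k4 : mv k (ten w v₂) = ten w v₂ + ten e c' := by
      rw [hkx, NN, C.hpol, C.hpol, C.hpol, C.hpol, hwe, hwy, hv₂c', hv₂v']
      module
    refine root_of_one C he hc (v := c') (fun hm => hc'V ?_) ((f_eq_zero_comm C.h₂).1 hcc')
      (neg_ne_zero.2 one_ne_zero)
      (M.mul_mem (M.mul_mem (M.mul_mem hkM hP) (M.inv_mem hkM)) (M.inv_mem hP)) fun x => ?_
    · obtain ⟨a, rfl⟩ := Submodule.mem_span_singleton.1 hm
      exact V.smul_mem a mc
    · obtain ⟨x₁, hx₁⟩ : ∃ x₁, x₁ = mv P⁻¹ x := ⟨_, rfl⟩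
      have hx : x = x₁ + N v₂ x₁ := by rw [hx₁, ← hPx, mv_mv_inv]
      obtain ⟨x₂, hx₂⟩ : ∃ x₂, x₂ = mv k⁻¹ x₁ := ⟨_, rfl⟩
      have hpk : ∀ z, Orth.pol Q x₂ z = Orth.pol Q x₁ (mv k z) := fun z => by
        rw [← C.iso hkM x₂ z, hx₂, mv_mv_inv]
      rw [mv_mul, mv_mul, mv_mul, ← hx₁, ← hx₂, hPx, mv_add, hx₂, mv_mv_inv, ← hx₂,
        Orth.q_smul C.hQ, C.pure, hx, hN]
      simp only [NN, mv_sub, mv_add, mv_smul, hpk, k1, k2, k3, k4, Orth.pol_add_right C.hQ,
        Orth.pol_add_left C.hQ, Orth.pol_sub_left C.hQ, Orth.pol_smul_left C.hQ, Orth.pol_smul_right C.hQ,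
        C.hpol, C.h₁.alternating, hwe, hwe', hcc', zero_mul, mul_zero]
      module

end Cfsg.Agent.TensorMax.S
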