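/-
When centres are scalar: members fixing a line pointwise and conjugate to factor transvections
are Kronecker products, and a member sending one isotropic line to a line is a Kronecker
product.
-/
import Cfsg.Agent.Lib.TensorMax.UBase

set_option autoImplicit false
set_option linter.unusedSectionVars false

namespace Cfsg.Agent.TensorMax.U

open scoped Matrix Kronecker
open Matrix Cfsg.Agent.Transvec Cfsg.Agent.Transvec.Herm

variable {α β : Type} [Fintype α] [DecidableEq α] [Fintype β] [DecidableEq β] {F : Type*} [Field F]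
variable {σ : F ≃+* F} {f₁ : (α → F) → (α → F) → F} {f₂ : (β → F) → (β → F) → F}
variable {M : Subgroup (GL (α × β) F)}

theorem exists_not_fixed (hne : σ ≠ RingEquiv.refl F) : ∃ lam : F, lam - σ lam ≠ 0 := by
  by_contra h
  push Not at h
  exact hne (RingEquiv.ext fun a => (sub_eq_zero.1 (h a)).symm)

theorem exists_trace_neg (C : Ctx σ f₁ f₂ M) (v : β → F) : ∃ l, l + σ l + f₂ v v = 0 := by
  obtain ⟨b, hb⟩ := exists_trace C.h₂.ne_refl C.h₂.involutive (-f₂ v v)
    (by rw [map_neg, self_fixed C.h₂])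
  exact ⟨b, by rw [hb, neg_add_cancel]⟩

theorem ctr_sub_line (C : Ctx σ f₁ f₂ M) {c v : β → F} (hv : f₂ v c = 0) {x y : α × β → F}
    (h : y - x ∈ line α c) : ctr (frow f₂ v) y = ctr (frow f₂ v) x := by
  rw [← sub_eq_zero, ← map_sub]
  exact ctr_line (by rw [frow_dot C.h₂]; exact (f_eq_zero_comm C.h₂).1 hv) h

/-- A member fixing a line and acting trivially on the middle acts there as a factor shear. -/
theorem middle_scalar (C : Ctx σ f₁ f₂ M) (hC : CentreScalar σ f₂ M) {c : β → F} (hc : c ≠ 0)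
    (hiso : f₂ c c = 0) {g : GL (α × β) F} (hg : g ∈ M) (hfix : ∀ u, mv g (ten u c) = ten u c)
    (hmid : ∀ x, ctr (frow f₂ c) x = 0 → mv g x - x ∈ line α c) :
    ∃ φ : β → F, φ ⬝ᵥ c = 0 ∧
      ∀ x, ctr (frow f₂ c) x = 0 → mv g x = x + ten (ctr φ x) c := by
  classical
  obtain ⟨θ, hθ⟩ := exists_dot_one hc
  set Z : (α × β → F) →ₗ[F] α → F := (ctr θ).comp (mvLin g - LinearMap.id) with hZ
  have hgx : ∀ x, ctr (frow f₂ c) x = 0 → mv g x = x + ten (Z x) c := fun x hx => by
    obtain ⟨u, hu⟩ := mem_line.1 (hmid x hx)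
    have : Z x = u := by
      show ctr θ (mvLin g x - x) = u
      rw [Matrix.toLin'_apply]
      show ctr θ (mv g x - x) = u
      rw [← hu, ctr_ten, hθ, one_smul]
    rw [this, hu, add_sub_cancel]
  obtain ⟨d, hdd, hcd, hdc⟩ := exists_norm_d C hc hiso
  have hg' : ∀ v, f₂ v c = 0 → ∃ z : F, ∀ u, Z (ten u v) = z • u := by
    intro v hv
    have hperp : ∀ u : α → F, ctr (frow f₂ c) (ten u v) = 0 := fun u => by
      rw [ctr_ten, frow_dot C.h₂, hv, zero_smul]
    have key : ∀ lam : F, ∃ s : F, ∀ u,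
        lam • Z (ten u v) + σ lam • ctr (frow f₂ v) (mv g (ten u d) - ten u d) = s • u := by
      intro lam
      obtain ⟨l, hl⟩ := exists_trace_neg C (lam • v)
      have hlv : f₂ (lam • v) c = 0 := by rw [C.h₂.smul_left, hv, mul_zero]
      obtain ⟨E, hE, -, hEx⟩ := exists_shear C hiso hlv hl
      have hEperp : ∀ x, ctr (frow f₂ c) x = 0 →
          mv E x = x - ten (ctr (frow f₂ (lam • v)) x) c := fun x hx => by
        rw [hEx, hx, ten_zero_left, add_zero, smul_zero, zero_sub, ten_neg_left, ← sub_eq_add_neg]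
      have hEline : ∀ u, mv E (ten u c) = ten u c := fun u => by
        rw [hEperp _ (by rw [ctr_ten, frow_dot C.h₂, hiso, zero_smul]), ctr_ten, frow_dot C.h₂,
          (f_eq_zero_comm C.h₂).1 hlv, zero_smul, ten_zero_left, sub_zero]
      have hz : g * E * g⁻¹ * E⁻¹ ∈ M :=
        M.mul_mem (M.mul_mem (M.mul_mem hg hE) (M.inv_mem hg)) (M.inv_mem hE)
      have hcomm : ∀ x, ctr (frow f₂ c) x = 0 → mv g (mv E x) = mv E (mv g x) := by
        intro x hx
        rw [hEperp x hx, mv_sub, hfix, hgx x hx, mv_add, hEline, hEperp x hx]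
        abel
      obtain ⟨s, -, hs⟩ := hC c hc hiso _ hz fun x hx => by
        obtain ⟨y, rfl⟩ : ∃ y, x = mv E y := ⟨mv E⁻¹ x, (mv_mv_inv E x).symm⟩
        have hy : ctr (frow f₂ c) y = 0 := by
          rw [hEx y, map_add, map_add, ctr_ten, ctr_ten, frow_dot C.h₂, frow_dot C.h₂, hlv, hiso,
            zero_smul, zero_smul, add_zero, add_zero] at hx
          exact hx
        obtain ⟨y', rfl⟩ : ∃ y', y = mv g y' := ⟨mv g⁻¹ y, (mv_mv_inv g y).symm⟩
        have hy' : ctr (frow f₂ c) y' = 0 := by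
          have e : ctr (frow f₂ c) (mv g y' - y') = 0 := disp_mem_perp C hg hfix y'
          rw [map_sub, hy, zero_sub, neg_eq_zero] at e
          exact e
        rw [mv_mul, mv_mul, mv_mul, mv_inv_mv, mv_inv_mv, hcomm y' hy']
      refine ⟨s, fun u => rho_injective hc ?_⟩
      have h1 : ctr (frow f₂ c) (ten u d) = u := by rw [ctr_ten, frow_dot C.h₂, hdc, one_smul]
      obtain ⟨m, hm⟩ : ∃ m, m = mv g (ten u d) - ten u d := ⟨_, rfl⟩
      have hm0 : ctr (frow f₂ c) m = 0 := hm ▸ disp_mem_perp C hg hfix _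
      have hgd : mv g (ten u d) = ten u d + m := by rw [hm, add_sub_cancel]
      have e : mv g (mv E (ten u d)) = mv (g * E * g⁻¹ * E⁻¹) (mv E (mv g (ten u d))) := by
        simp only [mv_mul, mv_inv_mv]
      rw [hs, hEx (ten u d), mv_add, mv_add, h1, hfix, hgd, mv_add, hEperp m hm0, hEx (ten u d), h1,
        hgx (ten u (lam • v)) (by rw [ctr_ten, frow_dot C.h₂, hlv, zero_smul])] at e
      simp only [map_add, map_sub, hm0, h1, ctr_ten, frow_dot C.h₂, hiso, hlv, zero_smul, sub_zero,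
        add_zero] at e
      have e2 : ten (Z (ten u (lam • v))) c + ten (ctr (frow f₂ (lam • v)) m) c = s • ten u c := by
        linear_combination (norm := module) e
      rw [ten_smul_right, map_smul, frow_smul C.h₂, ctr_smul_vec, LinearMap.smul_apply] at e2
      simp only [rho_apply]
      rw [ten_add_left, ten_smul_left s, ← hm]
      exact e2
    obtain ⟨lam, hlam⟩ := exists_not_fixed C.h₂.ne_refl
    obtain ⟨s₁, hs₁⟩ := key 1
    obtain ⟨s₂, hs₂⟩ := key lam
    refine ⟨(lam - σ lam)⁻¹ * (s₂ - σ lam * s₁), fun u => ?_⟩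
    have a1 := hs₁ u
    rw [map_one, one_smul, one_smul] at a1
    have a2 := hs₂ u
    have a3 : (lam - σ lam) • Z (ten u v) = (s₂ - σ lam * s₁) • u := by
      linear_combination (norm := module) a2 - (σ lam) • a1
    rw [mul_smul, ← a3, smul_smul, inv_mul_cancel₀ hlam, one_smul]
  -- the coefficient is linear on the orthogonal of c
  by_cases hα : IsEmpty α
  · exact ⟨0, zero_dotProduct c, fun x _ => funext fun p => hα.elim p.1⟩
  obtain ⟨i₀⟩ := not_isEmpty_iff.1 hα
  set u₁ : α → F := Pi.single i₀ 1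
  let f : (β → F) →ₗ[F] F :=
    { toFun := fun v => Z (ten u₁ (v - f₂ v c • d)) i₀
      map_add' := fun v w => by
        rw [C.h₂.add_left, add_smul, show v + w - (f₂ v c • d + f₂ w c • d) =
          (v - f₂ v c • d) + (w - f₂ w c • d) by abel, ten_add_right, map_add]
        rfl
      map_smul' := fun a v => by
        rw [C.h₂.smul_left, mul_smul, ← smul_sub, ten_smul_right, map_smul]
        rfl }
  obtain ⟨φ, hφ⟩ := exists_vec f
  have hval : ∀ v, f₂ v c = 0 → ∀ u, Z (ten u v) = (φ ⬝ᵥ v) • u := by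
    intro v hv u
    obtain ⟨z, hz⟩ := hg' v hv
    have : φ ⬝ᵥ v = z := by
      rw [hφ]
      show Z (ten u₁ (v - f₂ v c • d)) i₀ = z
      rw [hv, zero_smul, sub_zero, hz]
      simp [u₁]
    rw [this, hz]
  have hφc : φ ⬝ᵥ c = 0 := by
    have h0 : ∀ u, Z (ten u c) = 0 := fun u => by
      show ctr θ (mvLin g (ten u c) - ten u c) = 0
      rw [Matrix.toLin'_apply]
      show ctr θ (mv g (ten u c) - ten u c) = 0
      rw [hfix, sub_self, map_zero]
    have := congrFun (hval c hiso u₁) i₀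
    rw [h0] at this
    simpa [u₁] using this.symm
  refine ⟨φ, hφc, fun x hx => ?_⟩
  have hdec : x = ∑ k, ten (fun i => x (i, k)) ((Pi.single k 1 : β → F) - f₂ (Pi.single k 1) c • d) := by
    conv_lhs => rw [eq_sum_ten x]
    rw [← sub_eq_zero, ← Finset.sum_sub_distrib]
    have e : ∀ k, ten (fun i => x (i, k)) (Pi.single k (1 : F)) -
        ten (fun i => x (i, k)) ((Pi.single k 1 : β → F) - f₂ (Pi.single k 1) c • d) =
        ten (f₂ (Pi.single k 1) c • fun i => x (i, k)) d := by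
      intro k
      funext p
      simp only [Pi.sub_apply, ten, Pi.smul_apply, smul_eq_mul]
      ring
    rw [Finset.sum_congr rfl fun k _ => e k]
    funext p
    rw [Finset.sum_apply]
    simp only [ten, Pi.smul_apply, smul_eq_mul, Pi.zero_apply]
    rw [← Finset.sum_mul]
    have := congrFun hx p.1
    rw [ctr_apply, Pi.zero_apply] at this
    rw [Finset.sum_congr rfl fun k _ => mul_comm (f₂ (Pi.single k 1) c) (x (p.1, k))]
    rw [show ∑ k, x (p.1, k) * f₂ (Pi.single k 1) c = 0 from this, zero_mul]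
  rw [hgx x hx]
  congr 2
  conv_lhs => rw [hdec]
  conv_rhs => rw [hdec]
  rw [map_sum, map_sum]
  refine Finset.sum_congr rfl fun k _ => ?_
  rw [hval _ (by rw [Herm.sub_left C.h₂, C.h₂.smul_left, hdc, mul_one, sub_self]), ctr_ten]

theorem finrank_range_disp (g : GL (α × β) F) (c₀ φ₀ : β → F) :
    Module.finrank F (LinearMap.range (disp g c₀ φ₀)) ≤ Fintype.card α := by
  calc Module.finrank F (LinearMap.range (disp g c₀ φ₀))
      ≤ Module.finrank F ((line α c₀).map (mvLin g)) := Submodule.finrank_mono (by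
        rintro _ ⟨x, rfl⟩
        exact ⟨ten (ctr φ₀ (mv g⁻¹ x)) c₀, ten_mem_line _ _, by simp [disp_apply]⟩)
    _ ≤ Module.finrank F (α → F) := by
        rw [TensorMax.finrank_map_mv]; exact LinearMap.finrank_range_le _
    _ = Fintype.card α := Module.finrank_fintype_fun_eq_card F

/-- A conjugate of a factor transvection fixing an isotropic line pointwise is a Kronecker product. -/
theorem kron_of_fix [Nonempty α] (C : Ctx σ f₁ f₂ M) (hC : CentreScalar σ f₂ M)
    {g : GL (α × β) F} (hg : g ∈ M) {c₀ : β → F} (h₀ : f₂ c₀ c₀ = 0) {s₀ : F} (hs₀ : σ s₀ = -s₀)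
    {c : β → F} (hc : c ≠ 0) (hiso : f₂ c c = 0)
    (hfix : ∀ u, disp g c₀ (s₀ • frow f₂ c₀) (ten u c) = 0) :
    IsKron (g * uT₂ C c₀ h₀ s₀ * g⁻¹) := by
  classical
  set h := g * uT₂ C c₀ h₀ s₀ * g⁻¹ with hdef
  have hh : h ∈ M := M.mul_mem (M.mul_mem hg (uT₂_mem C c₀ h₀ hs₀)) (M.inv_mem hg)
  set X := disp g c₀ (s₀ • frow f₂ c₀) with hX
  have h00 : (s₀ • frow f₂ c₀) ⬝ᵥ c₀ = 0 := C.dot_self h₀ s₀
  have hhx : ∀ x, mv h x = x + X x := fun x => mv_conj_tT g c₀ _ h00 x
  have hinv : ∀ x, mv h⁻¹ x = x - X x := fun x => by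
    rw [mv_eq_iff, inv_inv, hhx, map_sub, disp_disp g h00, sub_zero, sub_add_cancel]
  have hfixh : ∀ u, mv h (ten u c) = ten u c := fun u => by rw [hhx, hfix, add_zero]
  have hfixh' : ∀ u, mv h⁻¹ (ten u c) = ten u c := fun u => by rw [hinv, hfix, sub_zero]
  have hperp : ∀ x, ctr (frow f₂ c) (X x) = 0 := fun x => by
    have := disp_mem_perp C hh hfixh x
    rwa [hhx, add_sub_cancel_left] at this
  -- contractions of the displacement
  have hrel : ∀ v, f₂ v c = 0 → ∃ d : β → F,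
      ∀ x, ctr (frow f₂ c) x = 0 → ctr (frow f₂ v) (X x) = ctr d x := by
    intro v hv
    obtain ⟨l, hl⟩ := exists_trace_neg C v
    obtain ⟨E, hE, -, hEx⟩ := exists_shear C hiso hv hl
    have hEperp : ∀ x, ctr (frow f₂ c) x = 0 → mv E x = x - ten (ctr (frow f₂ v) x) c := fun x hx => by
      rw [hEx, hx, ten_zero_left, add_zero, smul_zero, zero_sub, ten_neg_left, ← sub_eq_add_neg]
    have hEu : ∀ u, mv E (ten u c) = ten u c := fun u => by
      rw [hEperp _ (by rw [ctr_ten, frow_dot C.h₂, hiso, zero_smul]), ctr_ten, frow_dot C.h₂,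
        (f_eq_zero_comm C.h₂).1 hv, zero_smul, ten_zero_left, sub_zero]
    have hp : ∀ x, ctr (frow f₂ c) x = 0 → ctr (frow f₂ c) (mv h⁻¹ x) = 0 := fun x hx => by
      rw [hinv, map_sub, hx, hperp, sub_zero]
    have hk : ∀ x, ctr (frow f₂ c) x = 0 →
        mv (h * E * h⁻¹) x = x - ten (ctr (frow f₂ v) (mv h⁻¹ x)) c := fun x hx => by
      rw [mv_mul, mv_mul, hEperp _ (hp x hx), mv_sub, mv_mv_inv, hfixh]
    obtain ⟨φ, -, hφ⟩ := middle_scalar C hC hc hiso
      (M.mul_mem (M.mul_mem hh hE) (M.inv_mem hh)) (g := h * E * h⁻¹)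
      (fun u => by rw [mv_mul, mv_mul, hfixh', hEu, hfixh])
      (fun x hx => by
        rw [hk x hx, sub_sub_cancel_left]
        exact Submodule.neg_mem _ (ten_mem_line _ _))
    refine ⟨φ + frow f₂ v, fun x hx => ?_⟩
    have e := hφ x hx
    rw [hk x hx, sub_eq_add_neg, add_right_inj, ← ten_neg_left] at e
    have e' : -ctr (frow f₂ v) (mv h⁻¹ x) = ctr φ x := rho_injective hc (by simpa using e)
    rw [hinv, map_sub] at e'
    rw [ctr_add_vec, LinearMap.add_apply, ← e']
    abel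
  -- the middle map
  obtain ⟨i₀⟩ := ‹Nonempty α›
  set us : α → F := Pi.single i₀ 1
  have husus : us ⬝ᵥ us = 1 := by simp [us]
  set Γ : (β → F) →ₗ[F] β → F := (ctrL us).comp (X.comp (lam us)) with hΓ
  have hΓapp : ∀ v, Γ v = ctrL us (X (ten us v)) := fun v => rfl
  have hΓc : ∀ v, f₂ (Γ v) c = 0 := fun v => by
    rw [← frow_dot C.h₂, hΓapp, dot_ctrL, hperp, dotProduct_zero]
  have hmid : ∀ v, f₂ v c = 0 → ∀ u, X (ten u v) - ten u (Γ v) ∈ line α c := by
    intro v hv u
    refine mem_line_of_ctr hc fun φ hφ => ?_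
    obtain ⟨w, rfl⟩ := frow_surj C.h₂ φ
    rw [frow_dot C.h₂] at hφ
    have hwc : f₂ w c = 0 := (f_eq_zero_comm C.h₂).1 hφ
    obtain ⟨d, hd⟩ := hrel w hwc
    have hv' : ∀ u' : α → F, ctr (frow f₂ c) (ten u' v) = 0 := fun u' => by
      rw [ctr_ten, frow_dot C.h₂, hv, zero_smul]
    have e : frow f₂ w ⬝ᵥ Γ v = d ⬝ᵥ v := by
      rw [hΓapp, dot_ctrL, hd _ (hv' us), ctr_ten, dotProduct_smul, husus, smul_eq_mul, mul_one]
    rw [map_sub, hd _ (hv' u), ctr_ten, ctr_ten, e, sub_self]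
  have hmid' : ∀ z v, f₂ z c = 0 → f₂ v c = 0 → ∀ u,
      ctr (frow f₂ z) (X (ten u v)) = f₂ (Γ v) z • u := fun z v hz hv u => by
    rw [ctr_sub_line C hz (hmid v hv u), ctr_ten, frow_dot C.h₂]
  -- its rank
  have hrank : ∀ v₁ v₂, f₂ v₁ c = 0 → f₂ v₂ c = 0 →
      Γ v₁ ∉ Submodule.span F {c} ⊔ Submodule.span F {Γ v₂} →
      Γ v₂ ∉ Submodule.span F {c} ⊔ Submodule.span F {Γ v₁} → False := by
    intro v₁ v₂ hv₁ hv₂ h1 h2
    obtain ⟨φ₁, hφ₁, hφ₁'⟩ := exists_dot h1
    obtain ⟨φ₂, hφ₂, hφ₂'⟩ := exists_dot h2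
    have c1 : φ₁ ⬝ᵥ c = 0 := hφ₁ c (Submodule.mem_sup_left (Submodule.mem_span_singleton_self c))
    have c2 : φ₂ ⬝ᵥ c = 0 := hφ₂ c (Submodule.mem_sup_left (Submodule.mem_span_singleton_self c))
    have d12 : φ₁ ⬝ᵥ Γ v₂ = 0 := hφ₁ _ (Submodule.mem_sup_right (Submodule.mem_span_singleton_self _))
    have d21 : φ₂ ⬝ᵥ Γ v₁ = 0 := hφ₂ _ (Submodule.mem_sup_right (Submodule.mem_span_singleton_self _))
    let L : (α → F) × (α → F) →ₗ[F] LinearMap.range X :=
      (X.rangeRestrict).comp (((rho v₁).comp (LinearMap.fst F (α → F) (α → F))) +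
        (rho v₂).comp (LinearMap.snd F (α → F) (α → F)))
    have hinj : Function.Injective L := by
      rw [← LinearMap.ker_eq_bot, LinearMap.ker_eq_bot']
      rintro ⟨u₁, u₂⟩ hu
      have e : X (ten u₁ v₁ + ten u₂ v₂) = 0 := congrArg Subtype.val hu
      have hmem : ten u₁ (Γ v₁) + ten u₂ (Γ v₂) ∈ line α c := by
        have := Submodule.add_mem _ (hmid v₁ hv₁ u₁) (hmid v₂ hv₂ u₂)
        rw [map_add] at e
        rw [show X (ten u₁ v₁) - ten u₁ (Γ v₁) + (X (ten u₂ v₂) - ten u₂ (Γ v₂)) =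
          -(ten u₁ (Γ v₁) + ten u₂ (Γ v₂)) by linear_combination (norm := module) e] at this
        simpa using Submodule.neg_mem _ this
      have a1 := ctr_line c1 hmem
      have a2 := ctr_line c2 hmem
      rw [map_add, ctr_ten, ctr_ten, hφ₁', d12, one_smul, zero_smul, add_zero] at a1
      rw [map_add, ctr_ten, ctr_ten, hφ₂', d21, one_smul, zero_smul, zero_add] at a2
      rw [a1, a2]; rfl
    have h1' := LinearMap.finrank_le_finrank_of_injective hinj
    have h2' := finrank_range_disp g c₀ (s₀ • frow f₂ c₀)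
    rw [Module.finrank_prod, Module.finrank_fintype_fun_eq_card] at h1'
    have := Fintype.card_pos (α := α)
    rw [← hX] at h2'
    omega
  -- splitting off a shear and a transvection
  have hfinish : ∀ T : GL (α × β) F, T ∈ M → IsKron T → (∀ u, mv T (ten u c) = ten u c) →
      (∀ x, ctr (frow f₂ c) x = 0 → mv (T⁻¹ * h) x - x ∈ line α c) → IsKron h := by
    intro T hT hTk hTc hTmid
    have hk : T⁻¹ * h ∈ M := M.mul_mem (M.inv_mem hT) hh
    have hkfix : ∀ u, mv (T⁻¹ * h) (ten u c) = ten u c := fun u => by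
      rw [mv_mul, hfixh, mv_eq_iff, inv_inv, hTc]
    obtain ⟨φ, hφ, hφx⟩ := middle_scalar C hC hc hiso hk hkfix hTmid
    obtain ⟨v, hv⟩ := frow_surj C.h₂ (-φ)
    have hvc : f₂ v c = 0 := by
      rw [f_eq_zero_comm C.h₂, ← frow_dot C.h₂, hv, neg_dotProduct, hφ, neg_zero]
    obtain ⟨l, hl⟩ := exists_trace_neg C v
    obtain ⟨E, hE, hEk, hEx⟩ := exists_shear C hiso hvc hl
    obtain ⟨s, hs, hsx⟩ := hC c hc hiso (E⁻¹ * (T⁻¹ * h)) (M.mul_mem (M.inv_mem hE) hk) fun x hx => by
      rw [mv_mul, mv_eq_iff, inv_inv, hφx x hx, hEx, hx, ten_zero_left, add_zero, smul_zero, zero_sub,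
        hv, show (-φ : β → F) = (0 : β → F) - φ by rw [zero_sub], ctr_sub_vec, ctr_zero_vec,
        LinearMap.sub_apply, LinearMap.zero_apply, zero_sub, neg_neg]
    have : E⁻¹ * (T⁻¹ * h) = uT₂ C c hiso s := ext_mv fun x => by rw [hsx, mv_uT₂]
    rw [show h = T * (E * (E⁻¹ * (T⁻¹ * h))) by group, this]
    exact isKron_mul hTk (isKron_mul hEk (isKron_uT₂ C c hiso s))
  by_cases hall : ∀ v, f₂ v c = 0 → Γ v ∈ Submodule.span F {c}
  · refine hfinish 1 M.one_mem ⟨1, 1, by simp⟩ (fun u => mv_one _) fun x hx => ?_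
    rw [inv_one, one_mul, hhx, add_sub_cancel_left]
    refine mem_line_of_ctr hc fun φ hφ => ?_
    obtain ⟨w, rfl⟩ := frow_surj C.h₂ φ
    rw [frow_dot C.h₂] at hφ
    have hwc : f₂ w c = 0 := (f_eq_zero_comm C.h₂).1 hφ
    refine eq_zero_of_orth₁ C fun u => ?_
    -- adjointness moves the displacement onto the tensor
    have e := C.iso hh (mv h⁻¹ x) (ten u w)
    rw [mv_mv_inv, hhx (ten u w), hinv] at e
    obtain ⟨r, hr⟩ : ∃ r, r = X (ten u w) - ten u (Γ w) := ⟨_, rfl⟩
    have hrl : r ∈ line α c := hr ▸ hmid w hwc u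
    obtain ⟨r', hr'⟩ := mem_line.1 hrl
    obtain ⟨a, ha⟩ := Submodule.mem_span_singleton.1 (hall w hwc)
    have hXw : X (ten u w) = ten (r' + a • u) c := by
      rw [ten_add_left, hr', hr, ten_smul_left, ← ten_smul_right, ha]; abel
    rw [hXw, Herm.add_right C.hf, Herm.sub_left C.hf, tf_ctr C.h₁ C.h₂, tf_ctr C.h₁ C.h₂,
      tf_ctr C.h₁ C.h₂, hx, Herm.zero_left C.h₁, add_zero] at e
    linear_combination e
  · push Not at hall
    obtain ⟨v₁, hv₁, hv₁n⟩ := hall
    set c₁ := Γ v₁ with hc₁def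
    have hc₁c : f₂ c₁ c = 0 := hΓc v₁
    have hcoef : ∀ v, f₂ v c = 0 → ∃ m r : F, Γ v = m • c₁ + r • c := by
      intro v hv
      by_contra hcon
      push Not at hcon
      refine hrank v₁ v hv₁ hv ?_ ?_
      · intro hm
        obtain ⟨y, hy, z, hz, hyz⟩ := Submodule.mem_sup.1 hm
        obtain ⟨r, rfl⟩ := Submodule.mem_span_singleton.1 hy
        obtain ⟨m, rfl⟩ := Submodule.mem_span_singleton.1 hz
        by_cases hm0 : m = 0
        · apply hv₁n
          rw [hc₁def, ← hyz, hm0, zero_smul, add_zero]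
          exact Submodule.smul_mem _ r (Submodule.mem_span_singleton_self c)
        · refine hcon m⁻¹ (-(m⁻¹ * r)) ?_
          rw [hc₁def, ← hyz, smul_add, smul_smul, smul_smul, inv_mul_cancel₀ hm0, one_smul, neg_smul]
          abel
      · intro hm
        obtain ⟨y, hy, z, hz, hyz⟩ := Submodule.mem_sup.1 hm
        obtain ⟨r, rfl⟩ := Submodule.mem_span_singleton.1 hy
        obtain ⟨m, rfl⟩ := Submodule.mem_span_singleton.1 hz
        exact hcon m r (by rw [← hyz, add_comm])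
    have hskew : ∀ v w, f₂ v c = 0 → f₂ w c = 0 → f₂ (Γ v) w + f₂ v (Γ w) = 0 := by
      intro v w hv hw
      obtain ⟨b, hb⟩ := (C.h₁.nondegenerate us (by simp [us])).2
      have hb' : f₁ us b ≠ 0 := hb
      have e1 : tf σ f₁ f₂ (X (ten us v)) (X (ten b w)) = 0 := by
        rw [disp_apply, disp_apply, C.iso hg, tf_ten C.h₁ C.h₂, h₀, mul_zero]
      have e := C.iso hh (ten us v) (ten b w)
      rw [hhx, hhx, Herm.add_right C.hf, tf_add_left, tf_add_left, e1, add_zero, tf_ctr C.h₁ C.h₂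
        (X (ten us v)), hmid' w v hw hv, C.h₁.smul_left, tf_herm C.h₁ C.h₂ (ten us v) (X _),
        tf_ctr C.h₁ C.h₂ (X (ten b w)), hmid' v w hv hw, C.h₁.smul_left, map_mul, ← C.h₁.herm,
        ← C.h₂.herm] at e
      have e' : f₁ us b * (f₂ (Γ v) w + f₂ v (Γ w)) = 0 := by linear_combination e
      exact (mul_eq_zero.1 e').resolve_left hb'
    set r₁ := f₂ v₁ c₁ with hr₁
    have heq : ∀ v (m r : F), f₂ v c = 0 → Γ v = m • c₁ + r • c → σ m * r₁ = -f₂ c₁ v := by
      intro v m r hv hm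
      have e := hskew v₁ v hv₁ hv
      rw [← hc₁def, hm, Herm.add_right C.h₂, Herm.smul_right C.h₂, Herm.smul_right C.h₂, hv₁,
        mul_zero, add_zero, ← hr₁] at e
      linear_combination e
    have hr₁0 : r₁ ≠ 0 := by
      intro h0
      apply hv₁n
      obtain ⟨d, hdd, hcd, hdc⟩ := exists_norm_d C hc hiso
      -- c₁ is orthogonal to the orthogonal of c
      have hmul : c₁ = f₂ c₁ d • c := by
        by_contra hne
        obtain ⟨w, hw⟩ := (C.h₂.nondegenerate (c₁ - f₂ c₁ d • c) (sub_ne_zero.2 hne)).2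
        apply hw
        set w' := w - f₂ w c • d
        have hw'c : f₂ w' c = 0 := by rw [Herm.sub_left C.h₂, C.h₂.smul_left, hdc, mul_one, sub_self]
        obtain ⟨m, r, hm⟩ := hcoef w' hw'c
        have e1 : f₂ c₁ w' = 0 := by
          have := heq w' m r hw'c hm
          rw [h0, mul_zero, zero_eq_neg] at this
          exact this
        rw [Herm.sub_right C.h₂, Herm.smul_right C.h₂, sub_eq_zero] at e1
        rw [Herm.sub_left C.h₂, C.h₂.smul_left, e1, C.h₂.herm c w]
        ring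
      rw [hmul]
      exact Submodule.smul_mem _ _ (Submodule.mem_span_singleton_self c)
    have hskewr : σ r₁⁻¹ = -r₁⁻¹ := by
      have e := heq v₁ 1 0 hv₁ (by rw [one_smul, zero_smul, add_zero])
      rw [map_one, one_mul, C.h₂.herm c₁, ← hr₁] at e
      rw [map_inv₀, show σ r₁ = -r₁ by linear_combination e, inv_neg]
    have hmformula : ∀ v (m r : F), f₂ v c = 0 → Γ v = m • c₁ + r • c → m = r₁⁻¹ * f₂ v c₁ := by
      intro v m r hv hm
      have e := congrArg σ (heq v m r hv hm)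
      have hσr : σ r₁ = -r₁ := by
        have := hskewr
        rw [map_inv₀, ← inv_neg] at this
        exact inv_inj.1 this
      rw [map_mul, C.h₂.involutive, map_neg, hσr, ← C.h₂.herm] at e
      have e2 : m * r₁ = f₂ v c₁ := by linear_combination -e
      rw [← e2]
      field_simp
    have hc₁0 : c₁ ≠ 0 := fun h => hv₁n (by rw [h]; exact Submodule.zero_mem _)
    have hc₁iso : f₂ c₁ c₁ = 0 := by
      obtain ⟨m, r, hm⟩ := hcoef c₁ hc₁c
      have hmem := hmid v₁ hv₁ us
      obtain ⟨r', hr'⟩ := mem_line.1 hmem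
      have e := disp_disp g h00 (ten us v₁)
      rw [← hX, ← sub_add_cancel (X (ten us v₁)) (ten us (Γ v₁)), ← hr', map_add, hfix, zero_add] at e
      obtain ⟨r'', hr''⟩ := mem_line.1 (hmid c₁ hc₁c us)
      rw [← hc₁def] at e
      rw [e, zero_sub, hm, ten_add_right, ten_smul_right, ten_smul_right] at hr''
      obtain ⟨φ, hφ, hφ'⟩ := exists_dot hv₁n
      have a := congrArg (ctr φ) hr''
      rw [ctr_ten, hφ c (Submodule.mem_span_singleton_self c), zero_smul, map_neg, map_add, map_smul,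
        map_smul, ctr_ten, ctr_ten, hφ', hφ c (Submodule.mem_span_singleton_self c), zero_smul,
        smul_zero, add_zero, one_smul, zero_eq_neg, smul_eq_zero] at a
      have hm0 : m = 0 := a.resolve_right (by simp [us])
      have := hmformula c₁ m r hc₁c hm
      rw [hm0, zero_eq_mul] at this
      exact this.resolve_left (inv_ne_zero hr₁0)
    have hTc : ∀ u, mv (uT₂ C c₁ hc₁iso r₁⁻¹) (ten u c) = ten u c := fun u => by
      rw [mv_uT₂, ctr_ten, frow_dot C.h₂, (f_eq_zero_comm C.h₂).1 hc₁c, zero_smul, ten_zero_left,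
        smul_zero, add_zero]
    refine hfinish _ (uT₂_mem C c₁ hc₁iso hskewr) (isKron_uT₂ C c₁ hc₁iso r₁⁻¹) hTc fun x hx => ?_
    -- both sides are linear and agree on tensors in the orthogonal of c
    obtain ⟨d, hdd, hcd, hdc⟩ := exists_norm_d C hc hiso
    obtain ⟨L, hL⟩ : ∃ L : (α × β → F) →ₗ[F] α × β → F,
        L = mvLin ((uT₂ C c₁ hc₁iso r₁⁻¹)⁻¹ * h) - LinearMap.id := ⟨_, rfl⟩
    have hLapp : ∀ y, L y = mv ((uT₂ C c₁ hc₁iso r₁⁻¹)⁻¹ * h) y - y := fun y => by
      rw [hL, LinearMap.sub_apply, Matrix.toLin'_apply, LinearMap.id_apply]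
    have hpure : ∀ u v, f₂ v c = 0 → L (ten u v) ∈ line α c := by
      intro u v hv
      obtain ⟨m, r, hm⟩ := hcoef v hv
      obtain ⟨r', hr'⟩ := mem_line.1 (hmid v hv u)
      rw [hLapp, mv_mul, hhx, ← sub_add_cancel (X (ten u v)) (ten u (Γ v)), ← hr', hm, ten_add_right,
        ten_smul_right, ten_smul_right, hmformula v m r hv hm]
      refine mem_line.2 ⟨r' + r • u, ?_⟩
      rw [eq_sub_iff_add_eq, eq_comm, mv_eq_iff, inv_inv, mv_uT₂]
      simp only [map_add, ctr_ten, frow_dot C.h₂, hc₁iso, (f_eq_zero_comm C.h₂).1 hc₁c,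
        ten_add_left, ten_smul_left, map_smul, smul_zero, zero_smul, add_zero, zero_add]
      module
    rw [← hLapp]
    have hdec : x = ∑ k, ten (fun i => x (i, k)) ((Pi.single k 1 : β → F) - f₂ (Pi.single k 1) c • d) := by
      conv_lhs => rw [eq_sum_ten x]
      rw [← sub_eq_zero, ← Finset.sum_sub_distrib]
      have e : ∀ k, ten (fun i => x (i, k)) (Pi.single k (1 : F)) -
          ten (fun i => x (i, k)) ((Pi.single k 1 : β → F) - f₂ (Pi.single k 1) c • d) =
          ten (f₂ (Pi.single k 1) c • fun i => x (i, k)) d := by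
        intro k
        funext p
        simp only [Pi.sub_apply, ten, Pi.smul_apply, smul_eq_mul]
        ring
      rw [Finset.sum_congr rfl fun k _ => e k]
      funext p
      rw [Finset.sum_apply]
      simp only [ten, Pi.smul_apply, smul_eq_mul, Pi.zero_apply]
      rw [← Finset.sum_mul]
      have := congrFun hx p.1
      rw [ctr_apply, Pi.zero_apply] at this
      rw [Finset.sum_congr rfl fun k _ => mul_comm (f₂ (Pi.single k 1) c) (x (p.1, k))]
      rw [show ∑ k, x (p.1, k) * f₂ (Pi.single k 1) c = 0 from this, zero_mul]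
    rw [hdec, map_sum]
    exact Submodule.sum_mem _ fun k _ => hpure _ _ (by
      rw [Herm.sub_left C.h₂, C.h₂.smul_left, hdc, mul_one, sub_self])

/-- A Kronecker conjugate of a factor transvection has a line as residual space. -/
theorem line_of_kron [Nonempty α] (hab : Fintype.card α < Fintype.card β) (C : Ctx σ f₁ f₂ M)
    {g : GL (α × β) F} (hg : g ∈ M) {c₀ : β → F} (hc₀ : c₀ ≠ 0) (h₀ : f₂ c₀ c₀ = 0) {s₀ : F}
    (hs0 : s₀ ≠ 0) (hk : IsKron (g * uT₂ C c₀ h₀ s₀ * g⁻¹)) :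
    ∃ c', c' ≠ 0 ∧ f₂ c' c' = 0 ∧ (line α c₀).map (mvLin g) = line α c' := by
  have h00 : (s₀ • frow f₂ c₀) ⬝ᵥ c₀ = 0 := C.dot_self h₀ s₀
  have hφ0 : s₀ • frow f₂ c₀ ≠ 0 := smul_ne_zero hs0 (frow_ne_zero C.h₂ hc₀)
  set X := disp g c₀ (s₀ • frow f₂ c₀) with hX
  obtain ⟨A, B, hAB⟩ := mv_kron_ten hk
  have hXt : ∀ u w, X (ten u w) = ten (mv A u) (mv B w) - ten u w := fun u w => by
    rw [← hAB, show mv (g * uT₂ C c₀ h₀ s₀ * g⁻¹) (ten u w) = ten u w + X (ten u w) from
      mv_conj_tT g c₀ _ h00 _, add_sub_cancel_left]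
  have hdim : Module.finrank F (LinearMap.range X) ≤ Fintype.card α := finrank_range_disp g c₀ _
  -- the first factor is scalar
  have hA : ∀ u, mv A u ∈ Submodule.span F {u} := by
    intro u
    by_contra hu
    obtain ⟨ψ, hψ, hψ'⟩ := exists_dot hu
    have hψu : ψ ⬝ᵥ u = 0 := hψ u (Submodule.mem_span_singleton_self u)
    have hinj : Function.Injective (X.rangeRestrict.comp (lam u)) := by
      rw [← LinearMap.ker_eq_bot, LinearMap.ker_eq_bot']
      intro w hw
      have e : X (ten u w) = 0 := congrArg Subtype.val hw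
      rw [hXt, sub_eq_zero] at e
      have := congrArg (ctrL ψ) e
      rw [ctrL_ten, ctrL_ten, hψ', hψu, one_smul, zero_smul] at this
      exact mv_inj B (this.trans (mv_zero B).symm)
    have := LinearMap.finrank_le_finrank_of_injective hinj
    rw [Module.finrank_fintype_fun_eq_card] at this
    omega
  obtain ⟨i₀⟩ := ‹Nonempty α›
  set e₀ : α → F := Pi.single i₀ 1
  have he₀ : e₀ ≠ 0 := by simp [e₀]
  obtain ⟨r, hr⟩ := Submodule.mem_span_singleton.1 (hA e₀)
  have hAr : ∀ u, mv A u = r • u := by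
    intro u
    by_cases hu : u ∈ Submodule.span F {e₀}
    · obtain ⟨b, rfl⟩ := Submodule.mem_span_singleton.1 hu
      rw [mv_smul, ← hr, smul_comm]
    · obtain ⟨t, ht⟩ := Submodule.mem_span_singleton.1 (hA u)
      obtain ⟨s, hs⟩ := Submodule.mem_span_singleton.1 (hA (e₀ + u))
      rw [mv_add, ← hr, ← ht, smul_add] at hs
      have e1 : (s - t) • u = (r - s) • e₀ := by
        rw [sub_smul, sub_smul, sub_eq_sub_iff_add_eq_add, add_comm (s • u), hs]
      have hst : s = t := by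
        by_contra h
        exact hu (Submodule.mem_span_singleton.2 ⟨(s - t)⁻¹ * (r - s), by
          rw [mul_smul, ← e1, smul_smul, inv_mul_cancel₀ (sub_ne_zero.2 h), one_smul]⟩)
      rw [hst, sub_self, zero_smul, eq_comm, smul_eq_zero, sub_eq_zero] at e1
      rw [← ht, e1.resolve_right he₀]
  set Γ : (β → F) →ₗ[F] β → F := r • mvLin B - LinearMap.id
  have hXΓ : ∀ u w, X (ten u w) = ten u (Γ w) := fun u w => by
    rw [hXt, hAr]
    funext p
    simp [Γ, ten, mv]
    ring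
  have hrange : LinearMap.range X = (line α c₀).map (mvLin g) := range_disp g c₀ hφ0
  have hdim' : Module.finrank F ((line α c₀).map (mvLin g)) = Fintype.card α := by
    rw [TensorMax.finrank_map_mv, finrank_line hc₀]
  obtain ⟨w₀, hw₀⟩ : ∃ w₀, Γ w₀ ≠ 0 := by
    by_contra hcon
    push Not at hcon
    have : X = 0 := ext_ten fun u w => by rw [hXΓ, hcon, ten_zero_right, LinearMap.zero_apply]
    rw [← hrange, this, LinearMap.range_zero, finrank_bot] at hdim'
    have := Fintype.card_pos (α := α)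
    omega
  have hle : line α (Γ w₀) ≤ LinearMap.range X := by
    intro x hx
    obtain ⟨u, rfl⟩ := mem_line.1 hx
    exact ⟨ten u w₀, hXΓ u w₀⟩
  have heq : line α (Γ w₀) = (line α c₀).map (mvLin g) := by
    rw [← hrange]
    exact Submodule.eq_of_le_of_finrank_le hle (by rw [finrank_line hw₀]; exact hdim)
  refine ⟨Γ w₀, hw₀, ?_, heq.symm⟩
  obtain ⟨b, hb⟩ := (C.h₁.nondegenerate e₀ he₀).2
  have hb' : f₁ e₀ b ≠ 0 := hb
  have hmem : ∀ u, ten u (Γ w₀) ∈ (line α c₀).map (mvLin g) := fun u => heq ▸ ten_mem_line u _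
  obtain ⟨y, hy, hye⟩ := hmem e₀
  obtain ⟨y', hy', hye'⟩ := hmem b
  obtain ⟨z, rfl⟩ := mem_line.1 hy
  obtain ⟨z', rfl⟩ := mem_line.1 hy'
  have e := C.iso hg (ten z c₀) (ten z' c₀)
  rw [Matrix.toLin'_apply] at hye hye'
  change tf σ f₁ f₂ _ _ = _ at e
  simp only [mv] at e
  rw [hye, hye', tf_ten C.h₁ C.h₂, tf_ten C.h₁ C.h₂, h₀, mul_zero] at e
  exact (mul_eq_zero.1 e).resolve_left hb'

/-- A member sends a line to a line as soon as it sends an orthogonal one to a line. -/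
theorem line_step [Nonempty α] (hab : Fintype.card α < Fintype.card β) (C : Ctx σ f₁ f₂ M)
    (hC : CentreScalar σ f₂ M) {g : GL (α × β) F} (hg : g ∈ M) {c c' w : β → F} (hc' : c' ≠ 0)
    (hiso' : f₂ c' c' = 0) (hmap : (line α c).map (mvLin g) = line α c')
    (hw0 : w ≠ 0) (hw : f₂ w w = 0) (hwc : f₂ w c = 0) :
    ∃ w', w' ≠ 0 ∧ f₂ w' w' = 0 ∧ (line α w).map (mvLin g) = line α w' := by
  obtain ⟨s₀, hs0, hs₀⟩ := exists_anti C.h₂.ne_refl C.h₂.involutive
  refine line_of_kron hab C hg hw0 hw hs0 (kron_of_fix C hC hg hw hs₀ hc' hiso' fun u => ?_)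
  obtain ⟨y, hy, hye⟩ : ten u c' ∈ (line α c).map (mvLin g) := hmap ▸ ten_mem_line u c'
  obtain ⟨v, rfl⟩ := mem_line.1 hy
  rw [disp_apply, ← hye, Matrix.toLin'_apply]
  show mv g (ten (ctr _ (mv g⁻¹ (mv g (ten v c)))) w) = 0
  rw [mv_inv_mv, ctr_ten, smul_dotProduct, frow_dot C.h₂, (f_eq_zero_comm C.h₂).1 hwc, smul_zero,
    zero_smul, ten_zero_left, mv_zero]

end Cfsg.Agent.TensorMax.U
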