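/-
One transvection at a pure tensor of isotropic vectors generates the special unitary group of the
tensor product.
-/
import Cfsg.Agent.Lib.TensorMax.UGrow
import Cfsg.Agent.Lib.Transvec.HermWreathTools

set_option autoImplicit false
set_option linter.unusedSectionVars false

namespace Cfsg.Agent.TensorMax.U

open scoped Matrix Kronecker
open Matrix Cfsg.Agent.Transvec Cfsg.Agent.Transvec.Herm

variable {α β : Type} [Fintype α] [DecidableEq α] [Fintype β] [DecidableEq β] {F : Type*} [Field F]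
variable {σ : F ≃+* F} {f₁ : (α → F) → (α → F) → F} {f₂ : (β → F) → (β → F) → F}
variable {M : Subgroup (GL (α × β) F)}

section Vectors

variable {κ : Type} [Fintype κ] [DecidableEq κ] {f : (κ → F) → (κ → F) → F}

/-- A vector with prescribed product with x and prescribed norm. -/
theorem exists_prescribed [Finite F] (hf : Geo.IsUnitaryForm σ f) (hκ : 3 ≤ Fintype.card κ)
    {x : κ → F} (hx : x ≠ 0) {A : F} (hA : σ A = A) (B : F) :
    ∃ y, f x y = B ∧ f y y = A := by
  by_cases hxx : f x x = 0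
  · obtain ⟨d, -, hxd, hdd⟩ := exists_partner hf (nondeg_top hf) Submodule.mem_top hx hxx
    obtain ⟨hn, h2⟩ := nondeg_pair hf hxx hdd hxd
    have hsum := finrank_orth_add hf hn
    rw [h2, Module.finrank_fintype_fun_eq_card] at hsum
    obtain ⟨r₀, hr₀, hr₀0⟩ := exists_anisotropic hf (nondeg_orth hf hn)
      (fun h0 => by rw [h0, finrank_bot] at hsum; omega)
    obtain ⟨ν, hν⟩ := exists_norm hf.ne_refl hf.involutive (A / f r₀ r₀)
      (by rw [map_div₀, hA, self_fixed hf])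
    obtain ⟨r, hr, hrr⟩ : ∃ r ∈ orth hf (Submodule.span F ({x, d} : Set (κ → F))), f r r = A :=
      ⟨ν • r₀, Submodule.smul_mem _ _ hr₀, by
        rw [hf.smul_left, Herm.smul_right hf, ← mul_assoc, hν, div_mul_cancel₀ _ hr₀0]⟩
    have hxr : f x r = 0 := hr x (Submodule.subset_span (Set.mem_insert _ _))
    have hdr : f d r = 0 := hr d (Submodule.subset_span (Set.mem_insert_of_mem _ rfl))
    refine ⟨σ B • d + r, ?_, ?_⟩
    · rw [Herm.add_right hf, Herm.smul_right hf, hxd, hxr, hf.involutive, mul_one, add_zero]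
    · rw [hf.add_left, Herm.add_right hf, Herm.add_right hf, hf.smul_left, hf.smul_left,
        Herm.smul_right hf, Herm.smul_right hf, hdd, hdr, (f_eq_zero_comm hf).1 hdr, hrr]
      ring
  · have hn := nondeg_span_single hf hxx
    have hsum := finrank_orth_add hf hn
    rw [finrank_span_single hf hxx, Module.finrank_fintype_fun_eq_card] at hsum
    obtain ⟨r, hr, -, hrr⟩ := exists_norm_vector hf (nondeg_orth hf hn) (by omega)
      (a := A - (σ B / f x x) * B) (by
        rw [map_sub, map_mul, map_div₀, hf.involutive, self_fixed hf, hA]; ring)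
    have hxr : f x r = 0 := (orth_span_single_mem hf).1 hr
    refine ⟨(σ B / f x x) • x + r, ?_, ?_⟩
    · rw [Herm.add_right hf, Herm.smul_right hf, hxr, map_div₀, hf.involutive, self_fixed hf,
        div_mul_cancel₀ _ hxx, add_zero]
    · rw [hf.add_left, Herm.add_right hf, Herm.add_right hf, hf.smul_left, hf.smul_left,
        Herm.smul_right hf, Herm.smul_right hf, hxr, (f_eq_zero_comm hf).1 hxr, hrr, map_div₀,
        hf.involutive, self_fixed hf, div_mul_cancel₀ _ hxx]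
      ring

end Vectors

theorem Ctx.hMf (C : Ctx σ f₁ f₂ M) :
    M ≤ preserving (Units.coeHom (Matrix (α × β) (α × β) F)) (tf σ f₁ f₂) :=
  fun _ hg => (C.le_su hg).1

/-- Two centres with non-zero skew product sum to a centre. -/
theorem centre_add (C : Ctx σ f₁ f₂ M) {v w : α × β → F} (hv : v ∈ hCentres C.hf M)
    (hw : w ∈ hCentres C.hf M) {r : F} (hvw : tf σ f₁ f₂ v w = r) (hr0 : r ≠ 0) (hr : σ r = -r) :
    v + w ∈ hCentres C.hf M := by
  refine hCentres_add C.hf C.hMf hv hw (hvw ▸ hr0) ?_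
  rw [C.hf.add_left, Herm.add_right C.hf, Herm.add_right C.hf, hv.1, hw.1, tf_herm C.h₁ C.h₂ w v, hvw, hr]
  ring

variable [Finite F]

/-- All tensors of two isotropic vectors are centres. -/
theorem iso_iso (hβ : 3 ≤ Fintype.card β) (C : Ctx σ f₁ f₂ M) {e₀ : α → F} {c₀ : β → F}
    (he₀ : e₀ ≠ 0) (hc₀ : c₀ ≠ 0) (hee₀ : f₁ e₀ e₀ = 0) (hcc₀ : f₂ c₀ c₀ = 0)
    (hv : ten e₀ c₀ ∈ hCentres C.hf M) (e : α → F) (c : β → F) (hee : f₁ e e = 0) (hcc : f₂ c c = 0) :
    ten e c ∈ hCentres C.hf M := by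
  by_cases he : e = 0
  · rw [he, ten_zero_left, ← zero_smul F (ten e₀ c₀)]; exact hCentres_smul C.hf hv 0
  by_cases hc : c = 0
  · rw [hc, ten_zero_right, ← zero_smul F (ten e₀ c₀)]; exact hCentres_smul C.hf hv 0
  obtain ⟨B, hB, hBc⟩ := exists_move_su C.h₂ hβ hc₀ hc hcc₀ hcc
  have h1 : ten e₀ c ∈ hCentres C.hf M := by
    have := hCentres_mv C.hf C.hMf (C.memW B hB) hv
    rwa [mv_kr_ten, mv_one, hBc] at this
  -- moving the first factor between vectors that are not orthogonal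
  have hstep : ∀ u w, f₁ u u = 0 → f₁ w w = 0 → f₁ u w ≠ 0 → ten u c ∈ hCentres C.hf M →
      ten w c ∈ hCentres C.hf M := by
    intro u w hu hw huw hm
    obtain ⟨t, ht0, ht⟩ := exists_anti C.h₁.ne_refl C.h₁.involutive
    obtain ⟨l, hl⟩ : ∃ l, l = σ (t / f₁ u w) := ⟨_, rfl⟩
    have hl0 : l ≠ 0 := hl ▸ (map_ne_zero_iff σ σ.injective).2 (div_ne_zero ht0 huw)
    have hut : f₁ u (l • w) = t := by
      rw [Herm.smul_right C.h₁, hl, C.h₁.involutive, div_mul_cancel₀ _ huw]
    obtain ⟨hv', hs, hmap⟩ := htv_map C.h₁ hu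
      (show f₁ (l • w) (l • w) = 0 by rw [C.h₁.smul_left, Herm.smul_right C.h₁, hw, mul_zero, mul_zero])
      (hut ▸ ht0) (by rw [hut, ht])
    have := hCentres_mv C.hf C.hMf
      (C.memU _ ⟨htv_mem C.h₁ _ hv' hs, htv_mem_specialLinear C.h₁ _ hv' _⟩) hm
    rw [mv_kr_ten, mv_one, hmap, ten_smul_left] at this
    have := hCentres_smul C.hf this l⁻¹
    rwa [smul_smul, inv_mul_cancel₀ hl0, one_smul] at this
  obtain ⟨u, huu, hu1, hu2⟩ := exists_bridge C.h₁ he₀ he hee₀ hee
  exact hstep u e huu hee hu2 (hstep e₀ u hee₀ huu hu1 h1)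

/-- Tensors with an isotropic first factor are centres. -/
theorem iso_any (hβ : 3 ≤ Fintype.card β) (C : Ctx σ f₁ f₂ M)
    (hiso : ∀ e c, f₁ e e = 0 → f₂ c c = 0 → ten e c ∈ hCentres C.hf M)
    (d : α → F) (z : β → F) (hdd : f₁ d d = 0) : ten d z ∈ hCentres C.hf M := by
  by_cases hd : d = 0
  · rw [hd, ten_zero_left, ← ten_zero_left (0 : β → F)]
    exact hiso 0 0 (Herm.zero_left C.h₁ _) (Herm.zero_left C.h₂ _)
  by_cases hzz : f₂ z z = 0
  · exact hiso d z hdd hzz
  obtain ⟨e, -, hde, hee⟩ := exists_partner C.h₁ (nondeg_top C.h₁) Submodule.mem_top hd hdd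
  have hed : f₁ e d = 1 := by rw [C.h₁.herm, hde, map_one]
  have hn := nondeg_span_single C.h₂ hzz
  have hsum := finrank_orth_add C.h₂ hn
  rw [finrank_span_single C.h₂ hzz, Module.finrank_fintype_fun_eq_card] at hsum
  obtain ⟨c, hc, hc0, hcc⟩ := exists_isotropic C.h₂ (nondeg_orth C.h₂ hn) (by omega)
  obtain ⟨d₁, hd₁, hcd, hdd₁⟩ := exists_partner C.h₂ (nondeg_orth C.h₂ hn) hc hc0 hcc
  have hzc : f₂ z c = 0 := (orth_span_single_mem C.h₂).1 hc
  have hzd : f₂ z d₁ = 0 := (orth_span_single_mem C.h₂).1 hd₁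
  obtain ⟨t, ht0, ht⟩ := exists_anti C.h₂.ne_refl C.h₂.involutive
  have hN : σ (f₂ z z) = f₂ z z := self_fixed C.h₂ z
  have hmk : ∀ a : F, ∃ g, f₂ g g = 0 ∧ f₂ c g = t ∧ f₂ z g = σ a * f₂ z z := by
    intro a
    obtain ⟨b₀, hb₀⟩ := exists_trace C.h₂.ne_refl C.h₂.involutive 1 (map_one σ)
    obtain ⟨x, hx⟩ : ∃ x, x = b₀ * (-(a * σ a * f₂ z z) / t) := ⟨_, rfl⟩
    refine ⟨a • z + x • c + (-t) • d₁, ?_, ?_, ?_⟩
    · simp only [C.h₂.add_left, Herm.add_right C.h₂, C.h₂.smul_left, Herm.smul_right C.h₂, hcc, hdd₁, hzc,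
        hzd, (f_eq_zero_comm C.h₂).1 hzc, (f_eq_zero_comm C.h₂).1 hzd, hcd,
        show f₂ d₁ c = 1 by rw [C.h₂.herm, hcd, map_one], hx, map_mul, map_neg, map_div₀, ht,
        C.h₂.involutive, hN]
      field_simp
      linear_combination (-(a * σ a * f₂ z z) * t ^ 2) * hb₀
    · rw [Herm.add_right C.h₂, Herm.add_right C.h₂, Herm.smul_right C.h₂, Herm.smul_right C.h₂,
        Herm.smul_right C.h₂, (f_eq_zero_comm C.h₂).1 hzc, hcc, hcd, map_neg, ht]
      ring
    · rw [Herm.add_right C.h₂, Herm.add_right C.h₂, Herm.smul_right C.h₂, Herm.smul_right C.h₂,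
        Herm.smul_right C.h₂, hzc, hzd]
      ring
  obtain ⟨a, ha⟩ := exists_trace C.h₂.ne_refl C.h₂.involutive 1 (map_one σ)
  obtain ⟨c', hc'c', hcc', hzc'⟩ := hmk a
  obtain ⟨g, hgg, hcg, hzg⟩ := hmk (σ (t / f₂ z z))
  rw [C.h₂.involutive, div_mul_cancel₀ _ hzz] at hzg
  have hk : f₂ (z - c') (z - c') = 0 := by
    rw [Herm.sub_left C.h₂, Herm.sub_right C.h₂, Herm.sub_right C.h₂, hc'c', C.h₂.herm c' z, hzc',
      map_mul, C.h₂.involutive, hN]
    linear_combination (-(f₂ z z)) * ha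
  have hcg' : f₂ (c + g) (c + g) = 0 := by
    rw [C.h₂.add_left, Herm.add_right C.h₂, Herm.add_right C.h₂, hcc, hgg, C.h₂.herm g c, hcg, ht]
    ring
  have hnt : -t ≠ 0 := neg_ne_zero.2 ht0
  have hσnt : σ (-t) = - -t := by rw [map_neg, ht]
  have hck : f₂ c (z - c') = -t := by
    rw [Herm.sub_right C.h₂, (f_eq_zero_comm C.h₂).1 hzc, hcc', zero_sub]
  have hA := hiso e c hee hcc
  have hB := hiso d c' hdd hc'c'
  have hK := hiso d (z - c') hdd hk
  have hG := hiso e g hee hgg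
  have hS : ten e (-(c + g)) ∈ hCentres C.hf M := hiso e _ hee (by
    rw [Herm.neg_left C.h₂, Herm.neg_right C.h₂, hcg', neg_zero, neg_zero])
  have s1 := centre_add C hA hB (r := t) (by rw [tf_ten C.h₁ C.h₂, hed, hcc', one_mul]) ht0 ht
  have s2 := centre_add C s1 hK (r := -t) (by
    rw [tf_add_left, tf_ten C.h₁ C.h₂, tf_ten C.h₁ C.h₂, hed, hdd, hck, one_mul, zero_mul, add_zero])
    hnt hσnt
  rw [add_assoc, ← ten_add_right, add_sub_cancel] at s2
  have s3 := centre_add C s2 hG (r := t) (by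
    rw [tf_add_left, tf_ten C.h₁ C.h₂, tf_ten C.h₁ C.h₂, hee, hde, hzg, zero_mul, one_mul, zero_add])
    ht0 ht
  rw [add_right_comm, ← ten_add_right] at s3
  have s4 := centre_add C s3 hS (r := -t) (by
    rw [tf_add_left, tf_ten C.h₁ C.h₂, tf_ten C.h₁ C.h₂, hee, hde, Herm.neg_right C.h₂ z,
      Herm.add_right C.h₂ z, hzc, hzg, zero_mul, one_mul, zero_add, zero_add])
    hnt hσnt
  rwa [add_right_comm, ← ten_add_right, add_neg_cancel, ten_zero_right, zero_add] at s4

/-- Isotropic vectors of a plane tensor the second space are centres. -/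
theorem plane_iso (C : Ctx σ f₁ f₂ M)
    (hany : ∀ e z, f₁ e e = 0 → ten e z ∈ hCentres C.hf M)
    {e d : α → F} (hee : f₁ e e = 0) (hdd : f₁ d d = 0) (hed : f₁ e d = 1) (u v : β → F)
    (huv : f₂ u v + f₂ v u = 0) : ten e u + ten d v ∈ hCentres C.hf M := by
  have hde : f₁ d e = 1 := by rw [C.h₁.herm, hed, map_one]
  have hsk : σ (f₂ u v) = -f₂ u v := by rw [← C.h₂.herm]; linear_combination huv
  by_cases h0 : f₂ u v = 0
  · by_cases hv : v = 0
    · rw [hv, ten_zero_right, add_zero]; exact hany e u hee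
    obtain ⟨t, ht0, ht⟩ := exists_anti C.h₂.ne_refl C.h₂.involutive
    obtain ⟨w, hw⟩ := (C.h₂.nondegenerate v hv).1
    obtain ⟨u', hu'⟩ : ∃ u', u' = (-t / f₂ w v) • w := ⟨_, rfl⟩
    have hu'v : f₂ u' v = -t := by rw [hu', C.h₂.smul_left, div_mul_cancel₀ _ hw]
    have s1 := centre_add C (hany e (u - u') hee) (hany d v hdd) (r := t)
      (by rw [tf_ten C.h₁ C.h₂, hed, Herm.sub_left C.h₂, h0, hu'v, one_mul, zero_sub, neg_neg]) ht0 ht
    have s2 := centre_add C s1 (hany e u' hee) (r := t)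
      (by rw [tf_add_left, tf_ten C.h₁ C.h₂, tf_ten C.h₁ C.h₂, hee, hde, C.h₂.herm v u', hu'v, map_neg, ht,
        zero_mul, one_mul, zero_add, neg_neg]) ht0 ht
    rwa [add_right_comm, ← ten_add_right, sub_add_cancel] at s2
  · exact centre_add C (hany e u hee) (hany d v hdd) (by rw [tf_ten C.h₁ C.h₂, hed, one_mul]) h0 hsk

/-- One pure centre makes every isotropic vector a centre. -/
theorem all_centres_any (hα : 2 ≤ Fintype.card α) (hβ : 3 ≤ Fintype.card β) (C : Ctx σ f₁ f₂ M)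
    {e₀ : α → F} {c₀ : β → F} (he₀ : e₀ ≠ 0) (hc₀ : c₀ ≠ 0) (hee₀ : f₁ e₀ e₀ = 0)
    (hcc₀ : f₂ c₀ c₀ = 0) (hv₀ : ten e₀ c₀ ∈ hCentres C.hf M) (v : α × β → F)
    (hv : tf σ f₁ f₂ v v = 0) : v ∈ hCentres C.hf M := by
  classical
  have hiso := iso_iso hβ C he₀ hc₀ hee₀ hcc₀ hv₀
  have hany : ∀ e z, f₁ e e = 0 → ten e z ∈ hCentres C.hf M :=
    fun e z he => iso_any (by omega) C hiso e z he
  have hzero : (0 : α × β → F) ∈ hCentres C.hf M := by
    rw [← zero_smul F (ten e₀ c₀)]; exact hCentres_smul C.hf hv₀ 0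
  obtain ⟨z, -, hzz, hz⟩ := exists_orthonormal C.h₁ (Fintype.card α) (nondeg_top C.h₁)
    (by rw [finrank_top, Module.finrank_fintype_fun_eq_card])
  -- pairs
  have hpair : ∀ i j, i ≠ j → ∀ x y : β → F, f₂ x x + f₂ y y = 0 →
      ten (z i) x + ten (z j) y ∈ hCentres C.hf M := by
    intro i j hij x y hxy
    obtain ⟨η, hη⟩ := exists_norm C.h₁.ne_refl C.h₁.involutive (-1) (by rw [map_neg, map_one])
    have hη0 : η ≠ 0 := fun h => by rw [h, zero_mul, zero_eq_neg] at hη; exact one_ne_zero hη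
    obtain ⟨b, hb⟩ := exists_trace C.h₁.ne_refl C.h₁.involutive (-1) (by rw [map_neg, map_one])
    have zi : f₁ (z i) (z i) = 1 := by rw [hzz, if_pos rfl]
    have zj : f₁ (z j) (z j) = 1 := by rw [hzz, if_pos rfl]
    have zij : f₁ (z i) (z j) = 0 := by rw [hzz, if_neg hij]
    have zji : f₁ (z j) (z i) = 0 := by rw [hzz, if_neg hij.symm]
    obtain ⟨e, he⟩ : ∃ e, e = z i + η • z j := ⟨_, rfl⟩
    have hee : f₁ e e = 0 := by
      simp only [he, C.h₁.add_left, Herm.add_right C.h₁, C.h₁.smul_left, Herm.smul_right C.h₁, zi, zj,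
        zij, zji]
      linear_combination hη
    have hei : f₁ e (z i) = 1 := by
      rw [he, C.h₁.add_left, C.h₁.smul_left, zi, zji, mul_zero, add_zero]
    have hie : f₁ (z i) e = 1 := by rw [C.h₁.herm, hei, map_one]
    obtain ⟨d, hd⟩ : ∃ d, d = z i + b • e := ⟨_, rfl⟩
    have hed : f₁ e d = 1 := by
      rw [hd, Herm.add_right C.h₁, Herm.smul_right C.h₁, hei, hee, mul_zero, add_zero]
    have hdd : f₁ d d = 0 := by
      simp only [hd, C.h₁.add_left, Herm.add_right C.h₁, C.h₁.smul_left, Herm.smul_right C.h₁, zi, hei,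
        hie, hee]
      linear_combination hb
    obtain ⟨u, hu⟩ : ∃ u, u = (-b) • x + (η⁻¹ * (1 + b)) • y := ⟨_, rfl⟩
    obtain ⟨w, hw⟩ : ∃ w, w = x - η⁻¹ • y := ⟨_, rfl⟩
    have heq : ten (z i) x + ten (z j) y = ten e u + ten d w := by
      funext p
      simp only [Pi.add_apply, ten, hd, he, hu, hw, Pi.smul_apply, Pi.sub_apply, smul_eq_mul]
      field_simp
      ring
    rw [heq]
    refine plane_iso C hany hee hdd hed u w ?_
    have hn : tf σ f₁ f₂ (ten e u + ten d w) (ten e u + ten d w) = 0 := by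
      rw [← heq, tf_add_left, Herm.add_right C.hf, Herm.add_right C.hf, tf_ten C.h₁ C.h₂,
        tf_ten C.h₁ C.h₂, tf_ten C.h₁ C.h₂, tf_ten C.h₁ C.h₂, zi, zj, zij, zji]
      linear_combination hxy
    rw [tf_add_left, Herm.add_right C.hf, Herm.add_right C.hf, tf_ten C.h₁ C.h₂, tf_ten C.h₁ C.h₂,
      tf_ten C.h₁ C.h₂, tf_ten C.h₁ C.h₂, hee, hdd, hed, C.h₁.herm d e, hed, map_one] at hn
    linear_combination hn
  -- induction on the support
  have main : ∀ (n : ℕ) (s : Finset (Fin (Fintype.card α))), s.card = n → ∀ x : Fin (Fintype.card α) → β → F,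
      ∑ i ∈ s, f₂ (x i) (x i) = 0 → ∑ i ∈ s, ten (z i) (x i) ∈ hCentres C.hf M := by
    intro n
    induction n using Nat.strong_induction_on with
    | _ n ih =>
      intro s hs x hx
      by_cases hz0 : ∃ i ∈ s, x i = 0
      · obtain ⟨i, hi, hxi⟩ := hz0
        rw [← Finset.add_sum_erase s _ hi, hxi, ten_zero_right, zero_add]
        rw [← Finset.add_sum_erase s _ hi, hxi, Herm.zero_left C.h₂, zero_add] at hx
        exact ih _ (hs ▸ Finset.card_erase_lt_of_mem hi) _ rfl x hx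
      push Not at hz0
      rcases lt_or_ge n 3 with hn | hn
      · interval_cases n
        · rw [Finset.card_eq_zero.1 hs, Finset.sum_empty]
          exact hzero
        · obtain ⟨i, rfl⟩ := Finset.card_eq_one.1 hs
          rw [Finset.sum_singleton] at hx ⊢
          obtain ⟨j, hj⟩ := Fintype.exists_ne_of_one_lt_card
            (by rw [Fintype.card_fin]; omega : 1 < Fintype.card (Fin (Fintype.card α))) i
          have := hpair i j hj.symm (x i) 0 (by rw [hx, Herm.zero_left C.h₂, add_zero])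
          rwa [ten_zero_right, add_zero] at this
        · obtain ⟨i, j, hij, rfl⟩ := Finset.card_eq_two.1 hs
          rw [Finset.sum_pair hij] at hx ⊢
          exact hpair i j hij _ _ hx
      obtain ⟨i, hi⟩ := Finset.card_pos.1 (by omega : 0 < s.card)
      obtain ⟨j, hj⟩ := Finset.card_pos.1
        (by rw [Finset.card_erase_of_mem hi]; omega : 0 < (s.erase i).card)
      have hji : j ≠ i := (Finset.mem_erase.1 hj).1
      obtain ⟨t, ht0, ht⟩ := exists_anti C.h₂.ne_refl C.h₂.involutive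
      obtain ⟨y, hxy, hyy⟩ := exists_prescribed C.h₂ hβ (hz0 j (Finset.mem_of_mem_erase hj))
        (A := -f₂ (x i) (x i)) (by rw [map_neg, self_fixed C.h₂]) (t - f₂ (x i) (x i))
      set x' := Function.update x j (x j - y)
      have e1 : ∀ k ∈ (s.erase i).erase j, x' k = x k := fun k hk =>
        Function.update_of_ne (Finset.mem_erase.1 hk).1 _ _
      have hxj : x' j = x j - y := Function.update_self _ _ _
      have hN : ∑ k ∈ s.erase i, f₂ (x' k) (x' k) = 0 := by
        rw [← Finset.add_sum_erase _ _ hj, Finset.sum_congr rfl (fun k hk => by rw [e1 k hk]), hxj,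
          Herm.sub_left C.h₂, Herm.sub_right C.h₂, Herm.sub_right C.h₂, C.h₂.herm y (x j), hxy, hyy,
          map_sub, self_fixed C.h₂, ht]
        rw [← Finset.add_sum_erase s _ hi, ← Finset.add_sum_erase _ _ hj] at hx
        linear_combination hx
      have h1 := ih _ (by rw [Finset.card_erase_of_mem hi]; omega) (s.erase i) rfl x' hN
      have h2 := hpair i j hji.symm (x i) y (by rw [hyy, add_neg_cancel])
      have hsplit : ∑ k ∈ s, ten (z k) (x k) =
          ∑ k ∈ s.erase i, ten (z k) (x' k) + (ten (z i) (x i) + ten (z j) y) := by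
        rw [← Finset.add_sum_erase s _ hi, ← Finset.add_sum_erase _ _ hj,
          ← Finset.add_sum_erase (s.erase i) (fun k => ten (z k) (x' k)) hj,
          Finset.sum_congr rfl (fun k hk => by rw [e1 k hk] :
            ∀ k ∈ (s.erase i).erase j, ten (z k) (x' k) = ten (z k) (x k)), hxj]
        funext p
        simp only [Pi.add_apply, Finset.sum_apply, ten, Pi.sub_apply]
        ring
      rw [hsplit]
      refine centre_add C h1 h2 (r := t) ?_ ht0 ht
      have hzero' : ∀ k ∈ (s.erase i).erase j,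
          tf σ f₁ f₂ (ten (z k) (x' k)) (ten (z i) (x i) + ten (z j) y) = 0 := by
        intro k hk
        obtain ⟨hkj, hk'⟩ := Finset.mem_erase.1 hk
        rw [Herm.add_right C.hf, tf_ten C.h₁ C.h₂, tf_ten C.h₁ C.h₂, hzz, hzz,
          if_neg (Finset.mem_erase.1 hk').1, if_neg hkj, zero_mul, zero_mul, add_zero]
      rw [Herm.sum_left C.hf, ← Finset.add_sum_erase _ _ hj, Finset.sum_eq_zero hzero', add_zero, hxj,
        Herm.add_right C.hf, tf_ten C.h₁ C.h₂, tf_ten C.h₁ C.h₂, hzz, hzz, if_neg hji, if_pos rfl,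
        zero_mul, one_mul, zero_add, Herm.sub_left C.h₂, hxy, hyy]
      ring
  obtain ⟨x, hxdef⟩ : ∃ x : Fin (Fintype.card α) → β → F, x = fun i => ctrL (frow f₁ (z i)) v := ⟨_, rfl⟩
  have hvx : v = ∑ i, ten (z i) (x i) := by
    let L : (α × β → F) →ₗ[F] α × β → F := ∑ i, (lam (z i)).comp (ctrL (frow f₁ (z i)))
    have e : (LinearMap.id : (α × β → F) →ₗ[F] α × β → F) = L := ext_ten fun u w => by
      show ten u w = L (ten u w)
      simp only [L, LinearMap.sum_apply, LinearMap.comp_apply, lam_apply, ctrL_ten, frow_dot C.h₁,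
        ten_smul_right, ← ten_smul_left]
      conv_lhs => rw [hz u Submodule.mem_top]
      exact map_sum (rho w) _ _
    have := LinearMap.congr_fun e v
    simp only [L, LinearMap.id_apply, LinearMap.sum_apply, LinearMap.comp_apply, lam_apply] at this
    rw [hxdef]
    exact this
  rw [hvx]
  refine main _ Finset.univ rfl x ?_
  rw [hvx, Herm.sum_left C.hf] at hv
  refine Eq.trans (Finset.sum_congr rfl fun i _ => ?_) hv
  rw [Herm.sum_right C.hf, Finset.sum_eq_single i]
  · rw [tf_ten C.h₁ C.h₂, hzz, if_pos rfl, one_mul]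
  · intro k _ hk
    rw [tf_ten C.h₁ C.h₂, hzz, if_neg hk.symm, zero_mul]
  · simp

/-- One pure centre makes every isotropic vector a centre. -/
theorem all_centres (hα : 2 ≤ Fintype.card α) (hβ : 3 ≤ Fintype.card β)
    (hβ' : 4 ≤ Fintype.card β ∨ Fintype.card α ≤ 2) (C : Ctx σ f₁ f₂ M)
    {e₀ : α → F} {c₀ : β → F} (he₀ : e₀ ≠ 0) (hc₀ : c₀ ≠ 0) (hee₀ : f₁ e₀ e₀ = 0)
    (hcc₀ : f₂ c₀ c₀ = 0) (hv₀ : ten e₀ c₀ ∈ hCentres C.hf M) (v : α × β → F)
    (hv : tf σ f₁ f₂ v v = 0) : v ∈ hCentres C.hf M := by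
  have _ := hβ'
  exact all_centres_any hα hβ C he₀ hc₀ hee₀ hcc₀ hv₀ v hv

end Cfsg.Agent.TensorMax.U
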