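/-
Common zeros over the fixed field of the determinant of a hermitian pencil and a hermitian
quadratic function.
-/
import Cfsg.Agent.Lib.Transvec.Herm
import Mathlib.FieldTheory.ChevalleyWarning

set_option autoImplicit false

namespace Cfsg.Agent.TensorMax.U

open scoped Matrix
open Matrix MvPolynomial Cfsg.Agent.Transvec.Herm

variable {F : Type*} [Field F] {κ : Type} [Fintype κ] [DecidableEq κ]

/-- A polynomial with fixed coefficients comes from the fixed field. -/
theorem exists_descend (σ : F ≃+* F) (P : MvPolynomial κ F)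
    (h : MvPolynomial.map (σ : F →+* F) P = P) :
    ∃ P' : MvPolynomial κ (fixedField σ), MvPolynomial.map (fixedField σ).subtype P' = P ∧
      P'.totalDegree ≤ P.totalDegree := by
  classical
  have hc : ∀ m, coeff m P ∈ fixedField σ := fun m => by
    show σ (coeff m P) = coeff m P
    conv_rhs => rw [← h, coeff_map]
    rfl
  refine ⟨∑ m ∈ P.support, monomial m ⟨coeff m P, hc m⟩, ?_, ?_⟩
  · rw [map_sum]
    conv_rhs => rw [P.as_sum]
    exact Finset.sum_congr rfl fun m _ => by rw [map_monomial]; rfl
  · refine totalDegree_finsetSum_le fun m hm => ?_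
    exact (totalDegree_monomial_le _ _).trans (le_totalDegree hm)

variable [Finite F] {δ : Type} [Fintype δ] [DecidableEq δ]

/-- Common zeros of the determinant of a hermitian pencil and a hermitian quadratic function. -/
theorem exists_common_zero {σ : F ≃+* F} (A : κ → Matrix δ δ F) (B : κ → κ → F) [Nonempty δ]
    (hA : ∀ k i j, σ (A k i j) = A k j i) (hB : ∀ k l, σ (B k l) = B l k)
    (hcard : Fintype.card δ + 2 < Fintype.card κ) :
    ∃ x : κ → F, x ≠ 0 ∧ (∀ k, σ (x k) = x k) ∧ (∑ k, x k • A k).det = 0 ∧
      ∑ k, ∑ l, x k * x l * B k l = 0 := by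
  classical
  let _ : Fintype (fixedField σ) := Fintype.ofFinite _
  set H : Matrix δ δ (MvPolynomial κ F) := Matrix.of fun i j => ∑ k, C (A k i j) * X k with hH
  set D := H.det with hD
  set Q : MvPolynomial κ F := ∑ k, ∑ l, C (B k l) * (X k * X l) with hQ
  have hDfix : MvPolynomial.map (σ : F →+* F) D = D := by
    rw [hD, RingHom.map_det]
    conv_rhs => rw [← Matrix.det_transpose]
    congr 1
    funext i j
    simp only [hH, RingHom.mapMatrix_apply, Matrix.map_apply, Matrix.transpose_apply, Matrix.of_apply,
      map_sum, map_mul, map_C, map_X]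
    exact Finset.sum_congr rfl fun k _ => by rw [show (σ : F →+* F) (A k i j) = A k j i from hA k i j]
  have hQfix : MvPolynomial.map (σ : F →+* F) Q = Q := by
    simp only [hQ, map_sum, map_mul, map_C, map_X]
    rw [Finset.sum_comm]
    refine Finset.sum_congr rfl fun k _ => Finset.sum_congr rfl fun l _ => ?_
    rw [show (σ : F →+* F) (B l k) = B k l from hB l k, mul_comm (X l : MvPolynomial κ F)]
  have hDdeg : D.totalDegree ≤ Fintype.card δ := by
    rw [hD, Matrix.det_apply]
    refine totalDegree_finsetSum_le fun π _ => (totalDegree_smul_le _ _).trans ?_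
    refine (totalDegree_finsetProd _ _).trans ?_
    refine (Finset.sum_le_card_nsmul _ _ 1 fun i _ => ?_).trans (by simp)
    simp only [hH, Matrix.of_apply]
    refine totalDegree_finsetSum_le fun k _ => (totalDegree_mul _ _).trans ?_
    rw [totalDegree_C, totalDegree_X]
  have hQdeg : Q.totalDegree ≤ 2 := by
    refine totalDegree_finsetSum_le fun k _ => totalDegree_finsetSum_le fun l _ =>
      (totalDegree_mul _ _).trans ?_
    rw [totalDegree_C, zero_add]
    refine (totalDegree_mul _ _).trans ?_
    rw [totalDegree_X, totalDegree_X]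
  obtain ⟨D', hD', hD'deg⟩ := exists_descend σ D hDfix
  obtain ⟨Q', hQ', hQ'deg⟩ := exists_descend σ Q hQfix
  have hlt : D'.totalDegree + Q'.totalDegree < Fintype.card κ := by omega
  obtain ⟨p, hp⟩ := CharP.exists (fixedField σ)
  have hpp : p.Prime := CharP.char_is_prime (fixedField σ) p
  have hdvd := char_dvd_card_solutions_of_add_lt p hlt
  have hev : ∀ (x : κ → fixedField σ) (P : MvPolynomial κ (fixedField σ)),
      ((eval x P : fixedField σ) : F) =
        eval (fun k => (x k : F)) (MvPolynomial.map (fixedField σ).subtype P) := by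
    intro x P
    rw [eval_map, ← coe_eval₂Hom]
    exact eval₂_comp (fixedField σ).subtype x P
  have hval : ∀ x : κ → fixedField σ, eval x D' = 0 ↔ (∑ k, (x k : F) • A k).det = 0 := by
    intro x
    rw [← Subtype.coe_inj (a := eval x D'), hev, hD', hD, RingHom.map_det,
      ZeroMemClass.coe_zero]
    have : (eval fun k => (x k : F)).mapMatrix H = ∑ k, (x k : F) • A k := by
      funext i j
      simp [hH, Matrix.sum_apply, mul_comm]
    rw [this]
  have hvalQ : ∀ x : κ → fixedField σ,
      eval x Q' = 0 ↔ ∑ k, ∑ l, (x k : F) * x l * B k l = 0 := by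
    intro x
    rw [← Subtype.coe_inj (a := eval x Q'), hev, hQ', ZeroMemClass.coe_zero]
    simp [hQ, mul_comm, mul_left_comm]
  have h0 : eval (0 : κ → fixedField σ) D' = 0 ∧ eval (0 : κ → fixedField σ) Q' = 0 := by
    constructor
    · rw [hval]
      simp only [Pi.zero_apply, ZeroMemClass.coe_zero, zero_smul, Finset.sum_const_zero]
      exact Matrix.det_zero
    · rw [hvalQ]; simp
  have hpos : 0 < Fintype.card {x : κ → fixedField σ // eval x D' = 0 ∧ eval x Q' = 0} :=
    Fintype.card_pos_iff.2 ⟨⟨0, h0⟩⟩
  obtain ⟨⟨x, hx⟩, hne⟩ := Fintype.exists_ne_of_one_lt_card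
    (hpp.one_lt.trans_le (Nat.le_of_dvd hpos hdvd)) ⟨0, h0⟩
  refine ⟨fun k => (x k : F), fun h => hne (Subtype.ext (funext fun k => Subtype.ext ?_)),
    fun k => (x k).2, (hval x).1 hx.1, (hvalQ x).1 hx.2⟩
  simpa using congrFun h k

end Cfsg.Agent.TensorMax.U
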