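/-
A member sending one isotropic line to a line is a Kronecker product.
-/
import Cfsg.Agent.Lib.TensorMax.ULine

set_option autoImplicit false
set_option linter.unusedSectionVars false

namespace Cfsg.Agent.TensorMax.U

open scoped Matrix Kronecker
open Matrix Cfsg.Agent.Transvec Cfsg.Agent.Transvec.Herm

variable {α β : Type} [Fintype α] [DecidableEq α] [Fintype β] [DecidableEq β] {F : Type*} [Field F]
variable {σ : F ≃+* F} {f₁ : (α → F) → (α → F) → F} {f₂ : (β → F) → (β → F) → F}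
variable {M : Subgroup (GL (α × β) F)}

theorem span_pair_orth (C : Ctx σ f₁ f₂ M) [Finite F] (hb : 4 ≤ Fintype.card β) {c d : β → F}
    (hcc : f₂ c c = 0) (hdd : f₂ d d = 0) (hcd : f₂ c d = 1) :
    ∃ e : β → F, e ≠ 0 ∧ f₂ e e = 0 ∧ f₂ e c = 0 ∧ f₂ e d = 0 := by
  obtain ⟨hn, h2⟩ := nondeg_pair C.h₂ hcc hdd hcd
  have hsum := finrank_orth_add C.h₂ hn
  rw [h2, Module.finrank_fintype_fun_eq_card] at hsum
  obtain ⟨e, he, he0, hee⟩ := exists_isotropic C.h₂ (nondeg_orth C.h₂ hn) (by omega)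
  exact ⟨e, he0, hee,
    (f_eq_zero_comm C.h₂).1 (he c (Submodule.subset_span (Set.mem_insert _ _))),
    (f_eq_zero_comm C.h₂).1 (he d (Submodule.subset_span (Set.mem_insert_of_mem _ rfl)))⟩

/-- Connectedness of the orthogonality graph of isotropic lines. -/
theorem iso_connected (C : Ctx σ f₁ f₂ M) [Finite F] (hb : 4 ≤ Fintype.card β) {P : (β → F) → Prop}
    (hstep : ∀ c w, c ≠ 0 → f₂ c c = 0 → w ≠ 0 → f₂ w w = 0 → f₂ w c = 0 → P c → P w)
    {c₀ : β → F} (hc₀ : c₀ ≠ 0) (hiso₀ : f₂ c₀ c₀ = 0) (h₀ : P c₀) (w : β → F) (hw0 : w ≠ 0)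
    (hw : f₂ w w = 0) : P w := by
  by_cases h : f₂ w c₀ = 0
  · exact hstep c₀ w hc₀ hiso₀ hw0 hw h h₀
  have hcd : f₂ c₀ ((f₂ w c₀)⁻¹ • w) = 1 := by
    rw [Herm.smul_right C.h₂, C.h₂.herm c₀ w, map_inv₀, inv_mul_cancel₀
      ((map_ne_zero_iff σ σ.injective).2 h)]
  obtain ⟨e, he0, hee, hec, hew⟩ := span_pair_orth C hb hiso₀
    (show f₂ ((f₂ w c₀)⁻¹ • w) ((f₂ w c₀)⁻¹ • w) = 0 by
      rw [C.h₂.smul_left, Herm.smul_right C.h₂, hw, mul_zero, mul_zero]) hcd
  have hwe : f₂ w e = 0 := by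
    rw [Herm.smul_right C.h₂, mul_eq_zero] at hew
    exact (f_eq_zero_comm C.h₂).1 (hew.resolve_left ((map_ne_zero_iff σ σ.injective).2
      (inv_ne_zero h)))
  exact hstep e w he0 hee hw0 hw hwe (hstep c₀ e hc₀ hiso₀ he0 hee hec h₀)

/-- A member sending one isotropic line to a line is a Kronecker product. -/
theorem kron_of_line [Nonempty α] [Finite F] (hab : Fintype.card α < Fintype.card β)
    (hb : 4 ≤ Fintype.card β) (C : Ctx σ f₁ f₂ M) (hC : CentreScalar σ f₂ M) {g : GL (α × β) F}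
    (hg : g ∈ M) {c₀ c₁ : β → F} (hc₀ : c₀ ≠ 0) (hiso₀ : f₂ c₀ c₀ = 0) (hc₁ : c₁ ≠ 0)
    (hiso₁ : f₂ c₁ c₁ = 0) (hmap : (line α c₀).map (mvLin g) = line α c₁) : IsKron g := by
  classical
  have : Nonempty β := ⟨Classical.choice (Fintype.card_pos_iff.1 (by omega))⟩
  -- every isotropic line goes to a line
  have hlines : ∀ w, w ≠ 0 → f₂ w w = 0 →
      ∃ w', w' ≠ 0 ∧ f₂ w' w' = 0 ∧ (line α w).map (mvLin g) = line α w' :=
    iso_connected C hb (fun c w _ _ hw0 hw hwc hP => by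
      obtain ⟨c', hc', hiso', hm⟩ := hP
      exact line_step hab C hC hg hc' hiso' hm hw0 hw hwc) hc₀ hiso₀ ⟨c₁, hc₁, hiso₁, hmap⟩
  obtain ⟨θ, hθ⟩ := exists_dot_one hc₁
  set A : (α → F) →ₗ[F] α → F := (ctr θ).comp ((mvLin g).comp (rho c₀)) with hAdef
  have himg : ∀ {c c' : β → F}, (line α c).map (mvLin g) = line α c' → ∀ u : α → F,
      ∃ v, ten v c' = mv g (ten u c) := fun {c c'} hm u => mem_line.1 (by
    rw [← hm]; exact mem_map_mv.2 ⟨_, ten_mem_line _ _, rfl⟩)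
  have hA₀ : ∀ u, mv g (ten u c₀) = ten (A u) c₁ := by
    intro u
    obtain ⟨v, hv⟩ := himg hmap u
    have : A u = v := by
      show ctr θ (mvLin g (ten u c₀)) = v
      rw [Matrix.toLin'_apply]
      show ctr θ (mv g _) = v
      rw [← hv, ctr_ten, hθ, one_smul]
    rw [this, hv]
  have hAinj : ∀ u, u ≠ 0 → A u ≠ 0 := fun u hu h => by
    have := hA₀ u
    rw [h, ten_zero_left] at this
    exact ten_ne_zero hu hc₀ (mv_inj g (this.trans (mv_zero g).symm))
  obtain ⟨i₀⟩ := ‹Nonempty α›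
  set u₀ : α → F := Pi.single i₀ 1
  have hu₀ : u₀ ≠ 0 := by simp [u₀]
  have hact : ∀ w, w ≠ 0 → f₂ w w = 0 → ∃ w', ∀ u, mv g (ten u w) = ten (A u) w' := by
    refine iso_connected C hb (fun c d hc hcc hd0 hdd hdc hP => ?_) hc₀ hiso₀ ⟨c₁, hA₀⟩
    obtain ⟨c', hc'⟩ := hP
    by_cases hdep : d ∈ Submodule.span F {c}
    · obtain ⟨a, rfl⟩ := Submodule.mem_span_singleton.1 hdep
      exact ⟨a • c', fun u => by rw [ten_smul_right, mv_smul, hc', ten_smul_right]⟩
    obtain ⟨d', hd'0, -, hdm⟩ := hlines d hd0 hdd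
    have hc'0 : c' ≠ 0 := fun h => by
      have := hc' u₀
      rw [h, ten_zero_right] at this
      exact ten_ne_zero hu₀ hc (mv_inj g (this.trans (mv_zero g).symm))
    have hcm : (line α c).map (mvLin g) = line α c' := by
      refine Submodule.eq_of_le_of_finrank_le (fun x hx => ?_) (by
        rw [TensorMax.finrank_map_mv, finrank_line hc, finrank_line hc'0])
      obtain ⟨y, hy, rfl⟩ := mem_map_mv.1 hx
      obtain ⟨u, rfl⟩ := mem_line.1 hy
      rw [hc']
      exact ten_mem_line _ _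
    have hind : ∀ s : F, d' ≠ s • c' := by
      intro s hs
      obtain ⟨v, hv⟩ := himg hdm u₀
      have hm : mv g (ten u₀ d) ∈ (line α c).map (mvLin g) := by
        rw [hcm, ← hv, hs, ten_smul_right, ← ten_smul_left]
        exact ten_mem_line _ _
      obtain ⟨y, hy, e⟩ := mem_map_mv.1 hm
      obtain ⟨φ, hφ, hφd⟩ := exists_dot hdep
      have := ctr_line (hφ c (Submodule.mem_span_singleton_self c)) hy
      rw [mv_inj g e, ctr_ten, hφd, one_smul] at this
      exact hu₀ this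
    have hl0 : c' ∉ Submodule.span F {d'} := fun hm => by
      obtain ⟨t, ht⟩ := Submodule.mem_span_singleton.1 hm
      have ht0 : t ≠ 0 := fun h0 => hc'0 (by rw [← ht, h0, zero_smul])
      exact hind t⁻¹ (by rw [← ht, smul_smul, inv_mul_cancel₀ ht0, one_smul])
    have hl1 : d' ∉ Submodule.span F {c'} := fun hm => by
      obtain ⟨t, ht⟩ := Submodule.mem_span_singleton.1 hm
      exact hind t ht.symm
    obtain ⟨p, hp1, hp2⟩ := exists_dot hl0
    obtain ⟨r, hr1, hr2⟩ := exists_dot hl1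
    have hpl : p ⬝ᵥ d' = 0 := hp1 _ (Submodule.mem_span_singleton_self _)
    have hrk : r ⬝ᵥ c' = 0 := hr1 _ (Submodule.mem_span_singleton_self _)
    have hsum0 : c + d ≠ 0 := fun h => hdep (by
      rw [eq_neg_of_add_eq_zero_right h]
      exact Submodule.neg_mem _ (Submodule.mem_span_singleton_self c))
    have hsum : f₂ (c + d) (c + d) = 0 := by
      rw [C.h₂.add_left, Herm.add_right C.h₂, Herm.add_right C.h₂, hcc, hdd, hdc,
        (f_eq_zero_comm C.h₂).1 hdc]
      ring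
    obtain ⟨e', -, -, hem⟩ := hlines _ hsum0 hsum
    have key : ∀ u, ∃ w, mv g (ten u d) = ten w d' ∧
        ∃ v, A u = (p ⬝ᵥ e') • v ∧ w = (r ⬝ᵥ e') • v := by
      intro u
      obtain ⟨w, hw⟩ := himg hdm u
      obtain ⟨v, hv⟩ := himg hem u
      rw [ten_add_right, mv_add, hc', ← hw] at hv
      refine ⟨w, hw.symm, v, ?_, ?_⟩
      · have e := congrArg (ctr p) hv
        rw [map_add, ctr_ten, ctr_ten, ctr_ten, hp2, hpl, one_smul, zero_smul, add_zero] at e
        exact e.symm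
      · have e := congrArg (ctr r) hv
        rw [map_add, ctr_ten, ctr_ten, ctr_ten, hr2, hrk, one_smul, zero_smul, zero_add] at e
        exact e.symm
    have hpe : p ⬝ᵥ e' ≠ 0 := by
      intro h0
      obtain ⟨w, -, v, hv1, -⟩ := key u₀
      rw [h0, zero_smul] at hv1
      exact hAinj u₀ hu₀ hv1
    refine ⟨((r ⬝ᵥ e') / (p ⬝ᵥ e')) • d', fun u => ?_⟩
    obtain ⟨w, hw, v, hv1, hv2⟩ := key u
    rw [hw, hv2, hv1, ten_smul_right, ← ten_smul_left, smul_smul, div_mul_cancel₀ _ hpe]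
  obtain ⟨ψ, hψ⟩ := exists_dot_one (hAinj u₀ hu₀)
  set Γ : (β → F) →ₗ[F] β → F := (ctrL ψ).comp ((mvLin g).comp (lam u₀)) with hΓdef
  have hΓ : ∀ u w, mv g (ten u w) = ten (A u) (Γ w) := by
    intro u w
    let Y : (β → F) →ₗ[F] α × β → F := (mvLin g).comp (lam u) - (lam (A u)).comp Γ
    have hY : Submodule.span F {v | v ∈ (⊤ : Submodule F (β → F)) ∧ f₂ v v = 0} ≤ LinearMap.ker Y := by
      refine Submodule.span_le.2 ?_
      rintro v ⟨-, hv⟩
      show Y v = 0
      by_cases hv0 : v = 0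
      · rw [hv0, map_zero]
      obtain ⟨v', hv'⟩ := hact v hv0 hv
      have e : Γ v = v' := by
        show ctrL ψ (mvLin g (ten u₀ v)) = v'
        rw [Matrix.toLin'_apply]
        show ctrL ψ (mv g _) = v'
        rw [hv', ctrL_ten, hψ, one_smul]
      show mvLin g (ten u v) - ten (A u) (Γ v) = 0
      rw [Matrix.toLin'_apply, e]
      exact sub_eq_zero.2 (hv' u)
    have h2 : 2 ≤ Module.finrank F (⊤ : Submodule F (β → F)) := by
      rw [finrank_top, Module.finrank_fintype_fun_eq_card]; omega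
    have := hY (isotropic_span C.h₂ (nondeg_top C.h₂) h2 (Submodule.mem_top (x := w)))
    rw [LinearMap.mem_ker] at this
    change mvLin g (ten u w) - ten (A u) (Γ w) = 0 at this
    rw [Matrix.toLin'_apply, sub_eq_zero] at this
    exact this
  refine isKron_of_ten (LinearMap.toMatrix' A) (LinearMap.toMatrix' Γ) fun u w => ?_
  rw [LinearMap.toMatrix'_mulVec, LinearMap.toMatrix'_mulVec, hΓ]

/-- A member whose conjugate of a factor transvection is Kronecker is itself Kronecker. -/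
theorem kron_of_conj [Nonempty α] [Finite F] (hab : Fintype.card α < Fintype.card β)
    (hb : 4 ≤ Fintype.card β) (C : Ctx σ f₁ f₂ M) (hC : CentreScalar σ f₂ M) {g : GL (α × β) F}
    (hg : g ∈ M) {c : β → F} (hc : c ≠ 0) (hiso : f₂ c c = 0) {s : F} (hs0 : s ≠ 0)
    (hk : IsKron (g * uT₂ C c hiso s * g⁻¹)) : IsKron g := by
  obtain ⟨c', hc', hiso', hmap⟩ := line_of_kron hab C hg hc hiso hs0 hk
  exact kron_of_line hab hb C hC hg hc hiso hc' hiso' hmap

end Cfsg.Agent.TensorMax.U
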