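/-
When centres are scalar every member is a Kronecker product.
-/
import Cfsg.Agent.Lib.TensorMax.ULines
import Cfsg.Agent.Lib.TensorMax.UCount
import Cfsg.Agent.Lib.Transvec.HermWreathTools

set_option autoImplicit false
set_option linter.unusedSectionVars false

namespace Cfsg.Agent.TensorMax.U

open scoped Matrix Kronecker
open Matrix Cfsg.Agent.Transvec Cfsg.Agent.Transvec.Herm

variable {α β : Type} [Fintype α] [DecidableEq α] [Fintype β] [DecidableEq β] {F : Type*} [Field F]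
variable {σ : F ≃+* F} {f₁ : (α → F) → (α → F) → F} {f₂ : (β → F) → (β → F) → F}
variable {M : Subgroup (GL (α × β) F)}

/-- The dimension of the common part of the image of a line and a line. -/
noncomputable def meetDim (g : GL (α × β) F) (c₀ c : β → F) : ℕ :=
  Module.finrank F ↥((line α c₀).map (mvLin g) ⊓ line α c)

/-- The meet is as large as it can be among members that are not Kronecker products. -/
def MaxMeet (f₂ : (β → F) → (β → F) → F) (M : Subgroup (GL (α × β) F)) (J : ℕ) : Prop :=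
  ∀ g ∈ M, ¬ IsKron g → ∀ c₀ c : β → F, c₀ ≠ 0 → f₂ c₀ c₀ = 0 → c ≠ 0 → f₂ c c = 0 →
    meetDim g c₀ c ≤ J

theorem tf_ten_left (C : Ctx σ f₁ f₂ M) (u : α → F) (w : β → F) (z : α × β → F) :
    tf σ f₁ f₂ (ten u w) z = f₁ u (ctr (frow f₂ w) z) := by
  rw [tf_herm C.h₁ C.h₂, tf_ctr C.h₁ C.h₂, ← C.h₁.herm]

theorem eq_zero_of_orth_right₁ (C : Ctx σ f₁ f₂ M) {u : α → F} (h : ∀ v, f₁ v u = 0) : u = 0 :=
  eq_zero_of_orth₁ C fun v => (f_eq_zero_comm C.h₁).1 (h v)

theorem ctr_eq_zero_of_orth (C : Ctx σ f₁ f₂ M) {x : α × β → F} {c : β → F}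
    (h : ∀ u, tf σ f₁ f₂ x (ten u c) = 0) : ctr (frow f₂ c) x = 0 :=
  eq_zero_of_orth₁ C fun v => by rw [← tf_ctr C.h₁ C.h₂, h]

theorem image_isotropic (C : Ctx σ f₁ f₂ M) {g : GL (α × β) F} (hg : g ∈ M) {c₀ : β → F}
    (h₀ : f₂ c₀ c₀ = 0) {x y : α × β → F} (hx : x ∈ (line α c₀).map (mvLin g))
    (hy : y ∈ (line α c₀).map (mvLin g)) : tf σ f₁ f₂ x y = 0 := by
  obtain ⟨x', hx', rfl⟩ := mem_map_mv.1 hx
  obtain ⟨y', hy', rfl⟩ := mem_map_mv.1 hy
  obtain ⟨u, rfl⟩ := mem_line.1 hx'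
  obtain ⟨v, rfl⟩ := mem_line.1 hy'
  rw [C.iso hg, tf_ten C.h₁ C.h₂, h₀, mul_zero]

/-- In a maximal meet the only image vectors orthogonal to the line lie on it. -/
theorem perp_in_line [Nonempty α] [Finite F] (hab : Fintype.card α < Fintype.card β)
    (hb : 4 ≤ Fintype.card β) (C : Ctx σ f₁ f₂ M) (hC : CentreScalar σ f₂ M) {J : ℕ}
    (hJ : MaxMeet f₂ M J) {g : GL (α × β) F} (hg : g ∈ M) (hnk : ¬ IsKron g) {c₀ c : β → F}
    (hc₀ : c₀ ≠ 0) (h₀ : f₂ c₀ c₀ = 0) (hc : c ≠ 0) (hiso : f₂ c c = 0) (hm : J ≤ meetDim g c₀ c)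
    {x : α × β → F} (hx : x ∈ (line α c₀).map (mvLin g)) (hxc : ctr (frow f₂ c) x = 0) :
    x ∈ line α c := by
  by_contra hxl
  obtain ⟨s, hs0, hs⟩ := exists_anti C.h₂.ne_refl C.h₂.involutive
  set t := uT₂ C c hiso s with ht
  have hg' : g⁻¹ * t * g⁻¹⁻¹ ∈ M := by
    rw [inv_inv]
    exact M.mul_mem (M.mul_mem (M.inv_mem hg) (uT₂_mem C c hiso hs)) hg
  by_cases hk : IsKron (g⁻¹ * t * g⁻¹⁻¹)
  · exact hnk (by simpa using isKron_inv (kron_of_conj hab hb C hC (M.inv_mem hg) hc hiso hs0 hk))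
  have hle := hJ _ hg' hk c₀ c₀ hc₀ h₀ hc₀ h₀
  set K := (line α c₀).map (mvLin g) ⊓ perpLine f₂ c with hK
  have hlt : meetDim g c₀ c < Module.finrank F K := by
    refine Submodule.finrank_lt_finrank_of_lt (lt_of_le_of_ne
      (inf_le_inf_left _ (line_le_perpLine C hiso)) fun he => hxl ?_)
    have hxK : x ∈ (line α c₀).map (mvLin g) ⊓ perpLine f₂ c := ⟨hx, mem_perpLine.2 hxc⟩
    exact (he.symm.le hxK).2
  have hsub : K.map (mvLin g⁻¹) ≤
      (line α c₀).map (mvLin (g⁻¹ * t * g⁻¹⁻¹)) ⊓ line α c₀ := by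
    intro y hy
    obtain ⟨z, ⟨hz, hzp⟩, rfl⟩ := mem_map_mv.1 hy
    obtain ⟨z', hz', rfl⟩ := mem_map_mv.1 hz
    refine ⟨mem_map_mv.2 ⟨z', hz', ?_⟩, by rw [mv_inv_mv]; exact hz'⟩
    rw [mv_mul, mv_mul, inv_inv, ht, mv_uT₂, mem_perpLine.1 hzp, ten_zero_left, smul_zero, add_zero]
  have := (Submodule.finrank_mono hsub).trans hle
  rw [TensorMax.finrank_map_mv] at this
  omega

/-- The form values of the displacement of a shear. -/
theorem tf_shear (C : Ctx σ f₁ f₂ M) (c w : β → F) (l : F) (y z : α × β → F) :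
    tf σ f₁ f₂ (ten (ctr (frow f₂ c) y) w +
        ten (l • ctr (frow f₂ c) y - ctr (frow f₂ w) y) c) z =
      f₁ (ctr (frow f₂ c) y) (ctr (frow f₂ w) z) +
        (l * f₁ (ctr (frow f₂ c) y) (ctr (frow f₂ c) z) -
          f₁ (ctr (frow f₂ w) y) (ctr (frow f₂ c) z)) := by
  rw [tf_add_left, tf_ten_left C, tf_ten_left C, Herm.sub_left C.h₁, C.h₁.smul_left]

theorem frow_sum_smul (hf : Geo.IsUnitaryForm σ f₂) {κ : Type} [Fintype κ] (x : κ → F)
    (e : κ → β → F) (hx : ∀ k, σ (x k) = x k) :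
    frow f₂ (∑ k, x k • e k) = ∑ k, x k • frow f₂ (e k) := by
  classical
  let L : Finset κ → Prop := fun s => frow f₂ (∑ k ∈ s, x k • e k) = ∑ k ∈ s, x k • frow f₂ (e k)
  suffices H : ∀ s, L s from H Finset.univ
  intro s
  induction s using Finset.induction_on with
  | empty =>
    show frow f₂ (∑ k ∈ (∅ : Finset κ), _) = _
    rw [Finset.sum_empty, Finset.sum_empty]
    exact funext fun k => Herm.zero_right hf _
  | insert a s ha ih =>
    show frow f₂ (∑ k ∈ insert a s, _) = _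
    rw [Finset.sum_insert ha, Finset.sum_insert ha, frow_add hf, frow_smul hf, hx, ih]

/-- An isotropic shear sending some image vector into the orthogonal of the image. -/
theorem exists_good_shear [Nonempty α] [Fintype F] (hab : Fintype.card α < Fintype.card β)
    (hb : 4 ≤ Fintype.card β) (C : Ctx σ f₁ f₂ M) {g : GL (α × β) F} (hg : g ∈ M) {c₀ c d₀ : β → F}
    (h₀ : f₂ c₀ c₀ = 0) (hiso : f₂ c c = 0) (hdd : f₂ d₀ d₀ = 0) (hcd : f₂ c d₀ = 1)
    {s₀ : F} (hs0 : s₀ ≠ 0) (hs : σ s₀ = -s₀)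
    (hnl : ∃ x ∈ (line α c₀).map (mvLin g), ctr (frow f₂ c) x ≠ 0)
    (hI : ∀ x ∈ (line α c₀).map (mvLin g), ctr (frow f₂ c) x = 0 → x ∈ line α c)
    (hcount : 5 ≤ Fintype.card β ∨ (Fintype.card β = 4 ∧
      Module.finrank F ↥(((line α c₀).map (mvLin g)).map (ctr (frow f₂ c) : (α × β → F) →ₗ[F] α → F)) ≤ 2)) :
    ∃ (E : GL (α × β) F) (w : β → F) (l : F) (y : α × β → F),
      E ∈ M ∧ IsKron E ∧ σ l = -l ∧ f₂ w c = 0 ∧ f₂ w w = 0 ∧ f₂ w d₀ = 0 ∧ (w ≠ 0 ∨ l ≠ 0) ∧
      (∀ x, mv E x = x + (ten (ctr (frow f₂ c) x) w +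
        ten (l • ctr (frow f₂ c) x - ctr (frow f₂ w) x) c)) ∧
      y ∈ (line α c₀).map (mvLin g) ∧ ctr (frow f₂ c) y ≠ 0 ∧
      ∀ z ∈ (line α c₀).map (mvLin g), tf σ f₁ f₂ (mv E y) z = 0 := by
  classical
  set R' := (line α c₀).map (mvLin g) with hR'
  set p := (ctr (frow f₂ c) : (α × β → F) →ₗ[F] α → F) with hp
  -- a basis of the image in the first factor
  set S := R'.map p with hS
  set d := Module.finrank F S with hd
  let bS := Module.finBasis F S
  have hb' : ∀ i : Fin d, ∃ y ∈ R', p y = (bS i : α → F) := fun i => Submodule.mem_map.1 (bS i).2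
  choose y hyR hy using hb'
  have hd0 : 0 < d := by
    obtain ⟨x, hx, hxne⟩ := hnl
    refine Nat.pos_of_ne_zero fun h => hxne ?_
    have hbot : S = ⊥ := Submodule.finrank_eq_zero.1 h
    have : p x ∈ S := Submodule.mem_map.2 ⟨x, hx, rfl⟩
    rwa [hbot, Submodule.mem_bot] at this
  have hdα : d ≤ Fintype.card α := (Submodule.finrank_le S).trans (Module.finrank_fintype_fun_eq_card F).le
  -- coordinates of the plane's orthogonal over the fixed field
  obtain ⟨hn, h2⟩ := nondeg_pair C.h₂ hiso hdd hcd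
  set W := orth C.h₂ (Submodule.span F {c, d₀}) with hW
  have hsum := finrank_orth_add C.h₂ hn
  rw [h2, Module.finrank_fintype_fun_eq_card, ← hW] at hsum
  let bW := Module.finBasis F W
  obtain ⟨η, hη⟩ := exists_not_fixed C.h₂.ne_refl
  let e : (Fin (Module.finrank F W) × Fin 2) ⊕ Unit → β → F :=
    Sum.elim (fun p => (![1, η] p.2) • (bW p.1 : β → F)) fun _ => 0
  let r : (Fin (Module.finrank F W) × Fin 2) ⊕ Unit → F :=
    Sum.elim (fun _ => 0) fun _ => s₀
  let A : (Fin (Module.finrank F W) × Fin 2) ⊕ Unit → Matrix (Fin d) (Fin d) F := fun k =>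
    Matrix.of fun i j => s₀ * (f₁ (p (y i)) (ctr (frow f₂ (e k)) (y j)) +
      (r k * f₁ (p (y i)) (p (y j)) - f₁ (ctr (frow f₂ (e k)) (y i)) (p (y j))))
  have hr : ∀ k, σ (r k) = -r k := by
    rintro (k | k)
    · show σ 0 = -0; rw [map_zero, neg_zero]
    · exact hs
  have : Nonempty (Fin d) := ⟨⟨0, hd0⟩⟩
  obtain ⟨x, hx0, hxfix, hdet, hquad⟩ := exists_common_zero (σ := σ) A
    (fun k l => f₂ (e k) (e l))
    (fun k i j => by
      simp only [A, Matrix.of_apply, map_mul, map_add, map_sub, hs, hr, ← C.h₁.herm]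
      ring)
    (fun k l => (C.h₂.herm _ _).symm)
    (by
      simp only [Fintype.card_sum, Fintype.card_prod, Fintype.card_fin, Fintype.card_unit]
      rcases hcount with h | ⟨h, h'⟩
      · omega
      · change d ≤ 2 at h'
        omega)
  obtain ⟨ξ, hξ, hGξ⟩ := Matrix.exists_mulVec_eq_zero_iff.2 hdet
  set w : β → F := ∑ k, x k • e k with hw
  set l : F := ∑ k, x k * r k with hl
  have hel : l = x (Sum.inr ()) * s₀ := by
    rw [hl, Fintype.sum_sum_type]
    simp [r]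
  have hl' : σ l = -l := by rw [hel, map_mul, hxfix, hs, mul_neg]
  have heW : ∀ k, e k ∈ W := by
    rintro (⟨i, j⟩ | k)
    · exact W.smul_mem _ (bW i).2
    · exact W.zero_mem
  have hwW : w ∈ W := W.sum_mem fun k _ => W.smul_mem _ (heW k)
  have hwc : f₂ w c = 0 :=
    (f_eq_zero_comm C.h₂).1 (hwW c (Submodule.subset_span (Set.mem_insert _ _)))
  have hwd : f₂ w d₀ = 0 :=
    (f_eq_zero_comm C.h₂).1 (hwW d₀ (Submodule.subset_span (Set.mem_insert_of_mem _ rfl)))
  have hww : f₂ w w = 0 := by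
    rw [hw, Herm.sum_left C.h₂]
    refine Eq.trans ?_ hquad
    refine Finset.sum_congr rfl fun k _ => ?_
    rw [C.h₂.smul_left, Herm.sum_right C.h₂, Finset.mul_sum]
    exact Finset.sum_congr rfl fun m _ => by rw [Herm.smul_right C.h₂, hxfix]; ring
  have hne : w ≠ 0 ∨ l ≠ 0 := by
    by_contra hcon
    push Not at hcon
    apply hx0
    have hinr : x (Sum.inr ()) = 0 := by
      have := hcon.2
      rw [hel] at this
      exact (mul_eq_zero.1 this).resolve_right hs0
    have hlin : ∑ i, (x (Sum.inl (i, 0)) + x (Sum.inl (i, 1)) * η) • bW i = 0 := by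
      apply Subtype.ext
      rw [Submodule.coe_sum, Submodule.coe_zero]
      refine Eq.trans ?_ hcon.1
      rw [hw, Fintype.sum_sum_type, Fintype.sum_prod_type]
      simp [e, add_smul, mul_smul, Submodule.coe_smul]
    funext k
    rcases k with ⟨i, j⟩ | k
    · have h01 := Fintype.linearIndependent_iff.1 bW.linearIndependent _ hlin i
      have h1 : x (Sum.inl (i, 1)) = 0 := by
        have hσ := congrArg σ h01
        rw [map_add, map_mul, map_zero, hxfix, hxfix] at hσ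
        exact (mul_eq_zero.1 (show x (Sum.inl (i, 1)) * (η - σ η) = 0 by
          linear_combination h01 - hσ)).resolve_right hη
      rw [h1, zero_mul, add_zero] at h01
      fin_cases j
      · exact h01
      · exact h1
    · exact hinr
  have hctr : ∀ z : α × β → F, ctr (frow f₂ w) z = ∑ k, x k • ctr (frow f₂ (e k)) z := by
    intro z
    rw [hw, frow_sum_smul C.h₂ x e hxfix]
    funext i
    simp only [ctr_apply, Finset.sum_apply, Pi.smul_apply, smul_eq_mul, Finset.mul_sum]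
    rw [Finset.sum_comm]
    exact Finset.sum_congr rfl fun k _ => Finset.sum_congr rfl fun m _ => by ring
  obtain ⟨E, hE, hEk, hEx⟩ := exists_shear C (l := l) hiso hwc (by rw [hl', hww]; ring)
  have hEx' : ∀ z, mv E z = z + (ten (p z) w + ten (l • p z - ctr (frow f₂ w) z) c) := fun z => by
    rw [hEx, add_assoc]
  set ys : α × β → F := ∑ j, σ (ξ j) • y j with hys
  have hysR : ys ∈ R' := R'.sum_mem fun j _ => R'.smul_mem _ (hyR j)
  have hpys : p ys ≠ 0 := by
    intro h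
    apply hξ
    have h' : ∑ j, σ (ξ j) • bS j = 0 := by
      apply Subtype.ext
      rw [Submodule.coe_sum, Submodule.coe_zero]
      refine Eq.trans ?_ h
      rw [hys, map_sum]
      exact Finset.sum_congr rfl fun j _ => by rw [map_smul, hy]; rfl
    funext j
    exact (map_eq_zero_iff σ σ.injective).1
      (Fintype.linearIndependent_iff.1 bS.linearIndependent _ h' j)
  refine ⟨E, w, l, ys, hE, hEk, hl', hwc, hww, hwd, hne, hEx', hysR, hpys, ?_⟩
  intro z hz
  obtain ⟨B, hB⟩ : ∃ B : (α × β → F) → (α × β → F) → F, ∀ a b, B a b =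
      f₁ (p a) (ctr (frow f₂ w) b) + (l * f₁ (p a) (p b) - f₁ (ctr (frow f₂ w) a) (p b)) :=
    ⟨_, fun _ _ => rfl⟩
  have hskew : ∀ a b, B a b = -σ (B b a) := by
    intro a b
    simp only [hB, map_add, map_sub, map_mul, hl', ← C.h₁.herm]
    ring
  -- the kernel vector
  have hker : ∀ i, B (y i) ys = 0 := by
    intro i
    have h := congrFun hGξ i
    simp only [Matrix.mulVec, dotProduct, Matrix.sum_apply, Matrix.smul_apply, A, Matrix.of_apply,
      smul_eq_mul, Pi.zero_apply] at h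
    have e1 : s₀ * B (y i) ys = 0 := by
      rw [← h, hB, hys, map_sum, map_sum, Herm.sum_right C.h₁, Herm.sum_right C.h₁, Herm.sum_right C.h₁,
        Finset.mul_sum, ← Finset.sum_sub_distrib, ← Finset.sum_add_distrib, Finset.mul_sum]
      refine Finset.sum_congr rfl fun j _ => ?_
      rw [map_smul, map_smul, Herm.smul_right C.h₁, Herm.smul_right C.h₁, Herm.smul_right C.h₁,
        C.h₂.involutive, hctr, hctr, Herm.sum_left C.h₁, Herm.sum_right C.h₁, hl]
      simp only [Finset.sum_mul, Finset.mul_sum, ← Finset.sum_sub_distrib, ← Finset.sum_add_distrib]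
      refine Finset.sum_congr rfl fun k _ => ?_
      rw [Herm.smul_right C.h₁, C.h₁.smul_left, hxfix]
      ring
    exact (mul_eq_zero.1 e1).resolve_left hs0
  have hzB : B z ys = 0 := by
    obtain ⟨ζ, hζ⟩ : ∃ ζ : Fin d → F, p z = ∑ j, ζ j • p (y j) := by
      refine ⟨fun j => bS.repr ⟨p z, Submodule.mem_map.2 ⟨z, hz, rfl⟩⟩ j, ?_⟩
      have := congrArg Subtype.val (bS.sum_repr ⟨p z, Submodule.mem_map.2 ⟨z, hz, rfl⟩⟩)
      rw [Submodule.coe_sum] at this
      refine this.symm.trans (Finset.sum_congr rfl fun j _ => ?_)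
      rw [hy]; rfl
    set z₀ := z - ∑ j, ζ j • y j with hz₀
    have hz₀R : z₀ ∈ R' := R'.sub_mem hz (R'.sum_mem fun j _ => R'.smul_mem _ (hyR j))
    have hpz₀ : p z₀ = 0 := by
      rw [hz₀, map_sub, map_sum, hζ, sub_eq_zero]
      exact Finset.sum_congr rfl fun j _ => (map_smul p _ _).symm
    have hlin : ∀ (a b : α × β → F) (t : F), B (a + t • b) ys = B a ys + t * B b ys := by
      intro a b t
      simp only [hB, map_add, map_smul, C.h₁.add_left, C.h₁.smul_left]
      ring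
    have hsumB : ∀ s : Finset (Fin d), B (z₀ + ∑ j ∈ s, ζ j • y j) ys = B z₀ ys := by
      intro s
      induction s using Finset.induction_on with
      | empty => rw [Finset.sum_empty, add_zero]
      | insert a s ha ih =>
        rw [Finset.sum_insert ha, add_comm (ζ a • y a), ← add_assoc, hlin, ih, hker, mul_zero, add_zero]
    have hz₀B : B z₀ ys = -f₁ (ctr (frow f₂ w) z₀) (p ys) := by
      rw [hB, hpz₀, Herm.zero_left C.h₁, Herm.zero_left C.h₁]
      ring
    rw [show z = z₀ + ∑ j, ζ j • y j by rw [hz₀, sub_add_cancel], hsumB, hz₀B,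
      ctr_line (φ := frow f₂ w) (by rw [frow_dot C.h₂]; exact (f_eq_zero_comm C.h₂).1 hwc) (hI z₀ hz₀R hpz₀),
      Herm.zero_left C.h₁, neg_zero]
  rw [hEx', tf_add_left, image_isotropic C hg h₀ hysR hz, zero_add, hp, tf_shear C, ← hB, hskew, hzB,
    map_zero, neg_zero]

/-- A map of square-zero displacement that is a Kronecker product has an eigenvector in the first
factor. -/
theorem exists_eigen [Finite F] [Nonempty α] (A : GL α F) (B : GL β F) {c₀ c₁ : β → F}
    (h1 : mv B c₀ = c₁) (hind : c₁ ∉ Submodule.span F {c₀})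
    (hsq : ∀ u, ten u c₀ + ten (mv A (mv A u)) (mv B c₁) = (2 : F) • ten (mv A u) c₁) :
    ∃ (u : α → F) (t : F), u ≠ 0 ∧ t ≠ 0 ∧ mv A u = t • u := by
  obtain ⟨i₀⟩ := ‹Nonempty α›
  set u₀ : α → F := Pi.single i₀ 1
  have hu₀ : u₀ ≠ 0 := by simp [u₀]
  have hdone : ∀ u, u ≠ 0 → mv A u ∈ Submodule.span F {u} →
      ∃ (u : α → F) (t : F), u ≠ 0 ∧ t ≠ 0 ∧ mv A u = t • u := by
    intro u hu hm
    obtain ⟨t, ht⟩ := Submodule.mem_span_singleton.1 hm
    refine ⟨u, t, hu, fun h => hu ?_, ht.symm⟩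
    rw [h, zero_smul] at ht
    exact mv_inj A (ht.symm.trans (mv_zero A).symm)
  by_cases hm : mv A u₀ ∈ Submodule.span F {u₀}
  · exact hdone _ hu₀ hm
  obtain ⟨ψ, hψ, hψ'⟩ := exists_dot hm
  have hc₀ : c₀ ≠ 0 := fun h => hind (by
    rw [← h1, h, mv_zero]; exact Submodule.zero_mem _)
  have hm' : u₀ ∉ Submodule.span F {mv A u₀} := fun h => by
    obtain ⟨t, ht⟩ := Submodule.mem_span_singleton.1 h
    have ht0 : t ≠ 0 := fun h0 => hu₀ (by rw [← ht, h0, zero_smul])
    exact hm (Submodule.mem_span_singleton.2 ⟨t⁻¹, by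
      conv_lhs => rw [← ht]
      rw [smul_smul, inv_mul_cancel₀ ht0, one_smul]⟩)
  obtain ⟨χ, hχ, hχ'⟩ := exists_dot hm'
  have e1 := congrArg (ctrL ψ) (hsq u₀)
  rw [map_add, map_smul, ctrL_ten, ctrL_ten, ctrL_ten, hψ u₀ (Submodule.mem_span_singleton_self _),
    hψ', zero_smul, zero_add, one_smul] at e1
  have e2 := congrArg (ctrL χ) (hsq u₀)
  rw [map_add, map_smul, ctrL_ten, ctrL_ten, ctrL_ten, hχ',
    hχ (mv A u₀) (Submodule.mem_span_singleton_self _), zero_smul, smul_zero, one_smul] at e2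
  set p := χ ⬝ᵥ mv A (mv A u₀)
  have hp : p ≠ 0 := fun h => by
    rw [h, zero_smul, add_zero] at e2
    exact hc₀ e2
  have h2 : (2 : F) = 0 := by
    by_contra h2
    apply hind
    have : c₁ = ((2 : F)⁻¹ * ((ψ ⬝ᵥ mv A (mv A u₀)) * (-p⁻¹))) • c₀ := by
      have eB : mv B c₁ = (-p⁻¹) • c₀ := by
        rw [neg_smul, ← smul_neg, neg_eq_of_add_eq_zero_right e2, smul_smul, inv_mul_cancel₀ hp, one_smul]
      rw [eB, smul_smul] at e1
      rw [mul_smul, e1, smul_smul, inv_mul_cancel₀ h2, one_smul]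
    rw [this]
    exact Submodule.smul_mem _ _ (Submodule.mem_span_singleton_self _)
  have eB : mv B c₁ = (-p⁻¹) • c₀ := by
    rw [neg_smul, ← smul_neg, neg_eq_of_add_eq_zero_right e2, smul_smul, inv_mul_cancel₀ hp, one_smul]
  have hring : ringChar F = 2 := by
    have : CharP F 2 := CharTwo.of_one_ne_zero_of_two_eq_zero one_ne_zero h2
    exact ringChar.eq F 2
  obtain ⟨k, hk⟩ := FiniteField.isSquare_of_char_two hring p
  have hA2 : ∀ u, mv A (mv A u) = p • u := by
    intro u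
    obtain ⟨θ, hθ⟩ := exists_dot_one hc₀
    have e := congrArg (ctr θ) (hsq u)
    rw [eB, h2, zero_smul, map_add, map_zero, ctr_ten, ctr_ten, dotProduct_smul, hθ, one_smul,
      smul_eq_mul, mul_one] at e
    have e' : p⁻¹ • mv A (mv A u) = u := by
      linear_combination (norm := module) (-1 : F) • e
    conv_rhs => rw [← e', smul_smul, mul_inv_cancel₀ hp, one_smul]
  have hk0 : k ≠ 0 := fun h => hp (by rw [hk, h, mul_zero])
  refine hdone (mv A u₀ + k • u₀) (fun h => hm ?_) (Submodule.mem_span_singleton.2 ⟨k, ?_⟩)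
  · rw [eq_neg_of_add_eq_zero_left h]
    exact Submodule.neg_mem _ (Submodule.smul_mem _ _ (Submodule.mem_span_singleton_self _))
  · rw [mv_add, mv_smul, hA2, hk, smul_add, smul_smul, add_comm]

end Cfsg.Agent.TensorMax.U
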