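/-
With a second factor of dimension four some image of a line meets a line.
-/
import Cfsg.Agent.Lib.TensorMax.UMeet
import Cfsg.Agent.Lib.UnitaryFieldExt.Count

set_option autoImplicit false
set_option linter.unusedSectionVars false

namespace Cfsg.Agent.TensorMax.U

open scoped Matrix Kronecker
open Matrix Cfsg.Agent.Transvec Cfsg.Agent.Transvec.Herm

variable {α β : Type} [Fintype α] [DecidableEq α] [Fintype β] [DecidableEq β] {F : Type*} [Field F]
variable {σ : F ≃+* F} {f₁ : (α → F) → (α → F) → F} {f₂ : (β → F) → (β → F) → F}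
variable {M : Subgroup (GL (α × β) F)}

/-- A unipotent member fixing no vector: a Kronecker one has an isotropic pure tensor among its fixed vectors. -/
theorem exists_fixed_pure [Nonempty α] [Fintype F] (hb : 4 ≤ Fintype.card β) (C : Ctx σ f₁ f₂ M)
    {g : GL (α × β) F} (hg : g ∈ M) (hk : IsKron g) {p : ℕ} [CharP F p] (hp : g ^ p = 1) :
    ∃ (u : α → F) (v : β → F), u ≠ 0 ∧ v ≠ 0 ∧ f₂ v v = 0 ∧ mv g (ten u v) = ten u v := by
  classical
  haveI : Fact p.Prime := ⟨(CharP.char_is_prime_or_zero F p).resolve_right (CharP.char_ne_zero_of_finite F p)⟩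
  have hp0 : 0 < p := (Fact.out : p.Prime).pos
  obtain ⟨A, B, hAB⟩ := mv_kron_ten hk
  have hpow : ∀ (n : ℕ) u w, mv (g ^ n) (ten u w) = ten (mv (A ^ n) u) (mv (B ^ n) w) := by
    intro n
    induction n with
    | zero => intro u w; rw [pow_zero, pow_zero, pow_zero, mv_one, mv_one, mv_one]
    | succ n ih => intro u w; rw [pow_succ', pow_succ', pow_succ', mv_mul, ih, hAB, mv_mul, mv_mul]
  obtain ⟨i⟩ := ‹Nonempty α›
  obtain ⟨j⟩ : Nonempty β := Fintype.card_pos_iff.1 (by omega)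
  have hfix : ∀ u w, ten (mv (A ^ p) u) (mv (B ^ p) w) = ten u w := fun u w => by
    rw [← hpow, hp, mv_one]
  -- both powers are scalars
  obtain ⟨φ, hφ⟩ := exists_dot_one (show (Pi.single j 1 : β → F) ≠ 0 by simp)
  set lam := φ ⬝ᵥ mv (B ^ p) (Pi.single j 1) with hlam
  have hA : ∀ u, lam • mv (A ^ p) u = u := fun u => by
    have := congrArg (ctr φ) (hfix u (Pi.single j 1))
    rwa [ctr_ten, ctr_ten, hφ, one_smul, ← hlam] at this
  have hlam0 : lam ≠ 0 := fun h => by
    have := hA (Pi.single i 1)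
    rw [h, zero_smul] at this
    simpa using congrFun this i
  have hA' : ∀ u, mv (A ^ p) u = lam⁻¹ • u := fun u => by
    conv_rhs => rw [← hA u]
    rw [smul_smul, inv_mul_cancel₀ hlam0, one_smul]
  have hB' : ∀ w, mv (B ^ p) w = lam • w := fun w => by
    have h := hfix (Pi.single i 1) w
    rw [hA', ten_smul_left, ← ten_smul_right] at h
    have := congrArg (ctrL (Pi.single i (1 : F))) h
    rw [ctrL_ten, ctrL_ten] at this
    simp only [single_dotProduct, Pi.single_eq_same, one_mul, one_smul] at this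
    conv_rhs => rw [← this]
    rw [smul_smul, mul_inv_cancel₀ hlam0, one_smul]
  obtain ⟨a, ha⟩ : ∃ a : F, a ^ p = lam⁻¹ := (Finite.injective_iff_surjective.1 (frobenius_inj F p)) _
  have ha0 : a ≠ 0 := fun h => by
    rw [h, zero_pow hp0.ne'] at ha; exact inv_ne_zero hlam0 ha.symm
  -- eigenvectors
  have eig : ∀ {κ : Type} [Fintype κ] [DecidableEq κ] [Nonempty κ] (X : GL κ F) (c : F),
      (∀ x, mv (X ^ p) x = c ^ p • x) → ∃ x, x ≠ 0 ∧ mv X x = c • x := by
    intro κ _ _ _ X c hX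
    haveI : CharP (Matrix κ κ F) p :=
      charP_of_injective_algebraMap (algebraMap F (Matrix κ κ F)).injective p
    have h0 : ((X : Matrix κ κ F) - algebraMap F _ c) ^ p = 0 := by
      rw [sub_pow_char_of_commute p (Algebra.commute_algebraMap_right c _), sub_eq_zero, ← map_pow,
        Algebra.algebraMap_eq_smul_one]
      refine Matrix.ext_of_mulVec_single fun l => ?_
      rw [Matrix.smul_mulVec, Matrix.one_mulVec, ← Units.val_pow_eq_pow_val]
      exact hX _
    have hdet : ((X : Matrix κ κ F) - algebraMap F _ c).det = 0 := by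
      have := congrArg Matrix.det h0
      rw [Matrix.det_pow, Matrix.det_zero] at this
      exact (pow_eq_zero_iff hp0.ne').1 this
    obtain ⟨x, hx, hx0⟩ := Matrix.exists_mulVec_eq_zero_iff.2 hdet
    refine ⟨x, hx, ?_⟩
    rwa [Matrix.sub_mulVec, Algebra.algebraMap_eq_smul_one, Matrix.smul_mulVec, Matrix.one_mulVec, sub_eq_zero] at hx0
  obtain ⟨u, hu, hAu⟩ := eig A a fun x => by rw [hA', ha]
  haveI : Nonempty β := ⟨j⟩
  obtain ⟨v, hv, hBv⟩ := eig B a⁻¹ fun x => by rw [hB', inv_pow, ha, inv_inv]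
  suffices ∃ v : β → F, v ≠ 0 ∧ f₂ v v = 0 ∧ mv B v = a⁻¹ • v by
    obtain ⟨v, hv, hvv, hBv⟩ := this
    exact ⟨u, v, hu, hv, hvv, by
      rw [hAB, hAu, hBv, ten_smul_left, ten_smul_right, smul_smul, mul_inv_cancel₀ ha0, one_smul]⟩
  by_cases hscal : ∀ w, mv B w = a⁻¹ • w
  · obtain ⟨e, -, he0, hee⟩ := exists_isotropic C.h₂ (nondeg_top C.h₂)
      (by rw [finrank_top, Module.finrank_fintype_fun_eq_card]; omega)
    exact ⟨e, he0, hee, hscal e⟩
  -- the scale of the second factor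
  obtain ⟨u₂, hu₂⟩ := (C.h₁.nondegenerate u hu).2
  obtain ⟨μ, hμ⟩ : ∃ μ : F, ∀ w w', f₂ (mv B w) (mv B w') = μ * f₂ w w' := by
    refine ⟨f₁ u u₂ / f₁ (mv A u) (mv A u₂), fun w w' => ?_⟩
    have e := C.iso hg (ten u w) (ten u₂ w')
    rw [hAB, hAB, tf_ten C.h₁ C.h₂, tf_ten C.h₁ C.h₂] at e
    have h0 : f₁ (mv A u) (mv A u₂) ≠ 0 := by
      intro h0
      obtain ⟨x, hx⟩ := (C.h₂.nondegenerate v hv).2
      have e' := C.iso hg (ten u v) (ten u₂ x)
      rw [hAB, hAB, tf_ten C.h₁ C.h₂, tf_ten C.h₁ C.h₂, h0, zero_mul] at e'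
      exact mul_ne_zero hu₂ hx e'.symm
    field_simp
    linear_combination e
  by_cases hμa : μ = a⁻¹ * σ a⁻¹
  swap
  · refine ⟨v, hv, ?_, hBv⟩
    have e := hμ v v
    rw [hBv, C.h₂.smul_left, Herm.smul_right C.h₂] at e
    exact (mul_eq_zero.1 (show (μ - a⁻¹ * σ a⁻¹) * f₂ v v = 0 by linear_combination -e)).resolve_left
      (sub_ne_zero.2 hμa)
  -- an image in the eigenspace
  push Not at hscal
  obtain ⟨w₀, hw₀⟩ := hscal
  obtain ⟨N, hN⟩ : ∃ N : (β → F) →ₗ[F] β → F, ∀ w, N w = mv B w - a⁻¹ • w :=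
    ⟨mvLin B - a⁻¹ • LinearMap.id, fun w => by simp [mvLin]⟩
  have hNp : ∀ w, (N ^ p) w = 0 := by
    intro w
    haveI : CharP (Module.End F (β → F)) p :=
      charP_of_injective_algebraMap (algebraMap F (Module.End F (β → F))).injective p
    have e : N = mvLin B - algebraMap F (Module.End F (β → F)) a⁻¹ := LinearMap.ext fun w => by
      rw [hN]; simp [mvLin, Module.algebraMap_end_apply]
    have hBp : ∀ n : ℕ, (mvLin B ^ n) w = mv (B ^ n) w := by
      intro n
      induction n with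
      | zero => simp [mv_one]
      | succ n ih =>
        rw [pow_succ', Module.End.mul_apply, ih, Matrix.toLin'_apply, pow_succ']
        exact (mv_mul _ _ _).symm
    rw [e, sub_pow_char_of_commute p (Algebra.commute_algebraMap_right a⁻¹ _), LinearMap.sub_apply, hBp, hB',
      ← map_pow, Module.algebraMap_end_apply, inv_pow, ha, inv_inv, sub_self]
  have hex : ∃ k, (N ^ (k + 1)) (N w₀) = 0 := ⟨p - 1, by
    rw [show p - 1 + 1 = p by omega]; exact hNp _⟩
  obtain ⟨k, hk, hk'⟩ : ∃ k, (N ^ (k + 1)) (N w₀) = 0 ∧ (N ^ k) (N w₀) ≠ 0 := by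
    refine ⟨Nat.find hex, Nat.find_spec hex, ?_⟩
    rcases Nat.eq_zero_or_pos (Nat.find hex) with h | h
    · rw [h, pow_zero, Module.End.one_apply, hN, sub_ne_zero]; exact hw₀
    · have := Nat.find_min hex (show Nat.find hex - 1 < Nat.find hex by omega)
      rwa [Nat.sub_add_cancel h] at this
  obtain ⟨y, hy⟩ : ∃ y, N y = (N ^ k) (N w₀) :=
    ⟨(N ^ k) w₀, by rw [← Module.End.mul_apply, ← pow_succ', pow_succ, Module.End.mul_apply]⟩
  set v' := N y with hv'
  have hBv' : mv B v' = a⁻¹ • v' := by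
    have : N v' = 0 := by rw [hy, ← Module.End.mul_apply, ← pow_succ', hk]
    rwa [hN, sub_eq_zero] at this
  refine ⟨v', by rw [hy]; exact hk', ?_, hBv'⟩
  have e := hμ y v'
  rw [hBv', Herm.smul_right C.h₂, hμa] at e
  have hσa : σ a⁻¹ ≠ 0 := (map_ne_zero σ).2 (inv_ne_zero ha0)
  have e2 : f₂ (mv B y) v' = a⁻¹ * f₂ y v' := mul_left_cancel₀ hσa (by linear_combination e)
  rw [show f₂ v' v' = f₂ (mv B y - a⁻¹ • y) v' by rw [← hN]]
  rw [Herm.sub_left C.h₂, C.h₂.smul_left, e2, sub_self]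

/-- With a second factor of dimension four the largest meet is not trivial. -/
theorem meet_pos [Nonempty α] [Fintype F] (hab : Fintype.card α < Fintype.card β)
    (hb : Fintype.card β = 4) (C : Ctx σ f₁ f₂ M) (hC : CentreScalar σ f₂ M) (hJ : MaxMeet f₂ M 0)
    {g : GL (α × β) F} (hg : g ∈ M) (hnk : ¬ IsKron g) : False := by
  classical
  have hb4 : 4 ≤ Fintype.card β := hb.ge
  -- a totally isotropic plane with partners
  obtain ⟨c₁, -, hc₁0, hc₁⟩ := exists_isotropic C.h₂ (nondeg_top C.h₂)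
    (by rw [finrank_top, Module.finrank_fintype_fun_eq_card]; omega)
  obtain ⟨d₁, hd₁, hcd₁, hdc₁⟩ := exists_norm_d C hc₁0 hc₁
  obtain ⟨hn, h2⟩ := nondeg_pair C.h₂ hc₁ hd₁ hcd₁
  have hsum := finrank_orth_add C.h₂ hn
  rw [h2, Module.finrank_fintype_fun_eq_card] at hsum
  obtain ⟨c₂, hc₂W, hc₂0, hc₂⟩ := exists_isotropic C.h₂ (nondeg_orth C.h₂ hn) (by omega)
  obtain ⟨d₂, hd₂W, hcd₂, hd₂⟩ := Herm.exists_partner C.h₂ (nondeg_orth C.h₂ hn) hc₂W hc₂0 hc₂
  have hc12 : f₂ c₁ c₂ = 0 := hc₂W c₁ (Submodule.subset_span (Set.mem_insert _ _))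
  have hdc12 : f₂ d₁ c₂ = 0 := hc₂W d₁ (Submodule.subset_span (Set.mem_insert_of_mem _ rfl))
  have hc1d2 : f₂ c₁ d₂ = 0 := hd₂W c₁ (Submodule.subset_span (Set.mem_insert _ _))
  let cs : Fin 2 → β → F := ![c₁, c₂]
  let ds : Fin 2 → β → F := ![d₁, d₂]
  have hcc : ∀ i j, f₂ (cs i) (cs j) = 0 := by
    intro i j; fin_cases i <;> fin_cases j
    · exact hc₁
    · exact hc12
    · exact (f_eq_zero_comm C.h₂).1 hc12
    · exact hc₂
  have hcd : ∀ i j, f₂ (cs i) (ds j) = if i = j then 1 else 0 := by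
    intro i j; fin_cases i <;> fin_cases j
    · simpa [cs, ds] using hcd₁
    · simpa [cs, ds] using hc1d2
    · simpa [cs, ds] using (f_eq_zero_comm C.h₂).1 hdc12
    · simpa [cs, ds] using hcd₂
  -- isotropy of combinations
  obtain ⟨cc, -, hcc0, hccI⟩ := exists_isotropic C.h₂ (nondeg_top C.h₂)
    (by rw [finrank_top, Module.finrank_fintype_fun_eq_card]; omega)
  have hzero : ∀ {h : GL (α × β) F}, h ∈ M → ¬ IsKron h → ∀ {c₀ c : β → F}, c₀ ≠ 0 → f₂ c₀ c₀ = 0 → c ≠ 0 →
      f₂ c c = 0 → ∀ {x}, x ∈ (line α c₀).map (mvLin h) → ctr (frow f₂ c) x = 0 → x = 0 := by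
    intro h hh hhk c₀ c hc₀ h₀ hc hiso x hx hxc
    have hxl := perp_in_line hab hb4 C hC hJ hh hhk hc₀ h₀ hc hiso (Nat.zero_le _) hx hxc
    have hle := hJ h hh hhk c₀ c hc₀ h₀ hc hiso
    rw [Nat.le_zero, meetDim, Submodule.finrank_eq_zero] at hle
    have : x ∈ (line α c₀).map (mvLin h) ⊓ line α c := ⟨hx, hxl⟩
    rwa [hle, Submodule.mem_bot] at this
  -- hermitian pencil
  obtain ⟨η, hη⟩ := exists_not_fixed C.h₂.ne_refl
  have hη' : σ η ≠ η := fun h => hη (by rw [h, sub_self])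
  obtain ⟨s₀, hs0, hs⟩ := exists_anti C.h₂.ne_refl C.h₂.involutive
  let K : Fin 4 → Fin 2 → Fin 2 → F :=
    ![![![s₀, 0], ![0, 0]], ![![0, 0], ![0, s₀]], ![![0, 1], ![-1, 0]], ![![0, η], ![-σ η, 0]]]
  have hK : ∀ k i j, σ (K k i j) = -K k j i := by
    intro k i j
    fin_cases k <;> fin_cases i <;> fin_cases j <;> simp [K, hs, C.h₂.involutive]
  set R' := (line α cc).map (mvLin g) with hR'
  have hR'd : Module.finrank F R' = Fintype.card α := by
    rw [hR', TensorMax.finrank_map_mv, finrank_line hcc0]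
  let y := Module.finBasis F R'
  let A : Fin 4 → Matrix (Fin (Module.finrank F R')) (Fin (Module.finrank F R')) F := fun k =>
    Matrix.of fun a b => s₀ * ∑ i, ∑ j,
      K k i j * f₁ (ctr (frow f₂ (cs j)) (y a).1) (ctr (frow f₂ (cs i)) (y b).1)
  have hA : ∀ k a b, σ (A k a b) = A k b a := by
    intro k a b
    simp only [A, Matrix.of_apply, map_mul, map_sum, hs, hK, ← C.h₁.herm]
    rw [Finset.sum_comm]
    simp only [Finset.mul_sum]
    exact Finset.sum_congr rfl fun i _ => Finset.sum_congr rfl fun j _ => by ring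
  obtain ⟨x, hx0, hxσ, hdet⟩ := UFE.exists_det_zero (σ := σ)
    (by rw [hR'd]; exact Fintype.card_pos) A hA (by rw [hR'd, Fintype.card_fin]; omega)
  let Kx : Fin 2 → Fin 2 → F := fun i j => ∑ k, x k * K k i j
  have hKxs : ∀ i j, σ (Kx i j) = -Kx j i := fun i j => by
    simp only [Kx, map_sum, map_mul, hxσ, hK, mul_neg, Finset.sum_neg_distrib]
  have hKx0 : ∃ i j, Kx i j ≠ 0 := by
    by_contra h
    push Not at h
    apply hx0
    have e00 := h 0 0
    have e11 := h 1 1
    have e01 := h 0 1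
    simp [Kx, K, Fin.sum_univ_four, hs0] at e00 e11 e01
    have h3 : x 3 = 0 := by
      have e' := congrArg σ e01
      rw [map_add, map_mul, hxσ, hxσ, map_zero] at e'
      exact (mul_eq_zero.1 (show x 3 * (η - σ η) = 0 by linear_combination e01 - e')).resolve_right hη
    rw [h3, zero_mul, add_zero] at e01
    funext k; fin_cases k
    exacts [e00, e11, e01, h3]
  -- the element
  let R : (β → F) →ₗ[F] β → F := ∑ i, ∑ j, Kx i j • (formH C.h₂ (cs j)).smulRight (cs i)
  have hR : ∀ z, R z = ∑ i, ∑ j, (Kx i j * f₂ z (cs j)) • cs i := fun z => by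
    simp [R, formH_apply, smul_smul]
  have hRR : ∀ z, R (R z) = 0 := fun z => by
    rw [hR (R z)]
    refine Finset.sum_eq_zero fun i _ => Finset.sum_eq_zero fun j _ => ?_
    rw [hR, Herm.sum_left C.h₂]
    simp only [Herm.sum_left C.h₂, C.h₂.smul_left, hcc, mul_zero, Finset.sum_const_zero, zero_smul]
  let B : GL β F :=
    { val := 1 + LinearMap.toMatrix' R
      inv := 1 - LinearMap.toMatrix' R
      val_inv := Matrix.toLin'.injective (LinearMap.ext fun z => by
        simp [Matrix.toLin'_mul, hRR, sub_eq_add_neg])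
      inv_val := Matrix.toLin'.injective (LinearMap.ext fun z => by
        simp [Matrix.toLin'_mul, hRR, sub_eq_add_neg]) }
  have hBz : ∀ z, mv B z = z + R z := fun z => by
    show (1 + LinearMap.toMatrix' R) *ᵥ z = _
    rw [Matrix.add_mulVec, Matrix.one_mulVec, LinearMap.toMatrix'_mulVec]
  obtain ⟨p, hpc⟩ := CharP.exists F
  have hBn : ∀ (n : ℕ) z, mv (B ^ n) z = z + (n : F) • R z := by
    intro n
    induction n with
    | zero => intro z; simp [mv_one]
    | succ n ih =>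
      intro z
      rw [pow_succ, mv_mul, ih, hBz, map_add, hRR, add_zero, Nat.cast_succ, add_smul, one_smul]
      abel
  have hBp : B ^ p = 1 := ext_mv fun z => by rw [hBn, CharP.cast_eq_zero, zero_smul, add_zero, mv_one]
  have hBS : B ∈ preserving (Units.coeHom (Matrix β β F)) f₂ ⊓ Geo.specialLinear β F := by
    refine ⟨fun a b => show f₂ (mv B a) (mv B b) = f₂ a b from ?_, FieldMax.det_eq_one_of_pow_char hBp⟩
    have h1 : f₂ (R a) (R b) = 0 := by
      rw [hR, hR]
      simp only [Herm.sum_left C.h₂, Herm.sum_right C.h₂, C.h₂.smul_left, Herm.smul_right C.h₂, hcc, mul_zero,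
        Finset.sum_const_zero]
    have h2 : f₂ (R a) b + f₂ a (R b) = 0 := by
      rw [hR, hR]
      simp only [Herm.sum_left C.h₂, Herm.sum_right C.h₂, C.h₂.smul_left, Herm.smul_right C.h₂, map_mul, hKxs,
        ← C.h₂.herm]
      simp only [Fin.sum_univ_two]
      ring
    rw [hBz, hBz, C.h₂.add_left, Herm.add_right C.h₂, Herm.add_right C.h₂, h1]
    linear_combination h2
  set E := kr (1 : GL α F) B with hE
  have hEM : E ∈ M := C.memW B hBS
  have hEp : E ^ p = 1 := by
    have : ∀ n : ℕ, ∀ u w, mv (E ^ n) (ten u w) = ten u (mv (B ^ n) w) := by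
      intro n
      induction n with
      | zero => intro u w; rw [pow_zero, pow_zero, mv_one, mv_one]
      | succ n ih => intro u w; rw [pow_succ', pow_succ', mv_mul, ih, hE, mv_kr_ten, mv_one, mv_mul]
    exact ext_ten_mv fun u w => by rw [this, hBp, mv_one, mv_one]
  obtain ⟨XE, hXE⟩ : ∃ XE : (α × β → F) →ₗ[F] α × β → F, ∀ z,
      XE z = ∑ i, ∑ j, Kx i j • ten (ctr (frow f₂ (cs j)) z) (cs i) :=
    ⟨∑ i, ∑ j, Kx i j • (rho (cs i)).comp (ctr (frow f₂ (cs j))), fun z => by simp [rho_apply]⟩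
  have hEz : ∀ z, mv E z = z + XE z := by
    have e : mvLin E = LinearMap.id + XE := ext_ten fun u w => by
      rw [Matrix.toLin'_apply]
      show mv E (ten u w) = _
      rw [hE, mv_kr_ten, mv_one, hBz, LinearMap.add_apply, LinearMap.id_apply, hXE, ten_add_right, hR]
      congr 1
      simp only [ctr_ten, frow_dot C.h₂, ten_smul_left, smul_smul, Fin.sum_univ_two, ten_add_right, ten_smul_right]
    intro z
    have := LinearMap.congr_fun e z
    rwa [Matrix.toLin'_apply] at this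
  -- a vector moved orthogonally
  obtain ⟨ξ, hξ, hξA⟩ := Matrix.exists_vecMul_eq_zero_iff.2 hdet
  set ys : R' := ∑ a, ξ a • y a with hys
  have hys0 : (ys : α × β → F) ≠ 0 := fun h => hξ (funext fun a =>
    Fintype.linearIndependent_iff.1 y.linearIndependent ξ (Subtype.ext h) a)
  have hperp : ∀ z ∈ R', tf σ f₁ f₂ (mv E ys) z = 0 := by
    have hval : ∀ z ∈ R', tf σ f₁ f₂ (mv E ys) z =
        ∑ i, ∑ j, Kx i j * f₁ (ctr (frow f₂ (cs j)) (ys : α × β → F)) (ctr (frow f₂ (cs i)) z) := fun z hz => by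
      rw [hEz, tf_add_left, image_isotropic C hg hccI ys.2 hz, zero_add, hXE]
      simp only [Fin.sum_univ_two, tf_add_left, tf_smul_left, tf_ten_left C]
    have hb' : ∀ b, tf σ f₁ f₂ (mv E ys) (y b).1 = 0 := fun b => by
      rw [hval _ (y b).2]
      have e1 := congrFun hξA b
      simp only [Matrix.vecMul, dotProduct, Matrix.sum_apply, Matrix.smul_apply, A, Matrix.of_apply, smul_eq_mul,
        Pi.zero_apply] at e1
      apply mul_left_cancel₀ hs0
      rw [mul_zero, ← e1]
      have hlin : ∀ (j : Fin 2) w, f₁ (ctr (frow f₂ (cs j)) (ys : α × β → F)) w =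
          ∑ a, ξ a * f₁ (ctr (frow f₂ (cs j)) (y a).1) w := fun j w => by
        have : (ys : α × β → F) = ∑ a, ξ a • (y a).1 := by simp [hys]
        rw [this, map_sum, Herm.sum_left C.h₁]
        exact Finset.sum_congr rfl fun a _ => by rw [map_smul, C.h₁.smul_left]
      simp only [Kx, hlin, Fin.sum_univ_two, Fin.sum_univ_four, Finset.mul_sum, mul_add, add_mul,
        ← Finset.sum_add_distrib]
      exact Finset.sum_congr rfl fun a _ => by ring
    intro z hz
    have ez : z = ∑ b, y.repr ⟨z, hz⟩ b • (y b).1 := by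
      have := congrArg Subtype.val (y.sum_repr ⟨z, hz⟩)
      rw [Submodule.coe_sum] at this
      simp only [Submodule.coe_smul] at this
      exact this.symm
    rw [ez, Herm.sum_right C.hf]
    exact Finset.sum_eq_zero fun b _ => by rw [Herm.smul_right C.hf, hb', mul_zero]
  set g' := g⁻¹ * E * g with hg'
  have hg'M : g' ∈ M := M.mul_mem (M.mul_mem (M.inv_mem hg) hEM) hg
  by_cases hk : IsKron g'
  · have hg'p : g' ^ p = 1 := by
      rw [hg', show g⁻¹ * E * g = g⁻¹ * E * g⁻¹⁻¹ by rw [inv_inv], conj_pow, hEp, inv_inv, mul_one, inv_mul_cancel]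
    obtain ⟨u, v, hu, hv, hvv, hfix⟩ := exists_fixed_pure hb4 C hg'M hk hg'p
    set z := mv g (ten u v) with hz
    have hzfix : mv E z = z := by
      have := congrArg (mv g) hfix
      rwa [hg', mv_mul, mv_mul, mv_mv_inv] at this
    rw [hEz, add_eq_left, hXE] at hzfix
    obtain ⟨i, j, hij⟩ := hKx0
    have hrow : ∑ l, Kx i l • ctr (frow f₂ (cs l)) z = 0 := by
      have := congrArg (ctr (frow f₂ (ds i))) hzfix
      simp only [map_sum, map_smul, ctr_ten, frow_dot C.h₂, map_zero, hcd] at this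
      rw [Finset.sum_eq_single i (fun l _ hl => Finset.sum_eq_zero fun m _ => by
        rw [if_neg hl, zero_smul, smul_zero]) (by simp)] at this
      simpa using this
    set c' := ∑ l, σ (Kx i l) • cs l with hc'
    have hc'0 : c' ≠ 0 := fun h => by
      have h1 := congrArg (fun t => f₂ t (ds j)) h
      simp only [hc', Herm.sum_left C.h₂, C.h₂.smul_left, hcd, mul_ite, mul_one, mul_zero, Finset.sum_ite_eq',
        Finset.mem_univ, if_true, Herm.zero_left C.h₂] at h1
      exact hij ((map_eq_zero_iff σ σ.injective).1 h1)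
    have hc'c : f₂ c' c' = 0 := by
      simp only [hc', Herm.sum_left C.h₂, Herm.sum_right C.h₂, C.h₂.smul_left, Herm.smul_right C.h₂, hcc, mul_zero,
        Finset.sum_const_zero]
    have hzero' : ctr (frow f₂ c') z = 0 := by
      rw [hc', Fin.sum_univ_two, frow_add C.h₂, frow_smul C.h₂, frow_smul C.h₂, C.h₂.involutive, C.h₂.involutive]
      rw [Fin.sum_univ_two] at hrow
      rw [← hrow]
      funext l
      simp [ctr_apply, Finset.mul_sum, ← Finset.sum_add_distrib, add_mul, mul_add, mul_assoc, mul_left_comm]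
    have hz0 : z = 0 := hzero hg hnk hv hvv hc'0 hc'c
      (mem_map_mv.2 ⟨_, ten_mem_line _ _, rfl⟩) hzero'
    exact ten_ne_zero hu hv (mv_inj g (hz0.trans (mv_zero g).symm))
  · have hmem : mv g⁻¹ (mv E ys) ∈ (line α cc).map (mvLin g') := by
      obtain ⟨w, hw, hwy⟩ := mem_map_mv.1 ys.2
      exact mem_map_mv.2 ⟨w, hw, by rw [hg', mv_mul, mv_mul, hwy]⟩
    have hc0 : ctr (frow f₂ cc) (mv g⁻¹ (mv E ys)) = 0 := ctr_eq_zero_of_orth C fun u => by
      rw [← C.iso hg, mv_mv_inv]
      exact hperp _ (mem_map_mv.2 ⟨_, ten_mem_line _ _, rfl⟩)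
    have h0 := hzero hg'M hk hcc0 hccI hcc0 hccI hmem hc0
    exact hys0 (mv_inj E (mv_inj g⁻¹ (h0.trans (by rw [mv_zero, mv_zero]))))

end Cfsg.Agent.TensorMax.U
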