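/-
When centres are scalar every member is a Kronecker product.
-/
import Cfsg.Agent.Lib.TensorMax.UMeetPos

set_option autoImplicit false
set_option linter.unusedSectionVars false

namespace Cfsg.Agent.TensorMax.U

open scoped Matrix Kronecker
open Matrix Cfsg.Agent.Transvec Cfsg.Agent.Transvec.Herm

variable {α β : Type} [Fintype α] [DecidableEq α] [Fintype β] [DecidableEq β] {F : Type*} [Field F]
variable {σ : F ≃+* F} {f₁ : (α → F) → (α → F) → F} {f₂ : (β → F) → (β → F) → F}
variable {M : Subgroup (GL (α × β) F)}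

/-- When centres are scalar every member is a Kronecker product. -/
theorem all_kron [Nonempty α] [Fintype F] (hab : Fintype.card α < Fintype.card β)
    (hb : 4 ≤ Fintype.card β) (C : Ctx σ f₁ f₂ M) (hC : CentreScalar σ f₂ M) {g : GL (α × β) F}
    (hg : g ∈ M) : IsKron g := by
  classical
  by_contra hnk₁
  have hb4 : 4 ≤ Fintype.card β := by omega
  obtain ⟨cc, -, hcc0, hcc⟩ := exists_isotropic C.h₂ (nondeg_top C.h₂)
    (by rw [finrank_top, Module.finrank_fintype_fun_eq_card]; omega)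
  let P : ℕ → Prop := fun J => ∃ g ∈ M, ¬ IsKron g ∧ ∃ c₀ c : β → F,
    c₀ ≠ 0 ∧ f₂ c₀ c₀ = 0 ∧ c ≠ 0 ∧ f₂ c c = 0 ∧ meetDim g c₀ c = J
  have hbound : ∀ J, P J → J ≤ Fintype.card α := by
    rintro J ⟨g, -, -, c₀, c, -, -, hc, -, rfl⟩
    exact (Submodule.finrank_mono inf_le_right).trans (finrank_line hc).le
  have hne : P (meetDim g cc cc) := ⟨g, hg, hnk₁, cc, cc, hcc0, hcc, hcc0, hcc, rfl⟩
  have hspec := Nat.findGreatest_spec (P := P) (hbound _ hne) hne
  set J := Nat.findGreatest P (Fintype.card α) with hJdef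
  have hJ : MaxMeet f₂ M J := fun g hg hnk c₀ c hc₀ h₀ hc hiso =>
    Nat.le_findGreatest (hbound _ ⟨g, hg, hnk, c₀, c, hc₀, h₀, hc, hiso, rfl⟩)
      ⟨g, hg, hnk, c₀, c, hc₀, h₀, hc, hiso, rfl⟩
  have hJpos : Fintype.card β = 4 → 1 ≤ J := fun hb' => by
    by_contra hJ0
    exact meet_pos hab hb' C hC (Nat.eq_zero_of_not_pos hJ0 ▸ hJ) hg hnk₁
  clear hnk₁ hne hg g
  obtain ⟨g, hg, hnk, c₀, c, hc₀, h₀, hc, hiso, hm⟩ := hspec
  set R' := (line α c₀).map (mvLin g) with hR'
  have hI : ∀ x ∈ R', ctr (frow f₂ c) x = 0 → x ∈ line α c :=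
    fun x hx hxc => perp_in_line hab hb4 C hC hJ hg hnk hc₀ h₀ hc hiso hm.ge hx hxc
  have hnl : ∃ x ∈ R', ctr (frow f₂ c) x ≠ 0 := by
    by_contra hcon
    push Not at hcon
    refine hnk (kron_of_line hab hb4 C hC hg hc₀ h₀ hc hiso
      (Submodule.eq_of_le_of_finrank_le (fun x hx => hI x hx (hcon x hx)) ?_))
    rw [TensorMax.finrank_map_mv, finrank_line hc₀, finrank_line hc]
  obtain ⟨d₀, hdd, hcd, hdc⟩ := exists_norm_d C hc hiso
  obtain ⟨s₀, hs0, hs⟩ := exists_anti C.h₂.ne_refl C.h₂.involutive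
  obtain ⟨E, w, l, y, hE, hEk, hl, hwc, hww, hwd, hwl, hEx, hy, hpy, hperp⟩ :=
    exists_good_shear hab hb C hg h₀ hiso hdd hcd hs0 hs hnl hI (by
      by_cases hb5 : 5 ≤ Fintype.card β
      · exact Or.inl hb5
      refine Or.inr ⟨by omega, ?_⟩
      have hker : R' ⊓ line α c ≤ R' ⊓ LinearMap.ker (ctr (frow f₂ c) : (α × β → F) →ₗ[F] α → F) :=
        inf_le_inf_left _ fun x hx => LinearMap.mem_ker.2 (ctr_line (by rw [frow_dot C.h₂, hiso]) hx)
      have h1 := LinearMap.finrank_range_add_finrank_ker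
        ((ctr (frow f₂ c) : (α × β → F) →ₗ[F] α → F).domRestrict R')
      rw [LinearMap.range_domRestrict, TensorMax.finrank_map_mv, finrank_line hc₀] at h1
      have h2 : J ≤ Module.finrank F
          (LinearMap.ker ((ctr (frow f₂ c) : (α × β → F) →ₗ[F] α → F).domRestrict R')) := by
        rw [← Submodule.finrank_map_subtype_eq, LinearMap.ker_domRestrict, Submodule.map_comap_eq,
          Submodule.range_subtype]
        exact hm.ge.trans (Submodule.finrank_mono hker)
      have h3 := hJpos (by omega)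
      rw [← hR']
      omega)
  -- the shear fixes the common part
  have hfix : ∀ x ∈ line α c, mv E x = x := by
    intro x hx
    rw [hEx, ctr_line (φ := frow f₂ c) (by rw [frow_dot C.h₂, hiso]) hx,
      ctr_line (φ := frow f₂ w) (by rw [frow_dot C.h₂]; exact (f_eq_zero_comm C.h₂).1 hwc) hx,
      ten_zero_left, smul_zero, sub_zero, ten_zero_left, add_zero, add_zero]
  have hpE : ∀ x, ctr (frow f₂ c) (mv E x) = ctr (frow f₂ c) x := by
    intro x
    rw [hEx, map_add, map_add, ctr_ten, ctr_ten, frow_dot C.h₂, frow_dot C.h₂, hwc, hiso, zero_smul,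
      zero_smul, add_zero, add_zero]
  have hqE : ∀ x, ctr (frow f₂ w) (mv E x) = ctr (frow f₂ w) x := by
    intro x
    rw [hEx, map_add, map_add, ctr_ten, ctr_ten, frow_dot C.h₂, frow_dot C.h₂, hww,
      (f_eq_zero_comm C.h₂).1 hwc, zero_smul, zero_smul, add_zero, add_zero]
  set g' := g⁻¹ * E * g with hg'def
  have hg' : g' ∈ M := M.mul_mem (M.mul_mem (M.inv_mem hg) hE) hg
  have hmem : mv g⁻¹ (mv E y) ∈ (line α c₀).map (mvLin g') := by
    obtain ⟨z, hz, rfl⟩ := mem_map_mv.1 hy
    exact mem_map_mv.2 ⟨z, hz, by rw [hg'def, mv_mul, mv_mul]⟩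
  have hperp' : ctr (frow f₂ c₀) (mv g⁻¹ (mv E y)) = 0 := ctr_eq_zero_of_orth C fun u => by
    rw [← C.iso hg, mv_mv_inv]
    exact hperp _ (mem_map_mv.2 ⟨_, ten_mem_line _ _, rfl⟩)
  set Y := (R' ⊓ line α c).map (mvLin g⁻¹) with hY
  have hYsub : Y ≤ (line α c₀).map (mvLin g') ⊓ line α c₀ := by
    intro x hx
    obtain ⟨z, ⟨hz, hzc⟩, rfl⟩ := mem_map_mv.1 hx
    obtain ⟨z', hz', rfl⟩ := mem_map_mv.1 hz
    refine ⟨mem_map_mv.2 ⟨z', hz', ?_⟩, by rw [mv_inv_mv]; exact hz'⟩
    rw [hg'def, mv_mul, mv_mul, hfix _ hzc]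
  have hYdim : Module.finrank F Y = J := by
    rw [hY, TensorMax.finrank_map_mv]; exact hm
  by_cases hk' : IsKron g'
  · obtain ⟨A, B, hAB⟩ := mv_kron_ten hk'
    set c'' := mv B c₀ with hc''
    have hc''0 : c'' ≠ 0 := fun h => hc₀ (mv_inj B (h.trans (mv_zero B).symm))
    have himg : (line α c₀).map (mvLin g') = line α c'' := by
      refine Submodule.eq_of_le_of_finrank_le (fun x hx => ?_) (by
        rw [TensorMax.finrank_map_mv, finrank_line hc₀, finrank_line hc''0])
      obtain ⟨z, hz, rfl⟩ := mem_map_mv.1 hx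
      obtain ⟨u, rfl⟩ := mem_line.1 hz
      rw [hAB]
      exact ten_mem_line _ _
    by_cases hdep : c'' ∈ Submodule.span F {c₀}
    · -- the shear stabilises the image
      have hle : line α c'' ≤ line α c₀ := by
        intro x hx
        obtain ⟨a, ha⟩ := Submodule.mem_span_singleton.1 hdep
        obtain ⟨u, rfl⟩ := mem_line.1 hx
        rw [← ha, ten_smul_right]
        exact Submodule.smul_mem _ _ (ten_mem_line _ _)
      have hEy : mv E y ∈ R' := by
        have := hle (himg ▸ hmem)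
        exact mem_map_mv.2 ⟨_, this, by rw [mv_mv_inv]⟩
      have hd : mv E y - y ∈ line α c :=
        hI _ (R'.sub_mem hEy hy) (by rw [map_sub, hpE, sub_self])
      rw [hEx, add_sub_cancel_left] at hd
      have hw0 : w = 0 := by
        by_contra hw0
        obtain ⟨v, hv⟩ := (C.h₂.nondegenerate w hw0).2
        apply hv
        set v' := v - f₂ v c • d₀
        have hv'c : f₂ v' c = 0 := by
          rw [Herm.sub_left C.h₂, C.h₂.smul_left, hdc, mul_one, sub_self]
        have e := ctr_line (φ := frow f₂ v')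
          (by rw [frow_dot C.h₂]; exact (f_eq_zero_comm C.h₂).1 hv'c) hd
        rw [map_add, ctr_ten, ctr_ten, frow_dot C.h₂, frow_dot C.h₂,
          (f_eq_zero_comm C.h₂).1 hv'c, zero_smul, add_zero, smul_eq_zero] at e
        have e' := e.resolve_right hpy
        rw [Herm.sub_right C.h₂, Herm.smul_right C.h₂, hwd, mul_zero, sub_zero] at e'
        exact e'
      have hl0 : l ≠ 0 := hwl.resolve_left (fun h => h hw0)
      have hEu : E = uT₂ C c hiso l := ext_mv fun x => by
        rw [hEx, hw0, ten_zero_right, zero_add, mv_uT₂, ten_sub_left, ten_smul_left]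
        rw [show (frow f₂ (0 : β → F)) = 0 from funext fun k => Herm.zero_right C.h₂ _, ctr_zero_vec,
          LinearMap.zero_apply, ten_zero_left, sub_zero]
      rw [hg'def, hEu] at hk'
      exact hnk (by
        simpa using isKron_inv (kron_of_conj hab hb4 C hC (M.inv_mem hg) hc hiso hl0
          (by rwa [inv_inv])))
    · -- the meets are trivial
      have hbot : ∀ x ∈ Y, x = 0 := by
        intro x hx
        by_contra hx0
        obtain ⟨h1, h2⟩ := hYsub hx
        rw [himg] at h1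
        have e := line_eq_of_mem hx0 h1 h2
        obtain ⟨i₀⟩ := ‹Nonempty α›
        obtain ⟨u, hu⟩ := mem_line.1 (show ten (Pi.single i₀ (1 : F)) c'' ∈ line α c₀ from
          e ▸ ten_mem_line _ _)
        apply hdep
        have := congrFun (congrArg (ctrL (Pi.single i₀ (1 : F))) hu)
        rw [ctrL_ten, ctrL_ten] at this
        simp only [single_dotProduct, Pi.single_eq_same, one_mul, one_smul] at this
        exact Submodule.mem_span_singleton.2 ⟨u i₀, funext this⟩
      have hJ0 : J = 0 := by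
        rw [← hYdim, Submodule.finrank_eq_zero]
        exact eq_bot_iff.2 hbot
      obtain ⟨u', hu'⟩ := mem_line.1 (himg ▸ hmem)
      have hu'0 : u' ≠ 0 := fun h => by
        rw [h, ten_zero_left] at hu'
        apply hpy
        rw [← hpE]
        have : mv E y = 0 := mv_inj g⁻¹ (hu'.symm.trans (mv_zero g⁻¹).symm)
        rw [this, map_zero]
      rw [← hu', ctr_ten, frow_dot C.h₂, smul_eq_zero] at hperp'
      have horth : f₂ c'' c₀ = 0 := hperp'.resolve_right hu'0
      have hc''iso : f₂ c'' c'' = 0 := by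
        obtain ⟨v, hv⟩ := (C.h₁.nondegenerate u' hu'0).2
        have hv' : f₁ u' v ≠ 0 := hv
        have e := C.iso hg' (ten (mv A⁻¹ u') c₀) (ten (mv A⁻¹ v) c₀)
        rw [hAB, hAB, mv_mv_inv, mv_mv_inv, tf_ten C.h₁ C.h₂, tf_ten C.h₁ C.h₂, h₀, mul_zero] at e
        exact (mul_eq_zero.1 e).resolve_left hv'
      have hsqE : ∀ x, mv E (mv E x) - mv E x = mv E x - x := by
        intro x
        rw [hEx (mv E x), hpE, hqE, add_sub_cancel_left, hEx x, add_sub_cancel_left]
      have hsq : ∀ u, ten u c₀ + ten (mv A (mv A u)) (mv B c'') = (2 : F) • ten (mv A u) c'' := by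
        intro u
        have e := hsqE (mv g (ten u c₀))
        have e2 : mv g' (mv g' (ten u c₀)) = ten (mv A (mv A u)) (mv B c'') := by rw [hAB, hAB]
        have e1 : mv g' (ten u c₀) = ten (mv A u) c'' := hAB u c₀
        rw [← e1, ← e2]
        have e3 := congrArg (mv g⁻¹) e
        rw [mv_sub, mv_sub, mv_inv_mv] at e3
        rw [hg'def, mv_mul, mv_mul, mv_mul, mv_mul, mv_mv_inv]
        linear_combination (norm := module) e3
      obtain ⟨u, t, hu, ht, htu⟩ := exists_eigen A B hc''.symm hdep hsq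
      set v := t • c'' - c₀ with hv
      have hv0 : v ≠ 0 := fun h => hdep (Submodule.mem_span_singleton.2 ⟨t⁻¹, by
        rw [← sub_eq_zero.1 h, smul_smul, inv_mul_cancel₀ ht, one_smul]⟩)
      have hviso : f₂ v v = 0 := by
        rw [hv, Herm.sub_left C.h₂, Herm.sub_right C.h₂, Herm.sub_right C.h₂, C.h₂.smul_left,
          C.h₂.smul_left, Herm.smul_right C.h₂, Herm.smul_right C.h₂, hc''iso, horth, h₀,
          (f_eq_zero_comm C.h₂).1 horth]
        ring
      have hp0 : ctr (frow f₂ c) (mv g (ten u v)) = 0 := by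
        have e1 : mv E (mv g (ten u c₀)) = mv g (mv g' (ten u c₀)) := by
          rw [hg'def, mv_mul, mv_mul, mv_mv_inv]
        rw [hAB, htu, ten_smul_left, ← ten_smul_right] at e1
        have := congrArg (ctr (frow f₂ c)) e1
        rw [hpE] at this
        rw [hv, show ten u (t • c'' - c₀) = lam u (t • c'' - c₀) from rfl, map_sub, lam_apply, lam_apply,
          mv_sub, map_sub, ← this, sub_self]
      have hxR : mv g (ten u v) ∈ (line α v).map (mvLin g) := mem_map_mv.2 ⟨_, ten_mem_line _ _, rfl⟩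
      have hxl : mv g (ten u v) ∈ line α c :=
        perp_in_line hab hb4 C hC hJ hg hnk hv0 hviso hc hiso (by omega) hxR hp0
      have hle := hJ g hg hnk v c hv0 hviso hc hiso
      rw [hJ0, Nat.le_zero, meetDim, Submodule.finrank_eq_zero, eq_bot_iff] at hle
      exact ten_ne_zero hu hv0 (mv_inj g (((Submodule.mem_bot F).1 (hle ⟨hxR, hxl⟩)).trans
        (mv_zero g).symm))
  · -- the meet of the new member has the same size
    have hle := hJ g' hg' hk' c₀ c₀ hc₀ h₀ hc₀ h₀
    have hge : J ≤ meetDim g' c₀ c₀ := hYdim.ge.trans (Submodule.finrank_mono hYsub)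
    have hx : mv g⁻¹ (mv E y) ∈ line α c₀ :=
      perp_in_line hab hb4 C hC hJ hg' hk' hc₀ h₀ hc₀ h₀ hge hmem hperp'
    have heq : Y = (line α c₀).map (mvLin g') ⊓ line α c₀ :=
      Submodule.eq_of_le_of_finrank_le hYsub (by rw [hYdim]; exact hle)
    have : mv g⁻¹ (mv E y) ∈ Y := heq ▸ ⟨hmem, hx⟩
    obtain ⟨z, ⟨-, hzc⟩, hz⟩ := mem_map_mv.1 this
    apply hpy
    rw [← hpE, ← mv_inj g⁻¹ hz]
    exact ctr_line (by rw [frow_dot C.h₂, hiso]) hzc

end Cfsg.Agent.TensorMax.U
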