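/-
Stabilisers of tensor decompositions of a unitary form with factors of different dimensions are
maximal in the special unitary group.
-/
import Cfsg.Agent.Lib.TensorMax.UKron
import Cfsg.Agent.Lib.TensorMax.UGen
import Cfsg.Agent.Lib.TensorMax.Main
import Cfsg.Agent.Lib.Transvec.HermStd

set_option autoImplicit false
set_option linter.unusedSectionVars false

namespace Cfsg.Agent.TensorMax.U

open scoped Matrix Kronecker
open Matrix Cfsg.Agent.Transvec Cfsg.Agent.Transvec.Herm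

variable {α β : Type} [Fintype α] [DecidableEq α] [Fintype β] [DecidableEq β] {F : Type*} [Field F]
variable {σ : F ≃+* F} {f₁ : (α → F) → (α → F) → F} {f₂ : (β → F) → (β → F) → F}

theorem preserves_of_ten (h₁ : Geo.IsUnitaryForm σ f₁) (h₂ : Geo.IsUnitaryForm σ f₂) {g : GL (α × β) F}
    (h : ∀ u w v z, tf σ f₁ f₂ (mv g (ten u w)) (mv g (ten v z)) = tf σ f₁ f₂ (ten u w) (ten v z))
    (x y : α × β → F) : tf σ f₁ f₂ (mv g x) (mv g y) = tf σ f₁ f₂ x y := by
  have hf := tf_unitary h₁ h₂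
  have e1 : ∀ v z (x : α × β → F),
      tf σ f₁ f₂ (mv g x) (mv g (ten v z)) = tf σ f₁ f₂ x (ten v z) := by
    intro v z x
    have e : (formH hf (mv g (ten v z))).comp (mvLin g) = formH hf (ten v z) := ext_ten fun u w => by
      rw [LinearMap.comp_apply, Matrix.toLin'_apply]
      exact h u w v z
    have := LinearMap.congr_fun e x
    rw [LinearMap.comp_apply, Matrix.toLin'_apply] at this
    exact this
  have e2 : (formH hf (mv g x)).comp (mvLin g) = formH hf x := ext_ten fun v z => by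
    rw [LinearMap.comp_apply, Matrix.toLin'_apply]
    show tf σ f₁ f₂ (mv g (ten v z)) (mv g x) = tf σ f₁ f₂ (ten v z) x
    rw [tf_herm h₁ h₂, e1, ← tf_herm h₁ h₂]
  have e3 := LinearMap.congr_fun e2 y
  rw [LinearMap.comp_apply, Matrix.toLin'_apply] at e3
  have e4 : tf σ f₁ f₂ (mv g y) (mv g x) = tf σ f₁ f₂ y x := e3
  rw [tf_herm h₁ h₂, e4, ← tf_herm h₁ h₂]

theorem kr_mem (h₁ : Geo.IsUnitaryForm σ f₁) (h₂ : Geo.IsUnitaryForm σ f₂) {A : GL α F} {B : GL β F}
    (hA : A ∈ preserving (Units.coeHom (Matrix α α F)) f₁ ⊓ Geo.specialLinear α F)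
    (hB : B ∈ preserving (Units.coeHom (Matrix β β F)) f₂ ⊓ Geo.specialLinear β F) :
    kr A B ∈ preserving (Units.coeHom (Matrix (α × β) (α × β) F)) (tf σ f₁ f₂) ⊓
      Geo.specialLinear (α × β) F := by
  refine ⟨fun x y => preserves_of_ten h₁ h₂ (g := kr A B) (fun u w v z => ?_) x y, ?_⟩
  · rw [mv_kr_ten, mv_kr_ten, tf_ten h₁ h₂, tf_ten h₁ h₂,
      show f₁ (mv A u) (mv A v) = f₁ u v from hA.1 u v, show f₂ (mv B w) (mv B z) = f₂ w z from hB.1 w z]
  · show Matrix.GeneralLinearGroup.det (kr A B) = 1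
    have hA' : (A : Matrix α α F).det = 1 := by
      rw [← Matrix.GeneralLinearGroup.val_det_apply, show Matrix.GeneralLinearGroup.det A = 1 from hA.2,
        Units.val_one]
    have hB' : (B : Matrix β β F).det = 1 := by
      rw [← Matrix.GeneralLinearGroup.val_det_apply, show Matrix.GeneralLinearGroup.det B = 1 from hB.2,
        Units.val_one]
    refine Units.ext ?_
    rw [Matrix.GeneralLinearGroup.val_det_apply, Units.val_one]
    show ((A : Matrix α α F) ⊗ₖ (B : Matrix β β F)).det = 1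
    rw [Matrix.det_kronecker, hA', hB', one_pow, one_pow, one_mul]

/-- A transvection at a pure tensor is not a Kronecker product. -/
theorem exists_not_kron [Finite F] (h₁ : Geo.IsUnitaryForm σ f₁) (h₂ : Geo.IsUnitaryForm σ f₂)
    (ha : 2 ≤ Fintype.card α) (hb : 2 ≤ Fintype.card β) :
    ∃ g ∈ preserving (Units.coeHom (Matrix (α × β) (α × β) F)) (tf σ f₁ f₂) ⊓
      Geo.specialLinear (α × β) F, ¬ IsKron g := by
  obtain ⟨e, -, he0, hee⟩ := exists_isotropic h₁ (nondeg_top h₁)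
    (by rw [finrank_top, Module.finrank_fintype_fun_eq_card]; exact ha)
  obtain ⟨d, -, hed, hdd⟩ := exists_partner h₁ (nondeg_top h₁) Submodule.mem_top he0 hee
  obtain ⟨c, -, hc0, hcc⟩ := exists_isotropic h₂ (nondeg_top h₂)
    (by rw [finrank_top, Module.finrank_fintype_fun_eq_card]; exact hb)
  obtain ⟨d', -, hcd, hdd'⟩ := exists_partner h₂ (nondeg_top h₂) Submodule.mem_top hc0 hcc
  have hde : f₁ d e = 1 := by rw [h₁.herm, hed, map_one]
  have hdc : f₂ d' c = 1 := by rw [h₂.herm, hcd, map_one]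
  obtain ⟨t, ht0, ht⟩ := exists_anti h₁.ne_refl h₁.involutive
  have hiso : tf σ f₁ f₂ (ten e c) (ten e c) = 0 := by rw [tf_ten h₁ h₂, hee, zero_mul]
  refine ⟨htv (tf_unitary h₁ h₂) (ten e c) hiso t,
    ⟨htv_mem _ _ hiso ht, htv_mem_specialLinear _ _ hiso t⟩, fun hk => ?_⟩
  obtain ⟨A, B, hAB⟩ := mv_kron_ten hk
  have e0 := hAB d d'
  rw [mv_htv, tf_ten h₁ h₂, hde, hdc, mul_one, mul_one] at e0
  have p1 := congrArg (ctr (frow f₂ c)) e0
  have p2 := congrArg (ctr (frow f₂ d')) e0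
  rw [map_add, map_smul, ctr_ten, ctr_ten, ctr_ten, frow_dot h₂, frow_dot h₂, frow_dot h₂, hdc, hcc, one_smul,
    zero_smul, smul_zero, add_zero] at p1
  rw [map_add, map_smul, ctr_ten, ctr_ten, ctr_ten, frow_dot h₂, frow_dot h₂, frow_dot h₂, hdd', hcd, one_smul,
    zero_smul, zero_add] at p2
  have q1 := congrArg (fun u => f₁ u d) p1
  have q2 := congrArg (fun u => f₁ u d) p2
  simp only [h₁.smul_left, hdd, hed, mul_one] at q1 q2
  rcases mul_eq_zero.1 q1.symm with h | h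
  · rw [h, zero_smul] at p1
    rw [p1, Herm.zero_left h₁] at hde
    exact zero_ne_one hde
  · rw [h, mul_zero] at q2
    exact ht0 q2

/-- The Kronecker products in the special unitary group of a tensor product form a maximal
subgroup. -/
theorem maximal_std [Fintype F] (h₁ : Geo.IsUnitaryForm σ f₁) (h₂ : Geo.IsUnitaryForm σ f₂)
    (ha : 2 ≤ Fintype.card α) (hab : Fintype.card α < Fintype.card β) (hb : 4 ≤ Fintype.card β)
    (hq : Fintype.card α = 2 → Nat.card (fixedField σ) ≠ 2) {K : Subgroup (GL (α × β) F)}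
    (hK : ∀ g, g ∈ K ↔ IsKron g) :
    Geo.IsMaximalIn
      (preserving (Units.coeHom (Matrix (α × β) (α × β) F)) (tf σ f₁ f₂) ⊓ Geo.specialLinear (α × β) F)
      (K ⊓ (preserving (Units.coeHom (Matrix (α × β) (α × β) F)) (tf σ f₁ f₂) ⊓
        Geo.specialLinear (α × β) F)) := by
  haveI : Nonempty α := Fintype.card_pos_iff.1 (by omega)
  refine ⟨lt_of_le_of_ne inf_le_right fun heq => ?_, fun M hM1 hM2 => ?_⟩
  · obtain ⟨g, hg, hnk⟩ := exists_not_kron h₁ h₂ ha (by omega)
    rw [← heq] at hg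
    exact hnk ((hK g).1 hg.1)
  · have hone1 : (1 : GL α F) ∈ preserving (Units.coeHom (Matrix α α F)) f₁ ⊓ Geo.specialLinear α F :=
      Subgroup.one_mem _
    have hone2 : (1 : GL β F) ∈ preserving (Units.coeHom (Matrix β β F)) f₂ ⊓ Geo.specialLinear β F :=
      Subgroup.one_mem _
    have C : Ctx σ f₁ f₂ M :=
      ⟨h₁, h₂, hM2, fun A hA => hM1 ⟨(hK _).2 (isKron_kr A 1), kr_mem h₁ h₂ hA hone2⟩,
        fun B hB => hM1 ⟨(hK _).2 (isKron_kr 1 B), kr_mem h₁ h₂ hone1 hB⟩⟩
    by_cases hC : CentreScalar σ f₂ M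
    · exact Or.inl (le_antisymm (fun g hg => ⟨(hK g).2 (all_kron hab hb C hC hg), hM2 hg⟩) hM1)
    · obtain ⟨e, c, he, hc, hee, hcc, hv⟩ := exists_pure_centre ha (by omega) C hq hC
      exact Or.inr (eq_su C.hf (by rw [Fintype.card_prod]; nlinarith) hM2
        (all_centres ha (by omega) (Or.inl hb) C he hc hee hcc hv))

variable {n₁ n₂ : ℕ} {ι : Type} [Fintype ι] [DecidableEq ι]

theorem mv_reindex (e : ι ≃ α × β) (g : GL (α × β) F) (x : α × β → F) :
    mv (Geo.glReindex e.symm g) (x ∘ e) = (mv g x) ∘ e := by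
  show Matrix.reindex e.symm e.symm (g : Matrix (α × β) (α × β) F) *ᵥ (x ∘ e) = _
  funext i
  simp only [Matrix.mulVec, dotProduct, Matrix.reindex_apply, Matrix.submatrix_apply, Equiv.symm_symm,
    Function.comp_apply]
  exact Equiv.sum_comp e fun k => (g : Matrix (α × β) (α × β) F) (e i) k * x k

/-- The isometry group of the tensor form corresponds to that of a similar form. -/
theorem map_preserving (e : ι ≃ α × β) (P : GL ι F) {f : (ι → F) → (ι → F) → F} {c : F} (hc : c ≠ 0)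
    (hf : ∀ x y : α × β → F, f (mv P (x ∘ e)) (mv P (y ∘ e)) = c * tf σ f₁ f₂ x y) :
    ((preserving (Units.coeHom (Matrix (α × β) (α × β) F)) (tf σ f₁ f₂)).map
      (Geo.glReindex (F := F) e.symm).toMonoidHom).map (MulAut.conj P).toMonoidHom =
      preserving (Units.coeHom (Matrix ι ι F)) f := by
  ext x
  simp only [Subgroup.mem_map, MulEquiv.coe_toMonoidHom]
  constructor
  · rintro ⟨y, ⟨g, hg, rfl⟩, rfl⟩
    intro u v
    show f (mv (MulAut.conj P (Geo.glReindex e.symm g)) u) (mv (MulAut.conj P (Geo.glReindex e.symm g)) v) = f u v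
    have key : ∀ u, ∃ u', u = mv P (u' ∘ e) := fun u =>
      ⟨(mv P⁻¹ u) ∘ e.symm, by rw [Function.comp_assoc, Equiv.symm_comp_self, Function.comp_id, mv_mv_inv]⟩
    obtain ⟨u', rfl⟩ := key u
    obtain ⟨v', rfl⟩ := key v
    rw [MulAut.conj_apply, mv_mul, mv_mul, mv_inv_mv, mv_mul, mv_mul, mv_inv_mv, mv_reindex, mv_reindex, hf,
      hf, show tf σ f₁ f₂ (mv g u') (mv g v') = tf σ f₁ f₂ u' v' from hg u' v']
  · intro hx
    refine ⟨P⁻¹ * x * P, ⟨(Geo.glReindex e.symm).symm (P⁻¹ * x * P), fun u v => ?_, by simp⟩,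
      by simp [MulAut.conj_apply, mul_assoc]⟩
    show tf σ f₁ f₂ (mv ((Geo.glReindex e.symm).symm (P⁻¹ * x * P)) u)
      (mv ((Geo.glReindex e.symm).symm (P⁻¹ * x * P)) v) = tf σ f₁ f₂ u v
    refine mul_left_cancel₀ hc ?_
    rw [← hf, ← hf, ← mv_reindex, ← mv_reindex, MulEquiv.apply_symm_apply, mv_mul, mv_mul, mv_mv_inv,
      mv_mul, mv_mul, mv_mv_inv]
    exact hx _ _

theorem unitary_of_pow {κ : Type} [Fintype κ] [DecidableEq κ] {q : ℕ} (hne : σ ≠ RingEquiv.refl F)
    (hinv : ∀ a, σ (σ a) = a) (hσ : ∀ a, σ a = a ^ q) {f : (κ → F) → (κ → F) → F}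
    (hf : Geo.IsUnitaryFormPow q f) : Geo.IsUnitaryForm σ f :=
  ⟨hne, hinv, hf.add_left, hf.smul_left, fun v w => by rw [hσ]; exact hf.herm v w, hf.nondegenerate⟩

/-- The stabiliser of a unitary tensor decomposition with unequal factors is maximal in the special
unitary group. -/
theorem unitary_tensor_maximal [Fintype F] (n q : ℕ) (hF : Fintype.card F = q ^ 2) (hn : 10 ≤ n)
    (h1 : 2 ≤ n₁) (h12 : n₁ < n₂) (hex : ¬ (n₁ = 2 ∧ q = 2)) (e : Fin n ≃ Fin n₁ × Fin n₂)
    (P : GL (Fin n) F) (g₁ : (Fin n₁ → F) → (Fin n₁ → F) → F) (g₂ : (Fin n₂ → F) → (Fin n₂ → F) → F)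
    (hf₁ : Geo.IsUnitaryFormPow q g₁) (hf₂ : Geo.IsUnitaryFormPow q g₂)
    (hT : Geo.IsTensorFormStructure (fun x : F => x ^ q) (hermForm n F q) g₁ g₂ e P) :
    Geo.IsMaximalIn (GU n F q ⊓ Geo.specialLinear (Fin n) F)
      (Geo.tensorProductSubgroup n₁ n₂ e P ⊓ (GU n F q ⊓ Geo.specialLinear (Fin n) F)) := by
  obtain ⟨σ, hσ, hq2, hstd⟩ := exists_unitary_std (F := F) hF (show 0 < n by omega)
  have H₁ := unitary_of_pow hstd.ne_refl hstd.involutive hσ hf₁
  have H₂ := unitary_of_pow hstd.ne_refl hstd.involutive hσ hf₂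
  have hcard : n = n₁ * n₂ := by simpa using Fintype.card_congr e
  have hb : 4 ≤ n₂ := by
    by_contra h
    have : n₁ * n₂ ≤ 2 * 3 := Nat.mul_le_mul (by omega) (by omega)
    omega
  have hk : Nat.card (fixedField σ) = q := by
    have h := card_eq_sq hstd.ne_refl hstd.involutive
    rw [Nat.card_eq_fintype_card, hF] at h
    exact (Nat.pow_left_injective (by norm_num : 2 ≠ 0) h).symm
  have h := maximal_std (σ := σ) (f₁ := g₁) (f₂ := g₂) H₁ H₂ (by simpa using h1) (by simpa using h12)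
    (by simpa using hb) (fun h => by
      rw [hk]
      rw [Fintype.card_fin] at h
      exact fun hq => hex ⟨h, hq⟩) (K := Geo.kroneckerSubgroup n₁ n₂ F) (fun g => Iff.rfl)
  obtain ⟨c, hc, hf⟩ := hT
  have hmap := map_preserving (σ := σ) (f₁ := g₁) (f₂ := g₂) e P (f := hermForm n F q) hc (fun x y => by
    show hermForm n F q ((P : Matrix (Fin n) (Fin n) F) *ᵥ _) _ = _
    rw [hf, tf, show (fun a => σ a) = fun x : F => x ^ q from funext hσ])
  have h' := isMaximalIn_map (MulAut.conj P) (isMaximalIn_map (Geo.glReindex e.symm) h)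
  simp only [Subgroup.map_inf _ _ (Geo.glReindex (F := F) e.symm).toMonoidHom (Geo.glReindex e.symm).injective,
    Subgroup.map_inf _ _ (MulAut.conj P).toMonoidHom (MulAut.conj P).injective] at h'
  rw [map_conj_specialLinear, hmap] at h'
  exact h'

end Cfsg.Agent.TensorMax.U
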