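/-
One root element at a pure tensor generates the commutator subgroup of the orthogonal group.
-/
import Cfsg.Agent.Lib.TensorMax.SBase
import Cfsg.Agent.Lib.Transvec.QuadGen

set_option autoImplicit false
set_option linter.unusedSectionVars false

namespace Cfsg.Agent.TensorMax.S

open scoped Matrix Kronecker
open Matrix Cfsg.Agent.Transvec
open Cfsg.Agent.TensorMax.U (kr mv_kr_ten isKron_kr frow)

variable {α β : Type} [Fintype α] [DecidableEq α] [Fintype β] [DecidableEq β] {F : Type*} [Field F]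
variable {Q : (α × β → F) → F} {f₁ : (α → F) → (α → F) → F} {f₂ : (β → F) → (β → F) → F}
variable {M : Subgroup (GL (α × β) F)}

/-- Root elements at every pure tensor and orthogonal pair of second factors. -/
theorem sie_iso_pair (C : Ctx Q f₁ f₂ M) (hR : Root Q f₂ M) {e : α → F} (he : e ≠ 0) {c w : β → F}
    (hc : c ≠ 0) (hwc : f₂ w c = 0) : Sie Q M (ten e c) (ten e w) := by
  by_cases hw : w ∈ Submodule.span F {c}
  · obtain ⟨a, rfl⟩ := Submodule.mem_span_singleton.1 hw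
    rw [ten_smul_right]
    refine ⟨by rw [Orth.pol_smul_right C.hQ, C.hpol, C.h₁.alternating, zero_mul, mul_zero],
      fun t => ⟨1, M.one_mem, ?_⟩⟩
    have h := Orth.isSiegel_add_self C.hQ (C.pure e c) (Orth.pol_zero_right C.hQ _) (t * a)
      (Orth.isSiegel_zero C.hQ (ten e c))
    rwa [zero_add, ← smul_smul] at h
  obtain ⟨e₀, c₀, v₀, he₀, hc₀, hv₀, hvc₀, hS⟩ := hR
  obtain ⟨A, hA, hAe, -⟩ := exists_move_nondeg C.h₁ (K := preserving (Units.coeHom (Matrix α α F)) f₁)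
    (nondeg_top C.h₁) (fun z _ k => stv_mem C.h₁ z k) Submodule.mem_top Submodule.mem_top he₀ he
  obtain ⟨B, hB, hBc, hBv⟩ := exists_move_orth C.h₂ hc₀ hv₀ hvc₀ hc hw hwc
  have h2 := (hS.conj C (C.memU A hA)).conj C (C.memW B hB)
  rwa [mv_kr_ten, mv_kr_ten, mv_kr_ten, mv_kr_ten, hAe, mv_one, mv_one, mv_one, hBc, hBv] at h2

/-- Root elements at two pure tensors with orthogonal second factors. -/
theorem sie_line (hβ : 6 ≤ Fintype.card β) (C : Ctx Q f₁ f₂ M) (hR : Root Q f₂ M) {e : α → F} (he : e ≠ 0)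
    {c c' : β → F} (hc : c ≠ 0) (hc' : f₂ c' c = 0) (e' : α → F) :
    Sie Q M (ten e c) (ten e' c') := by
  have key : ∀ e₁, f₁ e e₁ = 1 → Sie Q M (ten e c) (ten e₁ c') := by
    intro e₁ h1
    by_cases hc'0 : c' = 0
    · rw [hc'0, ten_zero_right]; exact Sie.zero C _
    have he₁ : e₁ ≠ 0 := fun h => by rw [h, f_zero_right C.h₁] at h1; exact zero_ne_one h1
    set P := Submodule.span F ({c, c'} : Set (β → F))
    have mc : c ∈ P := Submodule.subset_span (Set.mem_insert _ _)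
    have mc' : c' ∈ P := Submodule.subset_span (Set.mem_insert_of_mem _ rfl)
    obtain ⟨v', hv'P, hv'⟩ := exists_perp_out C.h₂ (P := P) (by
      have : Module.finrank F P ≤ 2 := finrank_span_le_two c c'; omega)
    obtain ⟨v, hvP, hv'v⟩ := exists_with C.h₂ hv'P
    have hvc : f₂ v c = 0 := (f_eq_zero_comm C.h₂).1 (hvP c mc)
    have hvc' : f₂ v c' = 0 := (f_eq_zero_comm C.h₂).1 (hvP c' mc')
    have hcv' : f₂ c v' = 0 := hv' c mc
    have hv'c' : f₂ v' c' = 0 := (f_eq_zero_comm C.h₂).1 (hv' c' mc')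
    have hL := sie_iso_pair C hR he hc hvc
    obtain ⟨k, hk, hks⟩ := (sie_iso_pair C hR he₁ hc'0 hv'c').2 1
    have hkf := siegel_apply C (C.pure _ _) hks
    have k1 : mv k (ten e c) = ten e c := by
      rw [hkf, C.hpol, C.hpol, (f_eq_zero_comm C.h₂).1 hc', hcv', mul_zero, mul_zero, zero_smul, zero_smul,
        add_zero, sub_zero]
    have k2 : mv k (ten e v) = ten e v + ten e₁ c' := by
      rw [hkf, C.hpol, C.hpol, hvc', h1, C.h₂.skew v v', hv'v]
      module
    have h3 := hL.conj C hk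
    rw [k1, k2] at h3
    have h4 := h3.sub C (C.pure _ _) hL
    rwa [add_sub_cancel_left] at h4
  obtain ⟨e₁, he₁⟩ : ∃ e₁, f₁ e e₁ = 1 := by
    obtain ⟨d, hd⟩ := exists_pair C.h₁ he
    exact ⟨-d, by rw [f_neg_right C.h₁, C.h₁.skew, hd, neg_neg]⟩
  have h1 := key (e' + (1 - f₁ e e') • e₁) (by
    rw [C.h₁.bilinear.add_right, C.h₁.bilinear.smul_right, he₁]; ring)
  have h2 := h1.sub C (C.pure _ _) ((key e₁ he₁).smul C (1 - f₁ e e'))
  rwa [← ten_smul_left, ← ten_sub_left, add_sub_cancel_right] at h2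

/-- Root elements at two pure tensors with orthogonal first factors. -/
theorem sie_left (hβ : 6 ≤ Fintype.card β) (C : Ctx Q f₁ f₂ M) (hR : Root Q f₂ M) {e : α → F} (he : e ≠ 0)
    {c : β → F} (hc : c ≠ 0) {e₂ : α → F} (he₂ : f₁ e₂ e = 0) (v : β → F) :
    Sie Q M (ten e c) (ten e₂ v) := by
  by_cases hv0 : v = 0
  · rw [hv0, ten_zero_right]; exact Sie.zero C _
  by_cases he₂0 : e₂ = 0
  · rw [he₂0, ten_zero_left]; exact Sie.zero C _
  set P := Submodule.span F ({c, v} : Set (β → F))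
  have mc : c ∈ P := Submodule.subset_span (Set.mem_insert _ _)
  have mv' : v ∈ P := Submodule.subset_span (Set.mem_insert_of_mem _ rfl)
  obtain ⟨v', hv'P, hv'⟩ := exists_perp_out C.h₂ (P := P) (by
    have : Module.finrank F P ≤ 2 := finrank_span_le_two c v; omega)
  have hv'c : v' ∉ Submodule.span F {c} :=
    fun h => hv'P (Submodule.span_mono (Set.singleton_subset_iff.2 (Set.mem_insert _ _)) h)
  obtain ⟨w', hw'c, hv'w'⟩ := exists_with C.h₂ hv'c
  have hcw' : f₂ c w' = 0 := hw'c c (Submodule.mem_span_singleton_self _)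
  have hcv' : f₂ c v' = 0 := hv' c mc
  obtain ⟨e₃, he₃⟩ : ∃ e₃, f₁ e e₃ = 1 := by
    obtain ⟨d, hd⟩ := exists_pair C.h₁ he
    exact ⟨-d, by rw [f_neg_right C.h₁, C.h₁.skew, hd, neg_neg]⟩
  obtain ⟨k, hk, hks⟩ := (sie_line hβ C hR he₂0 hv0
    (show f₂ v' v = 0 from (f_eq_zero_comm C.h₂).1 (hv' v mv')) e₃).2 1
  have hkf := siegel_apply C (C.pure _ _) hks
  have k1 : mv k (ten e c) = ten e c := by
    rw [hkf, C.hpol, C.hpol, (f_eq_zero_comm C.h₁).1 he₂, hcv', mul_zero, zero_mul, mul_zero, zero_smul,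
      zero_smul, add_zero, sub_zero]
  have hy0 := sie_line hβ C hR he hc ((f_eq_zero_comm C.h₂).1 hcw') e
  have h3 := hy0.conj C hk
  rw [k1, hkf] at h3
  have h4 := (h3.sub C (C.pure _ _) hy0).sub C (C.pure _ _)
    ((sie_line hβ C hR he hc ((f_eq_zero_comm C.h₂).1 hcv') e₃).smul C
      (1 * Orth.pol Q (ten e w') (ten e₂ v)))
  have h5 : Sie Q M (ten e c) (-((1 * Orth.pol Q (ten e w') (ten e₃ v')) • ten e₂ v)) := by
    convert h4 using 1; abel
  rw [C.hpol, he₃, C.h₂.skew w' v', hv'w', one_mul, one_mul, neg_smul, one_smul, neg_neg] at h5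
  exact h5

/-- Root elements at a pure tensor and every orthogonal vector. -/
theorem sie_pure (hβ : 6 ≤ Fintype.card β) (C : Ctx Q f₁ f₂ M) (hR : Root Q f₂ M) {e : α → F} (he : e ≠ 0)
    {c : β → F} (hc : c ≠ 0) {y : α × β → F} (hy : Orth.pol Q y (ten e c) = 0) :
    Sie Q M (ten e c) y := by
  obtain ⟨d, hdc⟩ := exists_pair C.h₂ hc
  let L : (α × β → F) →ₗ[F] α × β → F := LinearMap.id - (rho d).comp (ctr (frow f₂ c))
  have hL : ∀ u w, L (ten u w) = ten u (w - f₂ w c • d) := by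
    intro u w
    funext p
    simp only [L, LinearMap.sub_apply, LinearMap.id_apply, LinearMap.comp_apply, rho_apply, ctr_ten,
      frow_dot C.h₂, Pi.sub_apply, ten, Pi.smul_apply, smul_eq_mul]
    ring
  have h1 : Sie Q M (ten e c) (L y) := by
    rw [eq_sum_ten y, map_sum]
    refine Finset.sum_induction _ (Sie Q M (ten e c)) (fun _ _ a b => a.add C (C.pure _ _) b) (Sie.zero C _)
      fun k _ => ?_
    rw [hL]
    exact sie_line hβ C hR he hc (by
      rw [f_sub_left C.h₂, C.h₂.bilinear.smul_left, hdc, mul_one, sub_self]) _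
  have h2 := sie_left hβ C hR he hc (e₂ := ctr (frow f₂ c) y) (by rw [← C.pol_ctr, hy]) d
  have h3 := h1.add C (C.pure _ _) h2
  have e1 : L y + ten (ctr (frow f₂ c) y) d = y := by
    show y - ten (ctr (frow f₂ c) y) d + _ = y
    rw [sub_add_cancel]
  rwa [e1] at h3

/-- One root element gives the whole commutator subgroup. -/
theorem eq_omega_of_root [Finite F] (hn : 11 ≤ Fintype.card (α × β)) (hβ : 6 ≤ Fintype.card β)
    (C : Ctx Q f₁ f₂ M) (hR : Root Q f₂ M) (hM : M ≤ Geo.omegaGL Q) : M = Geo.omegaGL Q := by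
  refine Orth.eq_omega C.hQ (by omega) hM fun u y hu huy => ?_
  by_cases hu0 : u = 0
  · refine ⟨1, M.one_mem, fun z => ?_⟩
    rw [mv_one, hu0, Orth.pol_zero_right C.hQ]
    simp
  obtain ⟨v, z, hp⟩ : ∃ v z, Orth.pol Q u (ten v z) ≠ 0 := by
    by_contra hcon
    push Not at hcon
    obtain ⟨x, hx⟩ := (C.hQ.nondegenerate u hu0).2
    refine hx ?_
    have : Orth.formQ C.hQ u = 0 := ext_ten fun a b => by
      rw [Orth.formQ_apply, Orth.pol_comm, hcon, LinearMap.zero_apply]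
    show Orth.pol Q u x = 0
    rw [Orth.pol_comm]
    exact LinearMap.congr_fun this x
  have hv : v ≠ 0 := fun h => hp (by rw [h, ten_zero_left, Orth.pol_zero_right C.hQ])
  have hz : z ≠ 0 := fun h => hp (by rw [h, ten_zero_right, Orth.pol_zero_right C.hQ])
  obtain ⟨l, hl⟩ : ∃ l, l = (Orth.pol Q u (ten v z))⁻¹ := ⟨_, rfl⟩
  have hl0 : l ≠ 0 := hl ▸ inv_ne_zero hp
  have hu1 : Orth.pol Q (l • u) (ten v z) = 1 := by
    rw [Orth.pol_smul_left C.hQ, hl, inv_mul_cancel₀ hp]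
  obtain ⟨v', hv'⟩ := exists_pair C.h₁ hv
  obtain ⟨z', hz'⟩ := exists_pair C.h₂ hz
  have hd' : Orth.pol Q (ten v' z') (ten v z) = 1 := by rw [C.hpol, hv', hz', mul_one]
  obtain ⟨yy, hyy, -, hmove⟩ := Orth.exists_move_along C.hQ (v := ten v z) (u := l • u) (w := ten v' z')
    (C.pure _ _) (by rw [Orth.q_smul C.hQ, hu, C.pure, mul_zero]) hu1 hd'
  obtain ⟨g, hg, hgs⟩ := (sie_pure hβ C hR hv hz (by rw [Orth.pol_comm, hyy])).2 1
  rw [one_smul] at hgs
  have hgu : mv g (l • u) = ten v' z' := hmove g hgs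
  have hv'0 : v' ≠ 0 := fun h => by rw [h, f_zero_left C.h₁] at hv'; exact zero_ne_one hv'
  have hz'0 : z' ≠ 0 := fun h => by rw [h, f_zero_left C.h₂] at hz'; exact zero_ne_one hz'
  have h1 := sie_pure hβ C hR hv'0 hz'0 (y := mv g y) (by
    rw [← hgu, C.iso hg, Orth.pol_smul_right C.hQ, Orth.pol_comm, huy, mul_zero])
  have h2 := h1.conj C (M.inv_mem hg)
  rw [← hgu, mv_inv_mv, mv_inv_mv] at h2
  obtain ⟨e, he, hes⟩ := h2.2 l⁻¹
  refine ⟨e, he, fun w => ?_⟩
  rw [hes, Orth.q_smul C.hQ]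
  simp only [Orth.pol_smul_right C.hQ, smul_smul]
  field_simp

end Cfsg.Agent.TensorMax.S
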