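/-
When centres and middles are scalar, a member sending one line to a line is a Kronecker product.
-/
import Cfsg.Agent.Lib.TensorMax.SBase
import Cfsg.Agent.Lib.TensorMax.ULine

set_option autoImplicit false
set_option linter.unusedSectionVars false

namespace Cfsg.Agent.TensorMax.S

open scoped Matrix Kronecker
open Matrix Cfsg.Agent.Transvec
open Cfsg.Agent.TensorMax.U (kr mv_kr_ten isKron_kr isKron_mul isKron_inv mv_kron_ten ext_ten_mv frow
  finrank_range_disp)

variable {α β : Type} [Fintype α] [DecidableEq α] [Fintype β] [DecidableEq β] {F : Type*} [Field F]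
variable {Q : (α × β → F) → F} {f₁ : (α → F) → (α → F) → F} {f₂ : (β → F) → (β → F) → F}
variable {M : Subgroup (GL (α × β) F)}

theorem ctr_sub_line (C : Ctx Q f₁ f₂ M) {c v : β → F} (hv : f₂ v c = 0) {x y : α × β → F}
    (h : y - x ∈ line α c) : ctr (frow f₂ v) y = ctr (frow f₂ v) x := by
  rw [← sub_eq_zero, ← map_sub]
  exact ctr_line (by rw [frow_dot C.h₂]; exact (f_eq_zero_comm C.h₂).1 hv) h

/-- A conjugate of a factor transvection fixing a line pointwise is a Kronecker product. -/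
theorem kron_of_fix [Nonempty α] (C : Ctx Q f₁ f₂ M) (hC : CentreScalar f₂ M) (hMid : MiddleScalar f₂ M)
    {g : GL (α × β) F} (hg : g ∈ M) {c₀ : β → F} {s₀ : F}
    {c : β → F} (hc : c ≠ 0)
    (hfix : ∀ u, disp g c₀ (s₀ • frow f₂ c₀) (ten u c) = 0) :
    IsKron (g * uT₂ C c₀ s₀ * g⁻¹) := by
  classical
  set h := g * uT₂ C c₀ s₀ * g⁻¹ with hdef
  have hh : h ∈ M := M.mul_mem (M.mul_mem hg (uT₂_mem C c₀ s₀)) (M.inv_mem hg)
  set X := disp g c₀ (s₀ • frow f₂ c₀) with hX
  have h00 : (s₀ • frow f₂ c₀) ⬝ᵥ c₀ = 0 := C.dot_self c₀ s₀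
  have hhx : ∀ x, mv h x = x + X x := fun x => mv_conj_tT g c₀ _ h00 x
  have hinv : ∀ x, mv h⁻¹ x = x - X x := fun x => by
    rw [mv_eq_iff, inv_inv, hhx, map_sub, disp_disp g h00, sub_zero, sub_add_cancel]
  have hfixh : ∀ u, mv h (ten u c) = ten u c := fun u => by rw [hhx, hfix, add_zero]
  have hfixh' : ∀ u, mv h⁻¹ (ten u c) = ten u c := fun u => by rw [hinv, hfix, sub_zero]
  have hperp : ∀ x, ctr (frow f₂ c) (X x) = 0 := fun x => by
    have := disp_mem_perp C (C.le hh) hfixh x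
    rwa [hhx, add_sub_cancel_left] at this
  -- contractions of the displacement
  have hrel : ∀ v, f₂ v c = 0 → ∃ d : β → F,
      ∀ x, ctr (frow f₂ c) x = 0 → ctr (frow f₂ v) (X x) = ctr d x := by
    intro v hv
    obtain ⟨E, hE, -, hEx⟩ := exists_shear C hv 0
    have hEperp : ∀ x, ctr (frow f₂ c) x = 0 → mv E x = x + ten (ctr (frow f₂ v) x) c := fun x hx => by
      rw [hEx, hx, ten_zero_left, add_zero, smul_zero, zero_add]
    have hEu : ∀ u, mv E (ten u c) = ten u c := fun u => by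
      rw [hEperp _ (by rw [ctr_ten, frow_dot C.h₂, C.h₂.alternating, zero_smul]), ctr_ten, frow_dot C.h₂,
        (f_eq_zero_comm C.h₂).1 hv, zero_smul, ten_zero_left, add_zero]
    have hp : ∀ x, ctr (frow f₂ c) x = 0 → ctr (frow f₂ c) (mv h⁻¹ x) = 0 := fun x hx => by
      rw [hinv, map_sub, hx, hperp, sub_zero]
    have hk : ∀ x, ctr (frow f₂ c) x = 0 →
        mv (h * E * h⁻¹) x = x + ten (ctr (frow f₂ v) (mv h⁻¹ x)) c := fun x hx => by
      rw [mv_mul, mv_mul, hEperp _ (hp x hx), mv_add, mv_mv_inv, hfixh]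
    obtain ⟨φ, -, hφ⟩ := hMid c hc (h * E * h⁻¹)
      (M.mul_mem (M.mul_mem hh hE) (M.inv_mem hh))
      (fun u => by rw [mv_mul, mv_mul, hfixh', hEu, hfixh])
      (fun x hx => by
        rw [hk x hx, add_sub_cancel_left]
        exact ten_mem_line _ _)
    refine ⟨frow f₂ v - φ, fun x hx => ?_⟩
    have e := hφ x hx
    rw [hk x hx, add_right_inj] at e
    have e' : ctr (frow f₂ v) (mv h⁻¹ x) = ctr φ x := rho_injective hc (by simpa using e)
    rw [hinv, map_sub] at e'
    rw [ctr_sub_vec, LinearMap.sub_apply, ← e']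
    abel
  -- the middle map
  obtain ⟨i₀⟩ := ‹Nonempty α›
  set us : α → F := Pi.single i₀ 1
  have husus : us ⬝ᵥ us = 1 := by simp [us]
  set Γ : (β → F) →ₗ[F] β → F := (ctrL us).comp (X.comp (lam us)) with hΓ
  have hΓapp : ∀ v, Γ v = ctrL us (X (ten us v)) := fun v => rfl
  have hΓc : ∀ v, f₂ (Γ v) c = 0 := fun v => by
    rw [← frow_dot C.h₂, hΓapp, dot_ctrL, hperp, dotProduct_zero]
  have hmid : ∀ v, f₂ v c = 0 → ∀ u, X (ten u v) - ten u (Γ v) ∈ line α c := by
    intro v hv u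
    refine mem_line_of_ctr hc fun φ hφ => ?_
    obtain ⟨w, rfl⟩ := frow_surj C.h₂ φ
    rw [frow_dot C.h₂] at hφ
    have hwc : f₂ w c = 0 := (f_eq_zero_comm C.h₂).1 hφ
    obtain ⟨d, hd⟩ := hrel w hwc
    have hv' : ∀ u' : α → F, ctr (frow f₂ c) (ten u' v) = 0 := fun u' => by
      rw [ctr_ten, frow_dot C.h₂, hv, zero_smul]
    have e : frow f₂ w ⬝ᵥ Γ v = d ⬝ᵥ v := by
      rw [hΓapp, dot_ctrL, hd _ (hv' us), ctr_ten, dotProduct_smul, husus, smul_eq_mul, mul_one]
    rw [map_sub, hd _ (hv' u), ctr_ten, ctr_ten, e, sub_self]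
  have hmid' : ∀ z v, f₂ z c = 0 → f₂ v c = 0 → ∀ u,
      ctr (frow f₂ z) (X (ten u v)) = f₂ (Γ v) z • u := fun z v hz hv u => by
    rw [ctr_sub_line C hz (hmid v hv u), ctr_ten, frow_dot C.h₂]
  -- its rank
  have hrank : ∀ v₁ v₂, f₂ v₁ c = 0 → f₂ v₂ c = 0 →
      Γ v₁ ∉ Submodule.span F {c} ⊔ Submodule.span F {Γ v₂} →
      Γ v₂ ∉ Submodule.span F {c} ⊔ Submodule.span F {Γ v₁} → False := by
    intro v₁ v₂ hv₁ hv₂ h1 h2
    obtain ⟨φ₁, hφ₁, hφ₁'⟩ := exists_dot h1
    obtain ⟨φ₂, hφ₂, hφ₂'⟩ := exists_dot h2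
    have c1 : φ₁ ⬝ᵥ c = 0 := hφ₁ c (Submodule.mem_sup_left (Submodule.mem_span_singleton_self c))
    have c2 : φ₂ ⬝ᵥ c = 0 := hφ₂ c (Submodule.mem_sup_left (Submodule.mem_span_singleton_self c))
    have d12 : φ₁ ⬝ᵥ Γ v₂ = 0 := hφ₁ _ (Submodule.mem_sup_right (Submodule.mem_span_singleton_self _))
    have d21 : φ₂ ⬝ᵥ Γ v₁ = 0 := hφ₂ _ (Submodule.mem_sup_right (Submodule.mem_span_singleton_self _))
    let L : (α → F) × (α → F) →ₗ[F] LinearMap.range X :=
      (X.rangeRestrict).comp (((rho v₁).comp (LinearMap.fst F (α → F) (α → F))) +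
        (rho v₂).comp (LinearMap.snd F (α → F) (α → F)))
    have hinj : Function.Injective L := by
      rw [← LinearMap.ker_eq_bot, LinearMap.ker_eq_bot']
      rintro ⟨u₁, u₂⟩ hu
      have e : X (ten u₁ v₁ + ten u₂ v₂) = 0 := congrArg Subtype.val hu
      have hmem : ten u₁ (Γ v₁) + ten u₂ (Γ v₂) ∈ line α c := by
        have := Submodule.add_mem _ (hmid v₁ hv₁ u₁) (hmid v₂ hv₂ u₂)
        rw [map_add] at e
        rw [show X (ten u₁ v₁) - ten u₁ (Γ v₁) + (X (ten u₂ v₂) - ten u₂ (Γ v₂)) =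
          -(ten u₁ (Γ v₁) + ten u₂ (Γ v₂)) by linear_combination (norm := module) e] at this
        simpa using Submodule.neg_mem _ this
      have a1 := ctr_line c1 hmem
      have a2 := ctr_line c2 hmem
      rw [map_add, ctr_ten, ctr_ten, hφ₁', d12, one_smul, zero_smul, add_zero] at a1
      rw [map_add, ctr_ten, ctr_ten, hφ₂', d21, one_smul, zero_smul, zero_add] at a2
      rw [a1, a2]; rfl
    have h1' := LinearMap.finrank_le_finrank_of_injective hinj
    have h2' := finrank_range_disp g c₀ (s₀ • frow f₂ c₀)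
    rw [Module.finrank_prod, Module.finrank_fintype_fun_eq_card] at h1'
    have := Fintype.card_pos (α := α)
    rw [← hX] at h2'
    omega
  -- splitting off a shear and a transvection
  have hfinish : ∀ T : GL (α × β) F, T ∈ M → IsKron T → (∀ u, mv T (ten u c) = ten u c) →
      (∀ x, ctr (frow f₂ c) x = 0 → mv (T⁻¹ * h) x - x ∈ line α c) → IsKron h := by
    intro T hT hTk hTc hTmid
    have hk : T⁻¹ * h ∈ M := M.mul_mem (M.inv_mem hT) hh
    have hkfix : ∀ u, mv (T⁻¹ * h) (ten u c) = ten u c := fun u => by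
      rw [mv_mul, hfixh, mv_eq_iff, inv_inv, hTc]
    obtain ⟨φ, hφ, hφx⟩ := hMid c hc _ hk hkfix hTmid
    obtain ⟨v, hv⟩ := frow_surj C.h₂ φ
    have hvc : f₂ v c = 0 := by
      rw [f_eq_zero_comm C.h₂, ← frow_dot C.h₂, hv, hφ]
    obtain ⟨E, hE, hEk, hEx⟩ := exists_shear C hvc 0
    obtain ⟨s, hsx⟩ := hC c hc (E⁻¹ * (T⁻¹ * h)) (M.mul_mem (M.inv_mem hE) hk) fun x hx => by
      rw [mv_mul, mv_eq_iff, inv_inv, hφx x hx, hEx, hx, ten_zero_left, add_zero, smul_zero, zero_add, hv]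
    have : E⁻¹ * (T⁻¹ * h) = uT₂ C c s := ext_mv fun x => by rw [hsx, mv_uT₂]
    rw [show h = T * (E * (E⁻¹ * (T⁻¹ * h))) by group, this]
    exact isKron_mul hTk (isKron_mul hEk (isKron_uT₂ C c s))
  by_cases hall : ∀ v, f₂ v c = 0 → Γ v ∈ Submodule.span F {c}
  · refine hfinish 1 M.one_mem ⟨1, 1, by simp⟩ (fun u => mv_one _) fun x hx => ?_
    rw [inv_one, one_mul, hhx, add_sub_cancel_left]
    refine mem_line_of_ctr hc fun φ hφ => ?_
    obtain ⟨w, rfl⟩ := frow_surj C.h₂ φ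
    rw [frow_dot C.h₂] at hφ
    have hwc : f₂ w c = 0 := (f_eq_zero_comm C.h₂).1 hφ
    refine eq_zero_of_orth₁ C fun u => ?_
    -- adjointness moves the displacement onto the tensor
    have e := C.iso hh (mv h⁻¹ x) (ten u w)
    rw [mv_mv_inv, hhx (ten u w), hinv] at e
    obtain ⟨r, hr⟩ : ∃ r, r = X (ten u w) - ten u (Γ w) := ⟨_, rfl⟩
    have hrl : r ∈ line α c := hr ▸ hmid w hwc u
    obtain ⟨r', hr'⟩ := mem_line.1 hrl
    obtain ⟨a, ha⟩ := Submodule.mem_span_singleton.1 (hall w hwc)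
    have hXw : X (ten u w) = ten (r' + a • u) c := by
      rw [ten_add_left, hr', hr, ten_smul_left, ← ten_smul_right, ha]; abel
    rw [hXw, Orth.pol_add_right C.hQ, Orth.pol_sub_left C.hQ, C.pol_ctr, C.pol_ctr,
      C.pol_ctr, hx, f_zero_left C.h₁, add_zero] at e
    linear_combination e
  · push Not at hall
    obtain ⟨v₁, hv₁, hv₁n⟩ := hall
    set c₁ := Γ v₁ with hc₁def
    have hc₁c : f₂ c₁ c = 0 := hΓc v₁
    have hcoef : ∀ v, f₂ v c = 0 → ∃ m r : F, Γ v = m • c₁ + r • c := by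
      intro v hv
      by_contra hcon
      push Not at hcon
      refine hrank v₁ v hv₁ hv ?_ ?_
      · intro hm
        obtain ⟨y, hy, z, hz, hyz⟩ := Submodule.mem_sup.1 hm
        obtain ⟨r, rfl⟩ := Submodule.mem_span_singleton.1 hy
        obtain ⟨m, rfl⟩ := Submodule.mem_span_singleton.1 hz
        by_cases hm0 : m = 0
        · apply hv₁n
          rw [hc₁def, ← hyz, hm0, zero_smul, add_zero]
          exact Submodule.smul_mem _ r (Submodule.mem_span_singleton_self c)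
        · refine hcon m⁻¹ (-(m⁻¹ * r)) ?_
          rw [hc₁def, ← hyz, smul_add, smul_smul, smul_smul, inv_mul_cancel₀ hm0, one_smul, neg_smul]
          abel
      · intro hm
        obtain ⟨y, hy, z, hz, hyz⟩ := Submodule.mem_sup.1 hm
        obtain ⟨r, rfl⟩ := Submodule.mem_span_singleton.1 hy
        obtain ⟨m, rfl⟩ := Submodule.mem_span_singleton.1 hz
        exact hcon m r (by rw [← hyz, add_comm])
    have hskew : ∀ v w, f₂ v c = 0 → f₂ w c = 0 → f₂ (Γ v) w + f₂ v (Γ w) = 0 := by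
      intro v w hv hw
      obtain ⟨b, hb⟩ := (C.h₁.nondegenerate us (by simp [us])).2
      have hb' : f₁ us b ≠ 0 := hb
      have e1 : Orth.pol Q (X (ten us v)) (X (ten b w)) = 0 := by
        rw [disp_apply, disp_apply, C.iso hg, C.hpol, C.h₂.alternating, mul_zero]
      have e := C.iso hh (ten us v) (ten b w)
      rw [hhx, hhx, Orth.pol_add_right C.hQ, Orth.pol_add_left C.hQ, Orth.pol_add_left C.hQ, e1, add_zero,
        C.pol_ctr (X (ten us v)), hmid' w v hw hv, C.h₁.bilinear.smul_left, C.pol_ctr_left (X (ten b w)),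
        hmid' v w hv hw, C.h₁.bilinear.smul_left, C.h₁.skew b us] at e
      have e' : f₁ us b * (f₂ (Γ v) w + f₂ v (Γ w)) = 0 := by
        rw [C.h₂.skew v (Γ w)]
        linear_combination e
      exact (mul_eq_zero.1 e').resolve_left hb'
    set r₁ := f₂ v₁ c₁ with hr₁
    have heq : ∀ v (m r : F), f₂ v c = 0 → Γ v = m • c₁ + r • c → m * r₁ = f₂ v c₁ := by
      intro v m r hv hm
      have e := hskew v₁ v hv₁ hv
      rw [← hc₁def, hm, C.h₂.bilinear.add_right, C.h₂.bilinear.smul_right, C.h₂.bilinear.smul_right, hv₁,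
        mul_zero, add_zero, ← hr₁, C.h₂.skew c₁ v] at e
      linear_combination e
    obtain ⟨d, hdc⟩ := exists_pair C.h₂ hc
    have hr₁0 : r₁ ≠ 0 := by
      intro h0
      apply hv₁n
      have hmul : c₁ = f₂ d c₁ • c := by
        by_contra hne
        obtain ⟨w, hw⟩ := (C.h₂.nondegenerate (c₁ - f₂ d c₁ • c) (sub_ne_zero.2 hne)).1
        apply hw
        set w' := w - f₂ w c • d
        have hw'c : f₂ w' c = 0 := by
          rw [f_sub_left C.h₂, C.h₂.bilinear.smul_left, hdc, mul_one, sub_self]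
        obtain ⟨m, r, hm⟩ := hcoef w' hw'c
        have e1 := heq w' m r hw'c hm
        rw [h0, mul_zero, f_sub_left C.h₂, C.h₂.bilinear.smul_left] at e1
        rw [f_sub_right C.h₂, C.h₂.bilinear.smul_right]
        linear_combination -e1
      rw [hmul]
      exact Submodule.smul_mem _ _ (Submodule.mem_span_singleton_self c)
    have hmformula : ∀ v (m r : F), f₂ v c = 0 → Γ v = m • c₁ + r • c → m = r₁⁻¹ * f₂ v c₁ := by
      intro v m r hv hm
      rw [← heq v m r hv hm]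
      field_simp
    have hTc : ∀ u, mv (uT₂ C c₁ r₁⁻¹) (ten u c) = ten u c := fun u => by
      rw [mv_uT₂, ctr_ten, frow_dot C.h₂, (f_eq_zero_comm C.h₂).1 hc₁c, zero_smul, ten_zero_left,
        smul_zero, add_zero]
    refine hfinish _ (uT₂_mem C c₁ r₁⁻¹) (isKron_uT₂ C c₁ r₁⁻¹) hTc fun x hx => ?_
    -- both sides are linear and agree on tensors in the orthogonal of c
    obtain ⟨L, hL⟩ : ∃ L : (α × β → F) →ₗ[F] α × β → F,
        L = mvLin ((uT₂ C c₁ r₁⁻¹)⁻¹ * h) - LinearMap.id := ⟨_, rfl⟩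
    have hLapp : ∀ y, L y = mv ((uT₂ C c₁ r₁⁻¹)⁻¹ * h) y - y := fun y => by
      rw [hL, LinearMap.sub_apply, Matrix.toLin'_apply, LinearMap.id_apply]
    have hpure : ∀ u v, f₂ v c = 0 → L (ten u v) ∈ line α c := by
      intro u v hv
      obtain ⟨m, r, hm⟩ := hcoef v hv
      obtain ⟨r', hr'⟩ := mem_line.1 (hmid v hv u)
      rw [hLapp, mv_mul, hhx, ← sub_add_cancel (X (ten u v)) (ten u (Γ v)), ← hr', hm, ten_add_right,
        ten_smul_right, ten_smul_right, hmformula v m r hv hm]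
      refine mem_line.2 ⟨r' + r • u, ?_⟩
      rw [eq_sub_iff_add_eq, eq_comm, mv_eq_iff, inv_inv, mv_uT₂]
      simp only [map_add, ctr_ten, frow_dot C.h₂, C.h₂.alternating, (f_eq_zero_comm C.h₂).1 hc₁c,
        ten_add_left, ten_smul_left, map_smul, smul_zero, zero_smul, add_zero, zero_add]
      module
    rw [← hLapp]
    let P : (α × β → F) →ₗ[F] α × β → F := LinearMap.id - (rho d).comp (ctr (frow f₂ c))
    have hPx : P x = x := by
      show x - ten (ctr (frow f₂ c) x) d = x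
      rw [hx, ten_zero_left, sub_zero]
    rw [← hPx, eq_sum_ten x, map_sum, map_sum]
    refine Submodule.sum_mem _ fun k _ => ?_
    have hP : ∀ u w, P (ten u w) = ten u (w - f₂ w c • d) := by
      intro u w
      funext p
      simp only [P, LinearMap.sub_apply, LinearMap.id_apply, LinearMap.comp_apply, rho_apply, ctr_ten,
        frow_dot C.h₂, Pi.sub_apply, ten, Pi.smul_apply, smul_eq_mul]
      ring
    rw [hP]
    exact hpure _ _ (by rw [f_sub_left C.h₂, C.h₂.bilinear.smul_left, hdc, mul_one, sub_self])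

/-- A Kronecker conjugate of a factor transvection has a line as residual space. -/
theorem line_of_kron [Nonempty α] (hab : Fintype.card α < Fintype.card β) (C : Ctx Q f₁ f₂ M)
    {g : GL (α × β) F} (hg : g ∈ M) {c₀ : β → F} (hc₀ : c₀ ≠ 0) {s₀ : F}
    (hs0 : s₀ ≠ 0) (hk : IsKron (g * uT₂ C c₀ s₀ * g⁻¹)) :
    ∃ c', c' ≠ 0 ∧ (line α c₀).map (mvLin g) = line α c' := by
  have h00 : (s₀ • frow f₂ c₀) ⬝ᵥ c₀ = 0 := C.dot_self c₀ s₀
  have hφ0 : s₀ • frow f₂ c₀ ≠ 0 := smul_ne_zero hs0 (frow_ne_zero C.h₂ hc₀)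
  set X := disp g c₀ (s₀ • frow f₂ c₀) with hX
  obtain ⟨A, B, hAB⟩ := mv_kron_ten hk
  have hXt : ∀ u w, X (ten u w) = ten (mv A u) (mv B w) - ten u w := fun u w => by
    rw [← hAB, show mv (g * uT₂ C c₀ s₀ * g⁻¹) (ten u w) = ten u w + X (ten u w) from
      mv_conj_tT g c₀ _ h00 _, add_sub_cancel_left]
  have hdim : Module.finrank F (LinearMap.range X) ≤ Fintype.card α := finrank_range_disp g c₀ _
  -- the first factor is scalar
  have hA : ∀ u, mv A u ∈ Submodule.span F {u} := by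
    intro u
    by_contra hu
    obtain ⟨ψ, hψ, hψ'⟩ := exists_dot hu
    have hψu : ψ ⬝ᵥ u = 0 := hψ u (Submodule.mem_span_singleton_self u)
    have hinj : Function.Injective (X.rangeRestrict.comp (lam u)) := by
      rw [← LinearMap.ker_eq_bot, LinearMap.ker_eq_bot']
      intro w hw
      have e : X (ten u w) = 0 := congrArg Subtype.val hw
      rw [hXt, sub_eq_zero] at e
      have := congrArg (ctrL ψ) e
      rw [ctrL_ten, ctrL_ten, hψ', hψu, one_smul, zero_smul] at this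
      exact mv_inj B (this.trans (mv_zero B).symm)
    have := LinearMap.finrank_le_finrank_of_injective hinj
    rw [Module.finrank_fintype_fun_eq_card] at this
    omega
  obtain ⟨i₀⟩ := ‹Nonempty α›
  set e₀ : α → F := Pi.single i₀ 1
  have he₀ : e₀ ≠ 0 := by simp [e₀]
  obtain ⟨r, hr⟩ := Submodule.mem_span_singleton.1 (hA e₀)
  have hAr : ∀ u, mv A u = r • u := by
    intro u
    by_cases hu : u ∈ Submodule.span F {e₀}
    · obtain ⟨b, rfl⟩ := Submodule.mem_span_singleton.1 hu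
      rw [mv_smul, ← hr, smul_comm]
    · obtain ⟨t, ht⟩ := Submodule.mem_span_singleton.1 (hA u)
      obtain ⟨s, hs⟩ := Submodule.mem_span_singleton.1 (hA (e₀ + u))
      rw [mv_add, ← hr, ← ht, smul_add] at hs
      have e1 : (s - t) • u = (r - s) • e₀ := by
        rw [sub_smul, sub_smul, sub_eq_sub_iff_add_eq_add, add_comm (s • u), hs]
      have hst : s = t := by
        by_contra h
        exact hu (Submodule.mem_span_singleton.2 ⟨(s - t)⁻¹ * (r - s), by
          rw [mul_smul, ← e1, smul_smul, inv_mul_cancel₀ (sub_ne_zero.2 h), one_smul]⟩)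
      rw [hst, sub_self, zero_smul, eq_comm, smul_eq_zero, sub_eq_zero] at e1
      rw [← ht, e1.resolve_right he₀]
  set Γ : (β → F) →ₗ[F] β → F := r • mvLin B - LinearMap.id
  have hXΓ : ∀ u w, X (ten u w) = ten u (Γ w) := fun u w => by
    rw [hXt, hAr]
    funext p
    simp [Γ, ten, mv]
    ring
  have hrange : LinearMap.range X = (line α c₀).map (mvLin g) := range_disp g c₀ hφ0
  have hdim' : Module.finrank F ((line α c₀).map (mvLin g)) = Fintype.card α := by
    rw [TensorMax.finrank_map_mv, finrank_line hc₀]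
  obtain ⟨w₀, hw₀⟩ : ∃ w₀, Γ w₀ ≠ 0 := by
    by_contra hcon
    push Not at hcon
    have : X = 0 := ext_ten fun u w => by rw [hXΓ, hcon, ten_zero_right, LinearMap.zero_apply]
    rw [← hrange, this, LinearMap.range_zero, finrank_bot] at hdim'
    have := Fintype.card_pos (α := α)
    omega
  have hle : line α (Γ w₀) ≤ LinearMap.range X := by
    intro x hx
    obtain ⟨u, rfl⟩ := mem_line.1 hx
    exact ⟨ten u w₀, hXΓ u w₀⟩
  have heq : line α (Γ w₀) = (line α c₀).map (mvLin g) := by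
    rw [← hrange]
    exact Submodule.eq_of_le_of_finrank_le hle (by rw [finrank_line hw₀]; exact hdim)
  exact ⟨Γ w₀, hw₀, heq.symm⟩

/-- A member sends a line to a line as soon as it sends an orthogonal one to a line. -/
theorem line_step [Nonempty α] (hab : Fintype.card α < Fintype.card β) (C : Ctx Q f₁ f₂ M)
    (hC : CentreScalar f₂ M) (hMid : MiddleScalar f₂ M) {g : GL (α × β) F} (hg : g ∈ M) {c c' w : β → F}
    (hc' : c' ≠ 0) (hmap : (line α c).map (mvLin g) = line α c')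
    (hw0 : w ≠ 0) (hwc : f₂ w c = 0) :
    ∃ w', w' ≠ 0 ∧ (line α w).map (mvLin g) = line α w' := by
  refine line_of_kron hab C hg hw0 one_ne_zero (kron_of_fix C hC hMid hg hc' fun u => ?_)
  obtain ⟨y, hy, hye⟩ : ten u c' ∈ (line α c).map (mvLin g) := hmap ▸ ten_mem_line u c'
  obtain ⟨v, rfl⟩ := mem_line.1 hy
  rw [disp_apply, ← hye, Matrix.toLin'_apply]
  show mv g (ten (ctr _ (mv g⁻¹ (mv g (ten v c)))) w) = 0
  rw [mv_inv_mv, ctr_ten, smul_dotProduct, frow_dot C.h₂, (f_eq_zero_comm C.h₂).1 hwc, smul_zero,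
    zero_smul, ten_zero_left, mv_zero]

/-- A member sending one line to a line is a Kronecker product. -/
theorem kron_of_line [Nonempty α] (hab : Fintype.card α < Fintype.card β) (hb : 6 ≤ Fintype.card β)
    (C : Ctx Q f₁ f₂ M) (hC : CentreScalar f₂ M) (hMid : MiddleScalar f₂ M) {g : GL (α × β) F} (hg : g ∈ M)
    {c₀ c₁ : β → F} (hc₀ : c₀ ≠ 0) (hc₁ : c₁ ≠ 0) (hmap : (line α c₀).map (mvLin g) = line α c₁) :
    IsKron g := by
  have : Nonempty β := Fintype.card_pos_iff.1 (by omega)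
  refine isKron_of_lines fun w hw0 => ?_
  set P := Submodule.span F ({c₀, w} : Set (β → F))
  obtain ⟨z, hzP, hz⟩ := exists_perp_out C.h₂ (P := P) (by
    have : Module.finrank F P ≤ 2 := finrank_span_le_two c₀ w; omega)
  have hzc : f₂ z c₀ = 0 := (f_eq_zero_comm C.h₂).1 (hz c₀ (Submodule.subset_span (Set.mem_insert _ _)))
  have hwz : f₂ w z = 0 := hz w (Submodule.subset_span (Set.mem_insert_of_mem _ rfl))
  have hz0 : z ≠ 0 := fun h => hzP (h ▸ P.zero_mem)
  obtain ⟨z', hz'0, hzmap⟩ := line_step hab C hC hMid hg hc₁ hmap hz0 hzc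
  exact line_step hab C hC hMid hg hz'0 hzmap hw0 hwz

/-- A member whose conjugate of a factor transvection is Kronecker is itself Kronecker. -/
theorem kron_of_conj [Nonempty α] (hab : Fintype.card α < Fintype.card β) (hb : 6 ≤ Fintype.card β)
    (C : Ctx Q f₁ f₂ M) (hC : CentreScalar f₂ M) (hMid : MiddleScalar f₂ M) {g : GL (α × β) F}
    (hg : g ∈ M) {c : β → F} (hc : c ≠ 0) {s : F} (hs0 : s ≠ 0)
    (hk : IsKron (g * uT₂ C c s * g⁻¹)) : IsKron g := by
  obtain ⟨c', hc', hmap⟩ := line_of_kron hab C hg hc hs0 hk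
  exact kron_of_line hab hb C hC hMid hg hc hc' hmap

end Cfsg.Agent.TensorMax.S
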