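/-
When centres and middles are scalar every member is a Kronecker product.
-/
import Cfsg.Agent.Lib.TensorMax.SLine
import Cfsg.Agent.Lib.TensorMax.UMeet

set_option autoImplicit false
set_option linter.unusedSectionVars false

namespace Cfsg.Agent.TensorMax.S

open scoped Matrix Kronecker
open Matrix Cfsg.Agent.Transvec
open Cfsg.Agent.TensorMax.U (kr mv_kr_ten isKron_kr isKron_mul isKron_inv mv_kron_ten ext_ten_mv frow
  meetDim exists_eigen)

variable {α β : Type} [Fintype α] [DecidableEq α] [Fintype β] [DecidableEq β] {F : Type*} [Field F]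
variable {Q : (α × β → F) → F} {f₁ : (α → F) → (α → F) → F} {f₂ : (β → F) → (β → F) → F}
variable {M : Subgroup (GL (α × β) F)}

/-- The meet is as large as it can be among members that are not Kronecker products. -/
def MaxMeet (M : Subgroup (GL (α × β) F)) (J : ℕ) : Prop :=
  ∀ g ∈ M, ¬ IsKron g → ∀ c₀ c : β → F, c₀ ≠ 0 → c ≠ 0 → meetDim g c₀ c ≤ J

theorem image_singular (C : Ctx Q f₁ f₂ M) {g : GL (α × β) F} (hg : g ∈ M) {c₀ : β → F}
    {x y : α × β → F} (hx : x ∈ (line α c₀).map (mvLin g))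
    (hy : y ∈ (line α c₀).map (mvLin g)) : Orth.pol Q x y = 0 := by
  obtain ⟨x', hx', rfl⟩ := mem_map_mv.1 hx
  obtain ⟨y', hy', rfl⟩ := mem_map_mv.1 hy
  obtain ⟨u, rfl⟩ := mem_line.1 hx'
  obtain ⟨v, rfl⟩ := mem_line.1 hy'
  rw [C.iso hg, C.hpol, C.h₂.alternating, mul_zero]

/-- In a maximal meet the only image vectors orthogonal to the line lie on it. -/
theorem perp_in_line [Nonempty α] (hab : Fintype.card α < Fintype.card β) (hb : 6 ≤ Fintype.card β)
    (C : Ctx Q f₁ f₂ M) (hC : CentreScalar f₂ M) (hMid : MiddleScalar f₂ M) {J : ℕ}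
    (hJ : MaxMeet M J) {g : GL (α × β) F} (hg : g ∈ M) (hnk : ¬ IsKron g) {c₀ c : β → F}
    (hc₀ : c₀ ≠ 0) (hc : c ≠ 0) (hm : J ≤ meetDim g c₀ c)
    {x : α × β → F} (hx : x ∈ (line α c₀).map (mvLin g)) (hxc : ctr (frow f₂ c) x = 0) :
    x ∈ line α c := by
  by_contra hxl
  set t := uT₂ C c 1 with ht
  have hg' : g⁻¹ * t * g⁻¹⁻¹ ∈ M := by
    rw [inv_inv]
    exact M.mul_mem (M.mul_mem (M.inv_mem hg) (uT₂_mem C c 1)) hg
  by_cases hk : IsKron (g⁻¹ * t * g⁻¹⁻¹)
  · exact hnk (by simpa using isKron_inv (kron_of_conj hab hb C hC hMid (M.inv_mem hg) hc one_ne_zero hk))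
  have hle := hJ _ hg' hk c₀ c₀ hc₀ hc₀
  set K := (line α c₀).map (mvLin g) ⊓ LinearMap.ker (ctr (α := α) (frow f₂ c)) with hK
  have hlp : line α c ≤ LinearMap.ker (ctr (frow f₂ c)) := fun y hy =>
    LinearMap.mem_ker.2 (ctr_line (by rw [frow_dot C.h₂, C.h₂.alternating]) hy)
  have hlt : meetDim g c₀ c < Module.finrank F K := by
    refine Submodule.finrank_lt_finrank_of_lt (lt_of_le_of_ne (inf_le_inf_left _ hlp) fun he => hxl ?_)
    have hxK : x ∈ (line α c₀).map (mvLin g) ⊓ LinearMap.ker (ctr (α := α) (frow f₂ c)) :=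
      ⟨hx, LinearMap.mem_ker.2 hxc⟩
    exact (he.symm.le hxK).2
  have hsub : K.map (mvLin g⁻¹) ≤
      (line α c₀).map (mvLin (g⁻¹ * t * g⁻¹⁻¹)) ⊓ line α c₀ := by
    intro y hy
    obtain ⟨z, ⟨hz, hzp⟩, rfl⟩ := mem_map_mv.1 hy
    obtain ⟨z', hz', rfl⟩ := mem_map_mv.1 hz
    refine ⟨mem_map_mv.2 ⟨z', hz', ?_⟩, by rw [mv_inv_mv]; exact hz'⟩
    rw [mv_mul, mv_mul, inv_inv, ht, mv_uT₂, LinearMap.mem_ker.1 hzp, ten_zero_left, smul_zero, add_zero]
  have := (Submodule.finrank_mono hsub).trans hle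
  rw [TensorMax.finrank_map_mv] at this
  omega

/-- A linear pencil of small matrices in many variables is singular somewhere. -/
theorem exists_det_zero [Fintype F] {κ δ : Type} [Fintype κ] [DecidableEq κ] [Fintype δ] [DecidableEq δ]
    [Nonempty δ] (A : κ → Matrix δ δ F) (hcard : Fintype.card δ < Fintype.card κ) :
    ∃ x : κ → F, x ≠ 0 ∧ (∑ k, x k • A k).det = 0 := by
  classical
  set H : Matrix δ δ (MvPolynomial κ F) :=
    Matrix.of fun i j => ∑ k, MvPolynomial.C (A k i j) * MvPolynomial.X k with hH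
  have hdeg : H.det.totalDegree ≤ Fintype.card δ := by
    rw [Matrix.det_apply]
    refine MvPolynomial.totalDegree_finsetSum_le fun π _ =>
      (MvPolynomial.totalDegree_smul_le _ _).trans ?_
    refine (MvPolynomial.totalDegree_finsetProd _ _).trans ?_
    refine (Finset.sum_le_card_nsmul _ _ 1 fun i _ => ?_).trans (by simp)
    simp only [hH, Matrix.of_apply]
    refine MvPolynomial.totalDegree_finsetSum_le fun k _ => (MvPolynomial.totalDegree_mul _ _).trans ?_
    rw [MvPolynomial.totalDegree_C, MvPolynomial.totalDegree_X]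
  obtain ⟨p, hp⟩ := CharP.exists F
  have hdvd := char_dvd_card_solutions p (f := H.det) (hdeg.trans_lt hcard)
  have hval : ∀ x : κ → F, MvPolynomial.eval x H.det = (∑ k, x k • A k).det := by
    intro x
    rw [RingHom.map_det]
    congr 1
    funext i j
    simp [hH, Matrix.sum_apply, mul_comm]
  have h0 : MvPolynomial.eval (0 : κ → F) H.det = 0 := by
    rw [hval]
    simp only [Pi.zero_apply, zero_smul, Finset.sum_const_zero]
    exact Matrix.det_zero
  have hpos : 0 < Fintype.card {x : κ → F // MvPolynomial.eval x H.det = 0} :=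
    Fintype.card_pos_iff.2 ⟨⟨0, h0⟩⟩
  obtain ⟨⟨x, hx⟩, hne⟩ := Fintype.exists_ne_of_one_lt_card
    ((CharP.char_is_prime F p).one_lt.trans_le (Nat.le_of_dvd hpos hdvd)) ⟨0, h0⟩
  exact ⟨x, fun h => hne (Subtype.ext h), (hval x).symm.trans hx⟩

/-- A shear sending some image vector into the orthogonal of the image. -/
theorem exists_good_shear [Nonempty α] [Fintype F] (hab : Fintype.card α + 2 ≤ Fintype.card β)
    (C : Ctx Q f₁ f₂ M) {g : GL (α × β) F} (hg : g ∈ M) {c₀ c d₀ : β → F} (hdc : f₂ d₀ c = 1)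
    (hnl : ∃ x ∈ (line α c₀).map (mvLin g), ctr (frow f₂ c) x ≠ 0)
    (hI : ∀ x ∈ (line α c₀).map (mvLin g), ctr (frow f₂ c) x = 0 → x ∈ line α c) :
    ∃ (E : GL (α × β) F) (w : β → F) (l : F) (y : α × β → F),
      E ∈ M ∧ IsKron E ∧ f₂ w c = 0 ∧ f₂ w d₀ = 0 ∧ (w ≠ 0 ∨ l ≠ 0) ∧
      (∀ x, mv E x = x + (ten (ctr (frow f₂ c) x) w +
        ten (l • ctr (frow f₂ c) x + ctr (frow f₂ w) x) c)) ∧
      y ∈ (line α c₀).map (mvLin g) ∧ ctr (frow f₂ c) y ≠ 0 ∧
      ∀ z ∈ (line α c₀).map (mvLin g), Orth.pol Q (mv E y) z = 0 := by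
  classical
  set R' := (line α c₀).map (mvLin g) with hR'
  set p := (ctr (frow f₂ c) : (α × β → F) →ₗ[F] α → F) with hp
  -- a basis of the image in the first factor
  set S := R'.map p with hS
  set d := Module.finrank F S with hd
  let bS := Module.finBasis F S
  have hb' : ∀ i : Fin d, ∃ y ∈ R', p y = (bS i : α → F) := fun i => Submodule.mem_map.1 (bS i).2
  choose y hyR hy using hb'
  have hd0 : 0 < d := by
    obtain ⟨x, hx, hxne⟩ := hnl
    refine Nat.pos_of_ne_zero fun h => hxne ?_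
    have hbot : S = ⊥ := Submodule.finrank_eq_zero.1 h
    have : p x ∈ S := Submodule.mem_map.2 ⟨x, hx, rfl⟩
    rwa [hbot, Submodule.mem_bot] at this
  have hdα : d ≤ Fintype.card α := (Submodule.finrank_le S).trans (Module.finrank_fintype_fun_eq_card F).le
  -- coordinates on the orthogonal of the plane
  let T : (β → F) →ₗ[F] F × F := LinearMap.prod (formR C.h₂ c) (formR C.h₂ d₀)
  set W := LinearMap.ker T with hW
  have hsum : Fintype.card β ≤ Module.finrank F W + 2 := by
    have h1 := LinearMap.finrank_range_add_finrank_ker T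
    have h2 := Submodule.finrank_le (LinearMap.range T)
    rw [Module.finrank_prod, Module.finrank_self] at h2
    rw [Module.finrank_fintype_fun_eq_card, ← hW] at h1
    omega
  let bW := Module.finBasis F W
  let e : Fin (Module.finrank F W) ⊕ Unit → β → F :=
    Sum.elim (fun i => (bW i : β → F)) fun _ => 0
  let r : Fin (Module.finrank F W) ⊕ Unit → F := Sum.elim (fun _ => 0) fun _ => 1
  let bf : (Fin (Module.finrank F W) ⊕ Unit) → (α × β → F) → (α × β → F) → F := fun k a b =>
    -f₁ (p a) (ctr (frow f₂ (e k)) b) - r k * f₁ (p a) (p b) - f₁ (ctr (frow f₂ (e k)) a) (p b)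
  let A : (Fin (Module.finrank F W) ⊕ Unit) → Matrix (Fin d) (Fin d) F := fun k =>
    Matrix.of fun i j => bf k (y i) (y j)
  have : Nonempty (Fin d) := ⟨⟨0, hd0⟩⟩
  obtain ⟨x, hx0, hdet⟩ := exists_det_zero A
    (by simp only [Fintype.card_sum, Fintype.card_fin, Fintype.card_unit]; omega)
  obtain ⟨ξ, hξ, hGξ⟩ := Matrix.exists_mulVec_eq_zero_iff.2 hdet
  set w : β → F := ∑ k, x k • e k with hw
  set l : F := ∑ k, x k * r k with hl
  have hel : l = x (Sum.inr ()) := by
    rw [hl, Fintype.sum_sum_type]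
    simp [r]
  have heW : ∀ k, e k ∈ W := by
    rintro (i | k)
    · exact (bW i).2
    · exact W.zero_mem
  have hwW : T w = 0 := LinearMap.mem_ker.1 (W.sum_mem fun k _ => W.smul_mem _ (heW k))
  have hwc : f₂ w c = 0 := congrArg Prod.fst hwW
  have hwd : f₂ w d₀ = 0 := congrArg Prod.snd hwW
  have hne : w ≠ 0 ∨ l ≠ 0 := by
    by_contra hcon
    push Not at hcon
    apply hx0
    have hinr : x (Sum.inr ()) = 0 := hel ▸ hcon.2
    have hlin : ∑ i, x (Sum.inl i) • bW i = 0 := by
      apply Subtype.ext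
      rw [Submodule.coe_sum, Submodule.coe_zero]
      refine Eq.trans ?_ hcon.1
      rw [hw, Fintype.sum_sum_type]
      simp [e, Submodule.coe_smul]
    funext k
    rcases k with i | k
    · exact Fintype.linearIndependent_iff.1 bW.linearIndependent _ hlin i
    · exact hinr
  have hctr : ∀ z : α × β → F, ctr (frow f₂ w) z = ∑ k, x k • ctr (frow f₂ (e k)) z := by
    intro z
    have e1 : frow f₂ w = ∑ k, x k • frow f₂ (e k) := by
      funext j
      show f₂ (Pi.single j 1) w = _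
      rw [hw, f_sum_right C.h₂, Finset.sum_apply]
      exact Finset.sum_congr rfl fun k _ => C.h₂.bilinear.smul_right _ _ _
    rw [e1]
    funext i
    simp only [ctr_apply, Finset.sum_apply, Pi.smul_apply, smul_eq_mul, Finset.mul_sum]
    rw [Finset.sum_comm]
    exact Finset.sum_congr rfl fun k _ => Finset.sum_congr rfl fun m _ => by ring
  obtain ⟨E, hE, hEk, hEx⟩ := exists_shear C hwc l
  have hEx' : ∀ z, mv E z = z + (ten (p z) w + ten (l • p z + ctr (frow f₂ w) z) c) := fun z => by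
    rw [hEx, add_assoc]
  set ys : α × β → F := ∑ j, ξ j • y j with hys
  have hysR : ys ∈ R' := R'.sum_mem fun j _ => R'.smul_mem _ (hyR j)
  have hpys : p ys ≠ 0 := by
    intro h
    apply hξ
    have h' : ∑ j, ξ j • bS j = 0 := by
      apply Subtype.ext
      rw [Submodule.coe_sum, Submodule.coe_zero]
      refine Eq.trans ?_ h
      rw [hys, map_sum]
      exact Finset.sum_congr rfl fun j _ => by rw [map_smul, hy]; rfl
    funext j
    exact Fintype.linearIndependent_iff.1 bS.linearIndependent _ h' j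
  refine ⟨E, w, l, ys, hE, hEk, hwc, hwd, hne, hEx', hysR, hpys, ?_⟩
  intro z hz
  obtain ⟨B, hB⟩ : ∃ B : (α × β → F) → (α × β → F) → F, ∀ a b, B a b =
      -f₁ (p a) (ctr (frow f₂ w) b) - l * f₁ (p a) (p b) - f₁ (ctr (frow f₂ w) a) (p b) :=
    ⟨_, fun _ _ => rfl⟩
  have hskew : ∀ a b, B a b = -B b a := by
    intro a b
    rw [hB, hB, C.h₁.skew (p a) (ctr (frow f₂ w) b), C.h₁.skew (p a) (p b),
      C.h₁.skew (ctr (frow f₂ w) a) (p b)]
    ring
  have hdisp : ∀ a b, Orth.pol Q (ten (p a) w + ten (l • p a + ctr (frow f₂ w) a) c) b = B a b := by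
    intro a b
    rw [hB, Orth.pol_add_left C.hQ, C.pol_ctr_left, C.pol_ctr_left, C.h₁.bilinear.add_right,
      C.h₁.bilinear.smul_right, C.h₁.skew (p a) (ctr (frow f₂ w) b), C.h₁.skew (p a) (p b),
      C.h₁.skew (ctr (frow f₂ w) a) (p b)]
    simp only [hp]
    ring
  -- the kernel vector
  have hker : ∀ i, B (y i) ys = 0 := by
    intro i
    have h := congrFun hGξ i
    simp only [Matrix.mulVec, dotProduct, Matrix.sum_apply, Matrix.smul_apply, A, bf, Matrix.of_apply,
      smul_eq_mul, Pi.zero_apply] at h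
    rw [← h, hB, hys, map_sum, map_sum, f_sum_right C.h₁, f_sum_right C.h₁, f_sum_right C.h₁,
      Finset.mul_sum, ← Finset.sum_neg_distrib, ← Finset.sum_sub_distrib, ← Finset.sum_sub_distrib]
    refine Finset.sum_congr rfl fun j _ => ?_
    rw [map_smul, map_smul, C.h₁.bilinear.smul_right, C.h₁.bilinear.smul_right, C.h₁.bilinear.smul_right,
      hctr, hctr, f_sum_left C.h₁, f_sum_right C.h₁, hl]
    simp only [Finset.sum_mul, Finset.mul_sum, ← Finset.sum_neg_distrib, ← Finset.sum_sub_distrib]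
    refine Finset.sum_congr rfl fun k _ => ?_
    rw [C.h₁.bilinear.smul_right, C.h₁.bilinear.smul_left]
    ring
  have hzB : B z ys = 0 := by
    obtain ⟨ζ, hζ⟩ : ∃ ζ : Fin d → F, p z = ∑ j, ζ j • p (y j) := by
      refine ⟨fun j => bS.repr ⟨p z, Submodule.mem_map.2 ⟨z, hz, rfl⟩⟩ j, ?_⟩
      have := congrArg Subtype.val (bS.sum_repr ⟨p z, Submodule.mem_map.2 ⟨z, hz, rfl⟩⟩)
      rw [Submodule.coe_sum] at this
      refine this.symm.trans (Finset.sum_congr rfl fun j _ => ?_)
      rw [hy]; rfl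
    set z₀ := z - ∑ j, ζ j • y j with hz₀
    have hz₀R : z₀ ∈ R' := R'.sub_mem hz (R'.sum_mem fun j _ => R'.smul_mem _ (hyR j))
    have hpz₀ : p z₀ = 0 := by
      rw [hz₀, map_sub, map_sum, hζ, sub_eq_zero]
      exact Finset.sum_congr rfl fun j _ => (map_smul p _ _).symm
    have hlin : ∀ (a b : α × β → F) (t : F), B (a + t • b) ys = B a ys + t * B b ys := by
      intro a b t
      simp only [hB, map_add, map_smul, C.h₁.bilinear.add_left, C.h₁.bilinear.smul_left]
      ring
    have hsumB : ∀ s : Finset (Fin d), B (z₀ + ∑ j ∈ s, ζ j • y j) ys = B z₀ ys := by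
      intro s
      induction s using Finset.induction_on with
      | empty => rw [Finset.sum_empty, add_zero]
      | insert a s ha ih =>
        rw [Finset.sum_insert ha, add_comm (ζ a • y a), ← add_assoc, hlin, ih, hker, mul_zero, add_zero]
    have hz₀B : B z₀ ys = -f₁ (ctr (frow f₂ w) z₀) (p ys) := by
      rw [hB, hpz₀, f_zero_left C.h₁, f_zero_left C.h₁]
      ring
    rw [show z = z₀ + ∑ j, ζ j • y j by rw [hz₀, sub_add_cancel], hsumB, hz₀B,
      ctr_line (φ := frow f₂ w) (by rw [frow_dot C.h₂]; exact (f_eq_zero_comm C.h₂).1 hwc) (hI z₀ hz₀R hpz₀),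
      f_zero_left C.h₁, neg_zero]
  rw [hEx', Orth.pol_add_left C.hQ, image_singular C hg hysR hz, zero_add, hdisp, hskew, hzB, neg_zero]


/-- When centres and middles are scalar every member is a Kronecker product. -/
theorem all_kron [Nonempty α] [Fintype F] (hab : Fintype.card α + 2 ≤ Fintype.card β)
    (hb : 6 ≤ Fintype.card β) (C : Ctx Q f₁ f₂ M) (hC : CentreScalar f₂ M) (hMid : MiddleScalar f₂ M)
    {g : GL (α × β) F} (hg : g ∈ M) : IsKron g := by
  classical
  by_contra hnk₁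
  have hlt : Fintype.card α < Fintype.card β := by omega
  have : Nonempty β := Fintype.card_pos_iff.1 (by omega)
  obtain ⟨k₀⟩ := ‹Nonempty β›
  set cc : β → F := Pi.single k₀ 1
  have hcc0 : cc ≠ 0 := by simp [cc]
  let P : ℕ → Prop := fun J => ∃ g ∈ M, ¬ IsKron g ∧ ∃ c₀ c : β → F,
    c₀ ≠ 0 ∧ c ≠ 0 ∧ meetDim g c₀ c = J
  have hbound : ∀ J, P J → J ≤ Fintype.card α := by
    rintro J ⟨g, -, -, c₀, c, -, hc, rfl⟩
    exact (Submodule.finrank_mono inf_le_right).trans (finrank_line hc).le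
  have hne : P (meetDim g cc cc) := ⟨g, hg, hnk₁, cc, cc, hcc0, hcc0, rfl⟩
  have hspec := Nat.findGreatest_spec (P := P) (hbound _ hne) hne
  set J := Nat.findGreatest P (Fintype.card α) with hJdef
  have hJ : MaxMeet M J := fun g hg hnk c₀ c hc₀ hc =>
    Nat.le_findGreatest (hbound _ ⟨g, hg, hnk, c₀, c, hc₀, hc, rfl⟩) ⟨g, hg, hnk, c₀, c, hc₀, hc, rfl⟩
  clear hnk₁ hne hg g
  obtain ⟨g, hg, hnk, c₀, c, hc₀, hc, hm⟩ := hspec
  set R' := (line α c₀).map (mvLin g) with hR'
  have hI : ∀ x ∈ R', ctr (frow f₂ c) x = 0 → x ∈ line α c :=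
    fun x hx hxc => perp_in_line hlt hb C hC hMid hJ hg hnk hc₀ hc hm.ge hx hxc
  have hnl : ∃ x ∈ R', ctr (frow f₂ c) x ≠ 0 := by
    by_contra hcon
    push Not at hcon
    refine hnk (kron_of_line hlt hb C hC hMid hg hc₀ hc
      (Submodule.eq_of_le_of_finrank_le (fun x hx => hI x hx (hcon x hx)) ?_))
    rw [TensorMax.finrank_map_mv, finrank_line hc₀, finrank_line hc]
  obtain ⟨d₀, hdc⟩ := exists_pair C.h₂ hc
  obtain ⟨E, w, l, y, hE, hEk, hwc, hwd, hwl, hEx, hy, hpy, hperp⟩ :=
    exists_good_shear hab C hg hdc hnl hI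
  -- the shear fixes the common part
  have hfix : ∀ x ∈ line α c, mv E x = x := by
    intro x hx
    rw [hEx, ctr_line (φ := frow f₂ c) (by rw [frow_dot C.h₂, C.h₂.alternating]) hx,
      ctr_line (φ := frow f₂ w) (by rw [frow_dot C.h₂]; exact (f_eq_zero_comm C.h₂).1 hwc) hx,
      ten_zero_left, smul_zero, add_zero, ten_zero_left, add_zero, add_zero]
  have hpE : ∀ x, ctr (frow f₂ c) (mv E x) = ctr (frow f₂ c) x := by
    intro x
    rw [hEx, map_add, map_add, ctr_ten, ctr_ten, frow_dot C.h₂, frow_dot C.h₂, hwc, C.h₂.alternating,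
      zero_smul, zero_smul, add_zero, add_zero]
  have hqE : ∀ x, ctr (frow f₂ w) (mv E x) = ctr (frow f₂ w) x := by
    intro x
    rw [hEx, map_add, map_add, ctr_ten, ctr_ten, frow_dot C.h₂, frow_dot C.h₂, C.h₂.alternating,
      (f_eq_zero_comm C.h₂).1 hwc, zero_smul, zero_smul, add_zero, add_zero]
  set g' := g⁻¹ * E * g with hg'def
  have hg' : g' ∈ M := M.mul_mem (M.mul_mem (M.inv_mem hg) hE) hg
  have hmem : mv g⁻¹ (mv E y) ∈ (line α c₀).map (mvLin g') := by
    obtain ⟨z, hz, rfl⟩ := mem_map_mv.1 hy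
    exact mem_map_mv.2 ⟨z, hz, by rw [hg'def, mv_mul, mv_mul]⟩
  have hperp' : ctr (frow f₂ c₀) (mv g⁻¹ (mv E y)) = 0 := ctr_eq_zero_of_orth C fun u => by
    rw [← C.iso hg, mv_mv_inv]
    exact hperp _ (mem_map_mv.2 ⟨_, ten_mem_line _ _, rfl⟩)
  set Y := (R' ⊓ line α c).map (mvLin g⁻¹) with hY
  have hYsub : Y ≤ (line α c₀).map (mvLin g') ⊓ line α c₀ := by
    intro x hx
    obtain ⟨z, ⟨hz, hzc⟩, rfl⟩ := mem_map_mv.1 hx
    obtain ⟨z', hz', rfl⟩ := mem_map_mv.1 hz
    refine ⟨mem_map_mv.2 ⟨z', hz', ?_⟩, by rw [mv_inv_mv]; exact hz'⟩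
    rw [hg'def, mv_mul, mv_mul, hfix _ hzc]
  have hYdim : Module.finrank F Y = J := by
    rw [hY, TensorMax.finrank_map_mv]; exact hm
  by_cases hk' : IsKron g'
  · obtain ⟨A, B, hAB⟩ := mv_kron_ten hk'
    set c'' := mv B c₀ with hc''
    have hc''0 : c'' ≠ 0 := fun h => hc₀ (mv_inj B (h.trans (mv_zero B).symm))
    have himg : (line α c₀).map (mvLin g') = line α c'' := by
      refine Submodule.eq_of_le_of_finrank_le (fun x hx => ?_) (by
        rw [TensorMax.finrank_map_mv, finrank_line hc₀, finrank_line hc''0])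
      obtain ⟨z, hz, rfl⟩ := mem_map_mv.1 hx
      obtain ⟨u, rfl⟩ := mem_line.1 hz
      rw [hAB]
      exact ten_mem_line _ _
    by_cases hdep : c'' ∈ Submodule.span F {c₀}
    · -- the shear stabilises the image
      have hle : line α c'' ≤ line α c₀ := by
        intro x hx
        obtain ⟨a, ha⟩ := Submodule.mem_span_singleton.1 hdep
        obtain ⟨u, rfl⟩ := mem_line.1 hx
        rw [← ha, ten_smul_right]
        exact Submodule.smul_mem _ _ (ten_mem_line _ _)
      have hEy : mv E y ∈ R' := by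
        have := hle (himg ▸ hmem)
        exact mem_map_mv.2 ⟨_, this, by rw [mv_mv_inv]⟩
      have hd : mv E y - y ∈ line α c :=
        hI _ (R'.sub_mem hEy hy) (by rw [map_sub, hpE, sub_self])
      rw [hEx, add_sub_cancel_left] at hd
      have hw0 : w = 0 := by
        by_contra hw0
        obtain ⟨v, hv⟩ := (C.h₂.nondegenerate w hw0).2
        apply hv
        set v' := v - f₂ v c • d₀
        have hv'c : f₂ v' c = 0 := by
          rw [f_sub_left C.h₂, C.h₂.bilinear.smul_left, hdc, mul_one, sub_self]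
        have e := ctr_line (φ := frow f₂ v')
          (by rw [frow_dot C.h₂]; exact (f_eq_zero_comm C.h₂).1 hv'c) hd
        rw [map_add, ctr_ten, ctr_ten, frow_dot C.h₂, frow_dot C.h₂,
          (f_eq_zero_comm C.h₂).1 hv'c, zero_smul, add_zero, smul_eq_zero] at e
        have e' := e.resolve_right hpy
        rw [f_sub_right C.h₂, C.h₂.bilinear.smul_right, hwd, mul_zero, sub_zero] at e'
        exact e'
      have hl0 : l ≠ 0 := hwl.resolve_left (fun h => h hw0)
      have hEu : E = uT₂ C c l := ext_mv fun x => by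
        rw [hEx, hw0, ten_zero_right, zero_add, mv_uT₂, ten_add_left, ten_smul_left]
        rw [show (frow f₂ (0 : β → F)) = 0 from funext fun k => f_zero_right C.h₂ _, ctr_zero_vec,
          LinearMap.zero_apply, ten_zero_left, add_zero]
      rw [hg'def, hEu] at hk'
      exact hnk (by
        simpa using isKron_inv (kron_of_conj hlt hb C hC hMid (M.inv_mem hg) hc hl0 (by rwa [inv_inv])))
    · -- the meets are trivial
      have hbot : ∀ x ∈ Y, x = 0 := by
        intro x hx
        by_contra hx0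
        obtain ⟨h1, h2⟩ := hYsub hx
        rw [himg] at h1
        have e := line_eq_of_mem hx0 h1 h2
        obtain ⟨i₀⟩ := ‹Nonempty α›
        obtain ⟨u, hu⟩ := mem_line.1 (show ten (Pi.single i₀ (1 : F)) c'' ∈ line α c₀ from
          e ▸ ten_mem_line _ _)
        apply hdep
        have := congrFun (congrArg (ctrL (Pi.single i₀ (1 : F))) hu)
        rw [ctrL_ten, ctrL_ten] at this
        simp only [single_dotProduct, Pi.single_eq_same, one_mul, one_smul] at this
        exact Submodule.mem_span_singleton.2 ⟨u i₀, funext this⟩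
      have hJ0 : J = 0 := by
        rw [← hYdim, Submodule.finrank_eq_zero]
        exact eq_bot_iff.2 hbot
      have hsqE : ∀ x, mv E (mv E x) - mv E x = mv E x - x := by
        intro x
        rw [hEx (mv E x), hpE, hqE, add_sub_cancel_left, hEx x, add_sub_cancel_left]
      have hsq : ∀ u, ten u c₀ + ten (mv A (mv A u)) (mv B c'') = (2 : F) • ten (mv A u) c'' := by
        intro u
        have e := hsqE (mv g (ten u c₀))
        have e2 : mv g' (mv g' (ten u c₀)) = ten (mv A (mv A u)) (mv B c'') := by rw [hAB, hAB]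
        have e1 : mv g' (ten u c₀) = ten (mv A u) c'' := hAB u c₀
        rw [← e1, ← e2]
        have e3 := congrArg (mv g⁻¹) e
        rw [mv_sub, mv_sub, mv_inv_mv] at e3
        rw [hg'def, mv_mul, mv_mul, mv_mul, mv_mul, mv_mv_inv]
        linear_combination (norm := module) e3
      obtain ⟨u, t, hu, ht, htu⟩ := exists_eigen A B hc''.symm hdep hsq
      set v := t • c'' - c₀ with hv
      have hv0 : v ≠ 0 := fun h => hdep (Submodule.mem_span_singleton.2 ⟨t⁻¹, by
        rw [← sub_eq_zero.1 h, smul_smul, inv_mul_cancel₀ ht, one_smul]⟩)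
      have hp0 : ctr (frow f₂ c) (mv g (ten u v)) = 0 := by
        have e1 : mv E (mv g (ten u c₀)) = mv g (mv g' (ten u c₀)) := by
          rw [hg'def, mv_mul, mv_mul, mv_mv_inv]
        rw [hAB, htu, ten_smul_left, ← ten_smul_right] at e1
        have := congrArg (ctr (frow f₂ c)) e1
        rw [hpE] at this
        rw [hv, show ten u (t • c'' - c₀) = lam u (t • c'' - c₀) from rfl, map_sub, lam_apply, lam_apply,
          mv_sub, map_sub, ← this, sub_self]
      have hxR : mv g (ten u v) ∈ (line α v).map (mvLin g) := mem_map_mv.2 ⟨_, ten_mem_line _ _, rfl⟩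
      have hxl : mv g (ten u v) ∈ line α c :=
        perp_in_line hlt hb C hC hMid hJ hg hnk hv0 hc (by omega) hxR hp0
      have hle := hJ g hg hnk v c hv0 hc
      rw [hJ0, Nat.le_zero, meetDim, Submodule.finrank_eq_zero, eq_bot_iff] at hle
      exact ten_ne_zero hu hv0 (mv_inj g (((Submodule.mem_bot F).1 (hle ⟨hxR, hxl⟩)).trans
        (mv_zero g).symm))
  · -- the meet of the new member has the same size
    have hle := hJ g' hg' hk' c₀ c₀ hc₀ hc₀
    have hge : J ≤ meetDim g' c₀ c₀ := hYdim.ge.trans (Submodule.finrank_mono hYsub)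
    have hx : mv g⁻¹ (mv E y) ∈ line α c₀ :=
      perp_in_line hlt hb C hC hMid hJ hg' hk' hc₀ hc₀ hge hmem hperp'
    have heq : Y = (line α c₀).map (mvLin g') ⊓ line α c₀ :=
      Submodule.eq_of_le_of_finrank_le hYsub (by rw [hYdim]; exact hle)
    have : mv g⁻¹ (mv E y) ∈ Y := heq ▸ ⟨hmem, hx⟩
    obtain ⟨z, ⟨-, hzc⟩, hz⟩ := mem_map_mv.1 this
    apply hpy
    rw [← hpE, ← mv_inj g⁻¹ hz]
    exact ctr_line (by rw [frow_dot C.h₂, C.h₂.alternating]) hzc

end Cfsg.Agent.TensorMax.S
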