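/-
Stabilisers of decompositions of an orthogonal space into two symplectic factors of different
dimensions are maximal.
-/
import Cfsg.Agent.Lib.TensorMax.SGen
import Cfsg.Agent.Lib.TensorMax.SRoot
import Cfsg.Agent.Lib.TensorMax.SMeet
import Cfsg.Agent.Lib.TensorMax.Main
import Cfsg.Agent.Lib.TensorMax.UMain

set_option autoImplicit false
set_option linter.unusedSectionVars false

namespace Cfsg.Agent.TensorMax.S

open scoped Matrix Kronecker
open Matrix Cfsg.Agent.Transvec
open Cfsg.Agent.TensorMax.U (kr mv_kr_ten isKron_kr mv_kron_ten frow)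

/-- An element acting through an alternating form on a totally singular subspace lies in the commutator
subgroup. -/
theorem omega_of_alt {ι : Type} [Fintype ι] [DecidableEq ι] {F : Type*} [Field F] [Finite F]
    {Q : (ι → F) → F} (hQ : Geo.IsNondegenerateQuadraticForm Q) (hn : 11 ≤ Fintype.card ι) {k : ℕ}
    {f : (Fin k → F) → (Fin k → F) → F} (hf : Geo.IsSymplecticForm f) (R : (Fin k → F) →ₗ[F] ι → F)
    (P : (ι → F) →ₗ[F] Fin k → F) (hR : ∀ a, Q (R a) = 0) (hP : ∀ x a, Orth.pol Q x (R a) = f (P x) a)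
    (hPR : ∀ a, P (R a) = 0) (s : F) (g : GL ι F) (hg : ∀ x, mv g x = x + s • R (P x)) :
    g ∈ Geo.omegaGL Q := by
  classical
  have hzs : ∀ i : Fin k, ∃ z, ∀ x, f x z = x i := fun i => by
    obtain ⟨z, hz⟩ := exists_eq_f hf (LinearMap.proj (R := F) (φ := fun _ : Fin k => F) i)
    exact ⟨z, fun x => (hz x).symm⟩
  choose z hz using hzs
  let G : Fin k → Fin k → F := fun i j => f (Pi.single i 1) (Pi.single j 1)
  set T : Finset (Fin k × Fin k) := Finset.univ.filter fun p => p.1 < p.2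
  have hpart : ∀ T' : Finset (Fin k × Fin k), ∃ g' ∈ Geo.omegaGL Q, ∀ x, mv g' x = x +
      R (∑ p ∈ T', (-s * G p.1 p.2) • (P x p.1 • z p.2 - P x p.2 • z p.1)) := by
    intro T'
    induction T' using Finset.induction_on with
    | empty => exact ⟨1, Subgroup.one_mem _, fun x => by rw [mv_one, Finset.sum_empty, map_zero, add_zero]⟩
    | insert p T' hp ih =>
      obtain ⟨g', hg', hg'x⟩ := ih
      have hperp : Orth.pol Q (R (z p.1)) ((-s * G p.1 p.2) • R (z p.2)) = 0 := by
        rw [Orth.pol_smul_right hQ, hP, hPR, f_zero_left hf, mul_zero]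
      obtain ⟨h, hh, hhs⟩ := Orth.exists_siegel hQ (hR (z p.1)) hperp
      refine ⟨h * g', Subgroup.mul_mem _ (Orth.siegel_mem_omega hQ (by omega) (hR _) hperp hhs) hg', fun x => ?_⟩
      rw [mv_mul, hg'x, hhs, Orth.q_smul hQ, hR, Orth.pol_smul_right hQ, hP, hP, hz, hz, map_add, hPR,
        add_zero, Finset.sum_insert hp]
      simp only [map_add, map_sub, map_smul]
      module
  obtain ⟨g', hg', hg'x⟩ := hpart T
  suffices g = g' by rwa [this]
  refine ext_mv fun x => ?_
  rw [hg, hg'x, ← map_smul]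
  congr 2
  -- both sides have the same products with every vector
  refine sub_eq_zero.1 ?_
  by_contra hne
  obtain ⟨w, hw⟩ := (hf.nondegenerate _ hne).2
  apply hw
  have e1 : ∀ a w, f a w = ∑ p : Fin k × Fin k, a p.1 * w p.2 * G p.1 p.2 := by
    intro a w
    rw [Fintype.sum_prod_type]
    conv_lhs => rw [pi_eq_sum_univ' a, pi_eq_sum_univ' w, f_sum_left hf]
    refine Finset.sum_congr rfl fun i _ => ?_
    rw [hf.bilinear.smul_left, f_sum_right hf, Finset.mul_sum]
    refine Finset.sum_congr rfl fun j _ => ?_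
    rw [hf.bilinear.smul_right]
    ring
  have e2 : ∀ a w, f a w = ∑ p ∈ T, G p.1 p.2 * (a p.1 * w p.2 - a p.2 * w p.1) := by
    intro a w
    rw [e1, ← Finset.sum_filter_add_sum_filter_not Finset.univ (fun p : Fin k × Fin k => p.1 < p.2)]
    simp only [mul_sub, Finset.sum_sub_distrib]
    rw [sub_eq_add_neg, ← Finset.sum_neg_distrib]
    congr 1
    · exact Finset.sum_congr rfl fun p _ => by ring
    · rw [← Finset.sum_filter_add_sum_filter_not (Finset.univ.filter fun p : Fin k × Fin k => ¬ p.1 < p.2)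
        (fun p : Fin k × Fin k => p.1 = p.2),
        Finset.sum_eq_zero (s := Finset.filter (fun p : Fin k × Fin k => p.1 = p.2) _) (fun p hp => by
          rw [Finset.mem_filter] at hp
          simp only [G, hp.2, hf.alternating, mul_zero]), zero_add]
      refine Finset.sum_nbij' Prod.swap Prod.swap (fun p hp => ?_) (fun p hp => ?_) (fun p _ => p.swap_swap)
        (fun p _ => p.swap_swap) fun p _ => ?_
      · simp only [T, Finset.mem_filter, Finset.mem_univ, true_and, not_lt, Prod.fst_swap, Prod.snd_swap] at hp ⊢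
        exact lt_of_le_of_ne hp.1 (Ne.symm hp.2)
      · simp only [T, Finset.mem_filter, Finset.mem_univ, true_and, not_lt, Prod.fst_swap, Prod.snd_swap] at hp ⊢
        exact ⟨hp.le, fun h => hp.ne h.symm⟩
      · simp only [G, Prod.fst_swap, Prod.snd_swap, hf.skew (Pi.single p.1 1) (Pi.single p.2 1)]
        ring
  rw [f_sub_left hf, hf.bilinear.smul_left, f_sum_left hf, e2 (P x) w, Finset.mul_sum, sub_eq_zero]
  refine Finset.sum_congr rfl fun p _ => ?_
  rw [hf.bilinear.smul_left, f_sub_left hf, hf.bilinear.smul_left, hf.bilinear.smul_left, hf.skew (z p.2) w,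
    hf.skew (z p.1) w, hz, hz]
  ring

variable {n₁ n₂ : ℕ} {F : Type*} [Field F]
variable {Q : (Fin n₁ × Fin n₂ → F) → F} {f₁ : (Fin n₁ → F) → (Fin n₁ → F) → F}
variable {f₂ : (Fin n₂ → F) → (Fin n₂ → F) → F}

theorem kr_isometry (hQ : Geo.IsNondegenerateQuadraticForm Q)
    (hpol : ∀ u w v z, Orth.pol Q (ten u w) (ten v z) = f₁ u v * f₂ w z) (pure : ∀ u w, Q (ten u w) = 0)
    {A : GL (Fin n₁) F} {B : GL (Fin n₂) F} (hA : A ∈ preserving (Units.coeHom (Matrix (Fin n₁) (Fin n₁) F)) f₁)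
    (hB : B ∈ preserving (Units.coeHom (Matrix (Fin n₂) (Fin n₂) F)) f₂) :
    kr A B ∈ isometryGroup F Q := by
  set g := kr A B with hg
  have h1 : ∀ v z x, Orth.pol Q (mv g x) (mv g (ten v z)) = Orth.pol Q x (ten v z) := by
    intro v z x
    have e : (Orth.formQ hQ (mv g (ten v z))).comp (mvLin g) = Orth.formQ hQ (ten v z) := ext_ten fun u w => by
      rw [LinearMap.comp_apply, Matrix.toLin'_apply]
      show Orth.pol Q (mv g (ten u w)) (mv g (ten v z)) = Orth.pol Q (ten u w) (ten v z)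
      rw [hg, mv_kr_ten, mv_kr_ten, hpol, hpol, show f₁ (mv A u) (mv A v) = f₁ u v from hA u v,
        show f₂ (mv B w) (mv B z) = f₂ w z from hB w z]
    have := LinearMap.congr_fun e x
    rw [LinearMap.comp_apply, Matrix.toLin'_apply] at this
    exact this
  refine Orth.mem_isometry.2 fun x => ?_
  have key : ∀ (T : Finset (Fin n₂)) (x : Fin n₁ × Fin n₂ → F),
      Q (mv g (∑ k ∈ T, ten (fun i => x (i, k)) (Pi.single k 1))) =
        Q (∑ k ∈ T, ten (fun i => x (i, k)) (Pi.single k 1)) := by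
    intro T x
    induction T using Finset.induction_on with
    | empty => rw [Finset.sum_empty, mv_zero]
    | insert a T ha ih =>
      rw [Finset.sum_insert ha, mv_add, Orth.q_add hQ, Orth.q_add hQ, ih, Orth.pol_comm,
        h1 _ _ _, Orth.pol_comm, hg, mv_kr_ten, pure, pure]
  rw [eq_sum_ten x]
  exact key _ x

theorem ctx_isometry (hQ : Geo.IsNondegenerateQuadraticForm Q) (h₁ : Geo.IsSymplecticForm f₁)
    (h₂ : Geo.IsSymplecticForm f₂)
    (hpol : ∀ u w v z, Orth.pol Q (ten u w) (ten v z) = f₁ u v * f₂ w z) (pure : ∀ u w, Q (ten u w) = 0) :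
    Ctx Q f₁ f₂ (isometryGroup F Q) :=
  ⟨hQ, h₁, h₂, hpol, pure, le_rfl, fun _ hA => kr_isometry hQ hpol pure hA (Subgroup.one_mem _),
    fun _ hB => kr_isometry hQ hpol pure (Subgroup.one_mem _) hB⟩

/-- The Kronecker products in the commutator subgroup form a maximal subgroup. -/
theorem maximal_std [Fintype F] (hQ : Geo.IsNondegenerateQuadraticForm Q) (h₁ : Geo.IsSymplecticForm f₁)
    (h₂ : Geo.IsSymplecticForm f₂)
    (hpol : ∀ u w v z, Orth.pol Q (ten u w) (ten v z) = f₁ u v * f₂ w z) (pure : ∀ u w, Q (ten u w) = 0)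
    (ha : 0 < n₁) (hab : n₁ + 2 ≤ n₂) (hb : 6 ≤ n₂) (hn : 11 ≤ n₁ * n₂)
    (hex : ¬ (n₁ = 2 ∧ Nat.card F = 2)) {K : Subgroup (GL (Fin n₁ × Fin n₂) F)}
    (hK : ∀ g, g ∈ K ↔ IsKron g) :
    Geo.IsMaximalIn (Geo.omegaGL Q) (K ⊓ Geo.omegaGL Q) := by
  have hcard : 11 ≤ Fintype.card (Fin n₁ × Fin n₂) := by simpa using hn
  haveI : Nonempty (Fin n₁) := ⟨⟨0, ha⟩⟩
  have C₀ := ctx_isometry hQ h₁ h₂ hpol pure
  have hb' : 6 ≤ Fintype.card (Fin n₂) := by simpa using hb
  refine ⟨lt_of_le_of_ne inf_le_right fun heq => ?_, fun M hM1 hM2 => ?_⟩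
  · obtain ⟨i₀⟩ := ‹Nonempty (Fin n₁)›
    set e : Fin n₁ → F := Pi.single i₀ 1
    have he : e ≠ 0 := by simp [e]
    obtain ⟨a, hae⟩ := exists_pair h₁ he
    set c : Fin n₂ → F := Pi.single ⟨0, by omega⟩ 1
    have hc : c ≠ 0 := by simp [c]
    obtain ⟨v, hvc, hcv⟩ := exists_perp_out h₂ (P := Submodule.span F {c}) (by
      rw [finrank_span_singleton hc]; omega)
    have hcv' : f₂ c v = 0 := hcv c (Submodule.mem_span_singleton_self c)
    have hv0 : v ≠ 0 := fun h => hvc (h ▸ Submodule.zero_mem _)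
    have hcn : c ∉ Submodule.span F {v} := fun hm => by
      obtain ⟨t, ht⟩ := Submodule.mem_span_singleton.1 hm
      have ht0 : t ≠ 0 := fun h => hc (by rw [← ht, h, zero_smul])
      exact hvc (Submodule.mem_span_singleton.2 ⟨t⁻¹, by rw [← ht, smul_smul, inv_mul_cancel₀ ht0, one_smul]⟩)
    obtain ⟨z, hvz, hcz⟩ := exists_with h₂ hcn
    have hvz' : f₂ v z = 0 := hvz v (Submodule.mem_span_singleton_self v)
    obtain ⟨g, hg, hgs⟩ := Orth.exists_siegel hQ (u := ten e c) (y := (1 : F) • ten e v) (pure _ _)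
      (by rw [Orth.pol_smul_right hQ, hpol, h₁.alternating, zero_mul, mul_zero])
    have hgO : g ∈ Geo.omegaGL Q := Orth.siegel_mem_omega hQ (by omega) (pure _ _)
      (by rw [Orth.pol_smul_right hQ, hpol, h₁.alternating, zero_mul, mul_zero]) hgs
    rw [← heq] at hgO
    obtain ⟨A, B, hAB⟩ := mv_kron_ten ((hK g).1 hgO.1)
    have hzv : (-z) ∉ Submodule.span F {v} := fun hm => by
      obtain ⟨t, ht⟩ := Submodule.mem_span_singleton.1 hm
      rw [← neg_neg z, ← ht, f_neg_right h₂, h₂.bilinear.smul_right, hcv', mul_zero, neg_zero] at hcz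
      exact zero_ne_one hcz
    have hvz2 : v ∉ Submodule.span F {-z} := fun hm => by
      obtain ⟨t, ht⟩ := Submodule.mem_span_singleton.1 hm
      have ht0 : t ≠ 0 := fun h => hv0 (by rw [← ht, h, zero_smul])
      exact hzv (Submodule.mem_span_singleton.2 ⟨t⁻¹, by rw [← ht, smul_smul, inv_mul_cancel₀ ht0, one_smul]⟩)
    have e0 := hAB a (-z)
    rw [siegel_apply C₀ (pure _ _) hgs, hpol, hpol, hae, f_neg_left h₂, f_neg_left h₂, h₂.skew z c, hcz,
      h₂.skew z v, hvz'] at e0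
    obtain ⟨φ, hφ, hφ'⟩ := exists_dot hzv
    obtain ⟨ψ, hψ, hψ'⟩ := exists_dot hvz2
    have p1 := congrArg (ctr φ) e0
    have p2 := congrArg (ctr ψ) e0
    simp only [map_add, map_sub, map_smul, ctr_ten, hφ', hψ', hφ v (Submodule.mem_span_singleton_self _),
      hψ (-z) (Submodule.mem_span_singleton_self _), one_mul, mul_one, neg_neg, neg_zero, mul_zero,
      zero_smul, smul_zero, one_smul, add_zero, zero_add, sub_zero] at p1 p2
    have q1 := congrArg (fun u => f₁ u e) p1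
    have q2 := congrArg (fun u => f₁ u e) p2
    simp only [h₁.bilinear.smul_left, hae, h₁.alternating] at q1 q2
    rcases mul_eq_zero.1 q2.symm with h | h
    · rw [h, zero_smul] at p2
      exact he p2
    · rw [h, mul_zero] at q1
      exact one_ne_zero q1
  · have hMI : M ≤ isometryGroup F Q := hM2.trans (Orth.omega_le_isometry hQ)
    have hW : ∀ c s, kr (1 : GL (Fin n₁) F) (stv h₂ c s) ∈ M := fun c s => by
      refine hM1 ⟨(hK _).2 (isKron_kr _ _), ?_⟩
      refine omega_of_alt hQ hcard h₁ (rho c) (ctr (frow f₂ c)) (fun a => pure _ _)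
        (fun x a => C₀.pol_ctr x a c) (fun a => ?_) s _ fun x => ?_
      · rw [rho_apply, ctr_ten, frow_dot h₂, h₂.alternating, zero_smul]
      · rw [← uT₂_eq_kr C₀, mv_uT₂, rho_apply]
    have hU : ∀ e s, kr (stv h₁ e s) (1 : GL (Fin n₂) F) ∈ M := fun e s => by
      refine hM1 ⟨(hK _).2 (isKron_kr _ _), ?_⟩
      refine omega_of_alt hQ hcard h₂ (lam e) (ctrL (frow f₁ e)) (fun a => pure _ _) (fun x a => ?_)
        (fun a => ?_) s _ fun x => ?_
      · have h : Orth.formQ hQ (ten e a) = (formR h₂ a).comp (ctrL (frow f₁ e)) := ext_ten fun u w => by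
          rw [LinearMap.comp_apply, Orth.formQ_apply, formR_apply, hpol, ctrL_ten, frow_dot h₁,
            h₂.bilinear.smul_left]
        exact LinearMap.congr_fun h x
      · rw [lam_apply, ctrL_ten, frow_dot h₁, h₁.alternating, zero_smul]
      · have h : mvLin (kr (stv h₁ e s) (1 : GL (Fin n₂) F)) =
            LinearMap.id + s • (lam e).comp (ctrL (frow f₁ e)) := ext_ten fun u w => by
          rw [Matrix.toLin'_apply]
          show mv (kr (stv h₁ e s) 1) (ten u w) = _
          rw [mv_kr_ten, mv_one, mv_stv, LinearMap.add_apply, LinearMap.id_apply, LinearMap.smul_apply,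
            LinearMap.comp_apply, lam_apply, ctrL_ten, frow_dot h₁, ten_add_left, ten_smul_left,
            ten_smul_right, smul_smul]
        have := LinearMap.congr_fun h x
        rw [Matrix.toLin'_apply] at this
        exact this
    let L : GL (Fin n₁) F →* GL (Fin n₁ × Fin n₂) F :=
      MonoidHom.mk' (fun A => kr A 1) fun A A' => U.ext_ten_mv fun u w => by
        rw [mv_mul, mv_kr_ten, mv_kr_ten, mv_kr_ten, mv_one, mv_one, mv_mul]
    let R : GL (Fin n₂) F →* GL (Fin n₁ × Fin n₂) F :=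
      MonoidHom.mk' (fun B => kr 1 B) fun B B' => U.ext_ten_mv fun u w => by
        rw [mv_mul, mv_kr_ten, mv_kr_ten, mv_kr_ten, mv_one, mv_one, mv_mul]
    have C : Ctx Q f₁ f₂ M :=
      ⟨hQ, h₁, h₂, hpol, pure, hMI,
        fun A hA => preserving_le h₁ (M := M.comap L) (fun v k => hU v k) hA,
        fun B hB => preserving_le h₂ (M := M.comap R) (fun v k => hW v k) hB⟩
    by_cases hR : Root Q f₂ M
    · exact Or.inr (eq_omega_of_root hcard hb' C hR hM2)
    · have hC : CentreScalar f₂ M := by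
        by_contra h
        exact hR (root_of_centre hb' C h)
      have hMid : MiddleScalar f₂ M := by
        by_contra h
        exact hR (root_of_middle hb' C (by simpa using hex) hC h)
      exact Or.inl (le_antisymm (fun g hg =>
        ⟨(hK g).2 (all_kron (by simpa using hab) hb' C hC hMid hg), hM2 hg⟩) hM1)

theorem mv_reindex' {ι κ : Type} [Fintype ι] [DecidableEq ι] [Fintype κ] [DecidableEq κ] (e : ι ≃ κ)
    (g : GL κ F) (x : κ → F) : mv (Geo.glReindex e.symm g) (x ∘ e) = (mv g x) ∘ e := by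
  show Matrix.reindex e.symm e.symm (g : Matrix κ κ F) *ᵥ (x ∘ e) = _
  funext i
  simp only [Matrix.mulVec, dotProduct, Matrix.reindex_apply, Matrix.submatrix_apply, Equiv.symm_symm,
    Function.comp_apply]
  exact Equiv.sum_comp e fun k => (g : Matrix κ κ F) (e i) k * x k

/-- The isometry of coordinates carries commutator subgroups to commutator subgroups. -/
theorem map_omega [Finite F] {ι κ : Type} [Fintype ι] [DecidableEq ι] [Fintype κ] [DecidableEq κ] (e : ι ≃ κ)
    (P : GL ι F) {Q : (ι → F) → F} (hQ : Geo.IsNondegenerateQuadraticForm Q) {Q' : (κ → F) → F}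
    (hQ' : Geo.IsNondegenerateQuadraticForm Q') {a : F} (ha : a ≠ 0)
    (h : ∀ x, Q' x = a * Q (mv P (x ∘ e))) (hn : 11 ≤ Fintype.card ι) :
    ((Geo.omegaGL Q').map (Geo.glReindex (F := F) e.symm).toMonoidHom).map (MulAut.conj P).toMonoidHom =
      Geo.omegaGL Q := by
  have hn' : 11 ≤ Fintype.card κ := by rwa [← Fintype.card_congr e]
  obtain ⟨Φ, hΦ⟩ : ∃ Φ : (κ → F) → ι → F, ∀ x, Φ x = mv P (x ∘ e) := ⟨_, fun _ => rfl⟩
  have hsurj : ∀ y, ∃ x, Φ x = y := fun y => ⟨(mv P⁻¹ y) ∘ e.symm, by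
    rw [hΦ, Function.comp_assoc, Equiv.symm_comp_self, Function.comp_id, mv_mv_inv]⟩
  have hadd : ∀ x y, Φ (x + y) = Φ x + Φ y := fun x y => by
    rw [hΦ, hΦ, hΦ, ← mv_add]; rfl
  have hsmul : ∀ (r : F) x, Φ (r • x) = r • Φ x := fun r x => by
    rw [hΦ, hΦ, ← mv_smul]; rfl
  have hsub : ∀ x y, Φ (x - y) = Φ x - Φ y := fun x y => by
    rw [hΦ, hΦ, hΦ, ← mv_sub]; rfl
  have hinj : Function.Injective Φ := fun x y hxy => by
    rw [hΦ, hΦ] at hxy
    funext k
    simpa using congrFun (mv_inj P hxy) (e.symm k)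
  have hQΦ : ∀ x, Q' x = a * Q (Φ x) := fun x => by rw [h, hΦ]
  have hpol : ∀ x y, Orth.pol Q' x y = a * Orth.pol Q (Φ x) (Φ y) := fun x y => by
    simp only [Orth.pol, QuadraticMap.polar, hQΦ, hadd]; ring
  let φ : GL κ F ≃* GL ι F := (Geo.glReindex e.symm).trans (MulAut.conj P)
  have hφ : ∀ g x, mv (φ g) (Φ x) = Φ (mv g x) := fun g x => by
    show mv (MulAut.conj P (Geo.glReindex e.symm g)) (Φ x) = _
    rw [hΦ, hΦ, MulAut.conj_apply, mv_mul, mv_mul, mv_inv_mv, mv_reindex']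
  have key : ((fun g => φ g) '' {g | ∃ u y, Q' u = 0 ∧ Orth.pol Q' u y = 0 ∧ Orth.IsSiegel Q' g u y}) =
      {g | ∃ u y, Q u = 0 ∧ Orth.pol Q u y = 0 ∧ Orth.IsSiegel Q g u y} := by
    ext g
    constructor
    · rintro ⟨g, ⟨u, y, hu, huy, hs⟩, rfl⟩
      refine ⟨Φ u, a • Φ y, ?_, ?_, fun z => ?_⟩
      · rw [hQΦ] at hu; exact (mul_eq_zero.1 hu).resolve_left ha
      · rw [hpol] at huy; rw [Orth.pol_smul_right hQ, huy]
      · obtain ⟨z, rfl⟩ := hsurj z
        rw [hφ, hs, hpol, hpol, hQΦ, hsub, hadd, hsmul, hsmul, Orth.pol_smul_right hQ, Orth.q_smul hQ]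
        module
    · rintro ⟨u, y, hu, huy, hs⟩
      obtain ⟨g', rfl⟩ := φ.surjective g
      obtain ⟨u, rfl⟩ := hsurj u
      obtain ⟨y, rfl⟩ := hsurj y
      refine ⟨g', ⟨u, a⁻¹ • y, ?_, ?_, fun z => ?_⟩, rfl⟩
      · rw [hQΦ, hu, mul_zero]
      · rw [hpol, hsmul, Orth.pol_smul_right hQ, huy, mul_zero, mul_zero]
      · apply hinj
        rw [← hφ, hs, hpol, hpol, hQΦ, hsub, hadd, hsmul, hsmul, hsmul, Orth.pol_smul_right hQ, Orth.q_smul hQ]
        match_scalars <;> field_simp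
  rw [Orth.omegaGL_eq hQ' (by omega), Orth.omegaGL_eq hQ (by omega), Subgroup.map_map]
  show Subgroup.map φ.toMonoidHom (Orth.siegelGroup Q') = _
  rw [Orth.siegelGroup, Orth.siegelGroup, MonoidHom.map_closure]
  exact congrArg Subgroup.closure key

/-- The stabiliser of a decomposition into two symplectic factors with unequal dimensions is maximal. -/
theorem symp_tensor_maximal [Fintype F] {n : ℕ} (hn : 12 ≤ n) (Q : (Fin n → F) → F)
    (hQ : Geo.IsNondegenerateQuadraticForm Q) (h12 : n₁ < n₂) (hex : ¬ (Fintype.card F = 2 ∧ n₁ = 2))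
    (e : Fin n ≃ Fin n₁ × Fin n₂) (P : GL (Fin n) F) (g₁ : (Fin n₁ → F) → (Fin n₁ → F) → F)
    (g₂ : (Fin n₂ → F) → (Fin n₂ → F) → F) (hf₁ : Geo.IsSymplecticForm g₁) (hf₂ : Geo.IsSymplecticForm g₂)
    (hT : Geo.IsTensorFormStructure id (QuadraticMap.polar Q) g₁ g₂ e P)
    (hpure : ∀ (x₁ : Fin n₁ → F) (x₂ : Fin n₂ → F), Q (Matrix.mulVec (P : Matrix (Fin n) (Fin n) F)
      ((fun a : Fin n₁ × Fin n₂ => x₁ a.1 * x₂ a.2) ∘ e)) = 0) :
    Geo.IsMaximalIn (Geo.omegaGL Q) (Geo.tensorProductSubgroup n₁ n₂ e P ⊓ Geo.omegaGL Q) := by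
  obtain ⟨c, hc, hT⟩ := hT
  set Q' : (Fin n₁ × Fin n₂ → F) → F := fun x => c⁻¹ * Q (mv P (x ∘ e)) with hQ'def
  have hpol' : ∀ x y, Orth.pol Q' x y = c⁻¹ * Orth.pol Q (mv P (x ∘ e)) (mv P (y ∘ e)) := fun x y => by
    simp only [hQ'def, Orth.pol, QuadraticMap.polar, ← mv_add]
    rw [show (x + y) ∘ e = x ∘ e + y ∘ e from rfl]
    ring
  have hQ' : Geo.IsNondegenerateQuadraticForm Q' := by
    refine ⟨fun r v => ?_, ⟨fun x y v => ?_, fun r x v => ?_, fun v x y => ?_, fun r v x => ?_⟩, fun v hv => ?_⟩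
    · simp only [hQ'def]
      rw [show (r • v) ∘ e = r • (v ∘ e) from rfl, mv_smul, Orth.q_smul hQ]
      ring
    · show Orth.pol Q' (x + y) v = Orth.pol Q' x v + Orth.pol Q' y v
      rw [hpol', hpol', hpol', show (x + y) ∘ e = x ∘ e + y ∘ e from rfl, mv_add, Orth.pol_add_left hQ]
      ring
    · show Orth.pol Q' (r • x) v = r * Orth.pol Q' x v
      rw [hpol', hpol', show (r • x) ∘ e = r • (x ∘ e) from rfl, mv_smul, Orth.pol_smul_left hQ]
      ring
    · show Orth.pol Q' v (x + y) = Orth.pol Q' v x + Orth.pol Q' v y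
      rw [hpol', hpol', hpol', show (x + y) ∘ e = x ∘ e + y ∘ e from rfl, mv_add, Orth.pol_add_right hQ]
      ring
    · show Orth.pol Q' v (r • x) = r * Orth.pol Q' v x
      rw [hpol', hpol', show (r • x) ∘ e = r • (x ∘ e) from rfl, mv_smul, Orth.pol_smul_right hQ]
      ring
    · have hv' : mv P (v ∘ e) ≠ 0 := fun h => hv (by
        funext k
        simpa using congrFun (mv_inj P (h.trans (mv_zero P).symm)) (e.symm k))
      obtain ⟨⟨x, hx⟩, ⟨y, hy⟩⟩ := hQ.nondegenerate _ hv'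
      have key : ∀ y, mv P (((mv P⁻¹ y) ∘ e.symm) ∘ e) = y := fun y => by
        rw [Function.comp_assoc, Equiv.symm_comp_self, Function.comp_id, mv_mv_inv]
      refine ⟨⟨(mv P⁻¹ x) ∘ e.symm, ?_⟩, ⟨(mv P⁻¹ y) ∘ e.symm, ?_⟩⟩
      · show Orth.pol Q' _ v ≠ 0
        rw [hpol', key]
        exact mul_ne_zero (inv_ne_zero hc) hx
      · show Orth.pol Q' v _ ≠ 0
        rw [hpol', key]
        exact mul_ne_zero (inv_ne_zero hc) hy
  have hgram : ∀ {k : ℕ} {g : (Fin k → F) → (Fin k → F) → F}, Geo.IsSymplecticForm g → ∀ u v,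
      ∑ i, ∑ j, u i * Geo.gramMatrix g i j * v j = g u v := by
    intro k g hg u v
    conv_rhs => rw [pi_eq_sum_univ' u, pi_eq_sum_univ' v, f_sum_left hg]
    refine Finset.sum_congr rfl fun i _ => ?_
    rw [hg.bilinear.smul_left, f_sum_right hg, Finset.mul_sum]
    refine Finset.sum_congr rfl fun j _ => ?_
    rw [hg.bilinear.smul_right, Geo.gramMatrix]
    ring
  have hpol : ∀ u w v z, Orth.pol Q' (ten u w) (ten v z) = g₁ u v * g₂ w z := by
    intro u w v z
    rw [hpol', show Orth.pol Q (mv P (ten u w ∘ e)) (mv P (ten v z ∘ e)) = _ from hT (ten u w) (ten v z),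
      ← mul_assoc, inv_mul_cancel₀ hc, one_mul, ← hgram hf₁, ← hgram hf₂]
    simp only [Geo.formOfGram, id_eq, Fintype.sum_prod_type, ten_apply, Matrix.kroneckerMap_apply,
      Finset.sum_mul, Finset.mul_sum]
    rw [Finset.sum_comm]
    refine Finset.sum_congr rfl fun k _ => ?_
    conv_rhs => rw [Finset.sum_comm]
    refine Finset.sum_congr rfl fun i _ => ?_
    rw [Finset.sum_comm]
    exact Finset.sum_congr rfl fun l _ => Finset.sum_congr rfl fun j _ => by ring
  have hpure' : ∀ u w, Q' (ten u w) = 0 := fun u w => by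
    show c⁻¹ * _ = 0
    rw [show Q (mv P (ten u w ∘ e)) = 0 from hpure u w, mul_zero]
  have hcard : n = n₁ * n₂ := by simpa using Fintype.card_congr e
  have he₁ : Even n₁ := by simpa using even_card hf₁
  have he₂ : Even n₂ := by simpa using even_card hf₂
  obtain ⟨i, hi⟩ := he₁
  obtain ⟨j, hj⟩ := he₂
  have ha : 0 < n₁ := Nat.pos_of_ne_zero fun h => by rw [h, zero_mul] at hcard; omega
  have hb : 6 ≤ n₂ := by
    by_contra h
    have : n₁ * n₂ ≤ 2 * 4 := Nat.mul_le_mul (by omega) (by omega)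
    omega
  have h := maximal_std hQ' hf₁ hf₂ hpol hpure' ha (by omega) hb (by omega)
    (fun h => hex ⟨by rw [← Nat.card_eq_fintype_card]; exact h.2, h.1⟩)
    (K := Geo.kroneckerSubgroup n₁ n₂ F) (fun g => Iff.rfl)
  have h' := isMaximalIn_map (MulAut.conj P) (isMaximalIn_map (Geo.glReindex e.symm) h)
  rw [Subgroup.map_inf _ _ (Geo.glReindex (F := F) e.symm).toMonoidHom (Geo.glReindex e.symm).injective,
    Subgroup.map_inf _ _ (MulAut.conj P).toMonoidHom (MulAut.conj P).injective,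
    map_omega e P hQ hQ' (inv_ne_zero hc) (fun x => rfl) (by simpa using (by omega : 11 ≤ n))] at h'
  exact h'

end Cfsg.Agent.TensorMax.S
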