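/-
A member of an overgroup of the stabiliser of a decomposition U ⊗ W with dim W = 3 sending an
isotropic line U ⊗ c to a line is a Kronecker product.
-/
import Cfsg.Agent.Lib.TensorMax.UMain
import Mathlib.LinearAlgebra.Matrix.SchurComplement

set_option autoImplicit false
set_option linter.unusedSectionVars false
set_option maxHeartbeats 800000

namespace Cfsg.Agent.TensorMax.U.Three

open scoped Matrix Kronecker
open Matrix Cfsg.Agent.Transvec Cfsg.Agent.Transvec.Herm

variable {α β : Type} [Fintype α] [DecidableEq α] [Fintype β] [DecidableEq β] {F : Type*} [Field F]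
variable {σ : F ≃+* F} {f₁ : (α → F) → (α → F) → F} {f₂ : (β → F) → (β → F) → F}
variable {M : Subgroup (GL (α × β) F)}

/-- A hyperbolic pair c, d and a vector z of norm one orthogonal to both, spanning the space. -/
structure Frame (f : (β → F) → (β → F) → F) (c z d : β → F) : Prop where
  cc : f c c = 0
  zz : f z z = 1
  dd : f d d = 0
  cd : f c d = 1
  dc : f d c = 1
  cz : f c z = 0
  zc : f z c = 0
  zd : f z d = 0
  dz : f d z = 0
  expand : ∀ w, w = f w d • c + f w z • z + f w c • d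

theorem exists_frame [Finite F] (hf : Geo.IsUnitaryForm σ f₂) (hb : Fintype.card β = 3) {c : β → F}
    (hc : c ≠ 0) (hiso : f₂ c c = 0) : ∃ z d, Frame f₂ c z d := by
  obtain ⟨d, -, hcd, hdd⟩ := exists_partner hf (nondeg_top hf) Submodule.mem_top hc hiso
  have hdc : f₂ d c = 1 := by rw [hf.herm, hcd, map_one]
  obtain ⟨hP, hP2⟩ := nondeg_pair hf hiso hdd hcd
  have hsum := finrank_orth_add hf hP
  rw [hP2, Module.finrank_fintype_fun_eq_card, hb] at hsum
  obtain ⟨z₀, hz₀, hN⟩ := exists_anisotropic hf (nondeg_orth hf hP)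
    (fun h0 => by rw [h0, finrank_bot] at hsum; omega)
  obtain ⟨a, ha⟩ := exists_norm hf.ne_refl hf.involutive (f₂ z₀ z₀)⁻¹ (by rw [map_inv₀, self_fixed hf])
  obtain ⟨z, hz⟩ : ∃ z, z = a • z₀ := ⟨_, rfl⟩
  have hzO : z ∈ orth hf (Submodule.span F ({c, d} : Set (β → F))) := hz ▸ Submodule.smul_mem _ _ hz₀
  have hzz : f₂ z z = 1 := by
    rw [hz, hf.smul_left, Herm.smul_right hf, ← mul_assoc, ha, inv_mul_cancel₀ hN]
  have hcz : f₂ c z = 0 := hzO c (Submodule.subset_span (Set.mem_insert _ _))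
  have hdz : f₂ d z = 0 := hzO d (Submodule.subset_span (Set.mem_insert_of_mem _ rfl))
  refine ⟨z, d, hiso, hzz, hdd, hcd, hdc, hcz, (f_eq_zero_comm hf).1 hcz, (f_eq_zero_comm hf).1 hdz, hdz,
    fun w => ?_⟩
  set v := w - (f₂ w d • c + f₂ w z • z + f₂ w c • d) with hv
  have h1 : f₂ v c = 0 := by
    rw [hv, Herm.sub_left hf, hf.add_left, hf.add_left, hf.smul_left, hf.smul_left, hf.smul_left, hiso,
      (f_eq_zero_comm hf).1 hcz, hdc]
    ring
  have h2 : f₂ v d = 0 := by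
    rw [hv, Herm.sub_left hf, hf.add_left, hf.add_left, hf.smul_left, hf.smul_left, hf.smul_left, hcd,
      (f_eq_zero_comm hf).1 hdz, hdd]
    ring
  have h3 : f₂ v z = 0 := by
    rw [hv, Herm.sub_left hf, hf.add_left, hf.add_left, hf.smul_left, hf.smul_left, hf.smul_left, hcz,
      hzz, hdz]
    ring
  have hvO : v ∈ orth hf (Submodule.span F ({c, d} : Set (β → F))) := fun y hy => by
    obtain ⟨p, q, rfl⟩ := Submodule.mem_span_pair.1 hy
    rw [hf.add_left, hf.smul_left, hf.smul_left, (f_eq_zero_comm hf).1 h1, (f_eq_zero_comm hf).1 h2,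
      mul_zero, mul_zero, add_zero]
  have hz0 : z ≠ 0 := fun h => by rw [h, Herm.zero_left hf] at hzz; exact zero_ne_one hzz
  have hsp : Submodule.span F {z} = orth hf (Submodule.span F ({c, d} : Set (β → F))) :=
    Submodule.eq_of_le_of_finrank_le ((Submodule.span_singleton_le_iff_mem _ _).2 hzO)
      (by rw [finrank_span_singleton hz0]; omega)
  obtain ⟨p, hp⟩ := Submodule.mem_span_singleton.1 (hsp.symm ▸ hvO)
  rw [← hp, hf.smul_left, hzz, mul_one] at h3
  rw [h3, zero_smul] at hp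
  exact sub_eq_zero.1 hp.symm

theorem Frame.ne_zero (hf : Geo.IsUnitaryForm σ f₂) {c z d : β → F} (Fr : Frame f₂ c z d) :
    c ≠ 0 ∧ z ≠ 0 ∧ d ≠ 0 :=
  ⟨fun h => zero_ne_one (α := F) (by rw [← Fr.cd, h, Herm.zero_left hf]),
    fun h => zero_ne_one (α := F) (by rw [← Fr.zz, h, Herm.zero_left hf]),
    fun h => zero_ne_one (α := F) (by rw [← Fr.dc, h, Herm.zero_left hf])⟩

theorem Frame.expand_ten (hf : Geo.IsUnitaryForm σ f₂) {c z d : β → F} (Fr : Frame f₂ c z d)
    (x : α × β → F) : x = ten (ctr (frow f₂ d) x) c + ten (ctr (frow f₂ z) x) z + ten (ctr (frow f₂ c) x) d := by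
  let L : (α × β → F) →ₗ[F] α × β → F :=
    (rho c).comp (ctr (frow f₂ d)) + (rho z).comp (ctr (frow f₂ z)) + (rho d).comp (ctr (frow f₂ c))
  have e : (LinearMap.id : (α × β → F) →ₗ[F] α × β → F) = L := ext_ten fun u w => by
    simp only [L, LinearMap.id_apply, LinearMap.add_apply, LinearMap.comp_apply, rho_apply, ctr_ten,
      frow_dot hf]
    conv_lhs => rw [Fr.expand w]
    rw [ten_add_right, ten_add_right, ten_smul_right, ten_smul_right, ten_smul_right, ten_smul_left,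
      ten_smul_left, ten_smul_left]
  exact LinearMap.congr_fun e x

/-- A linear map preserving a unitary form is given by an invertible matrix. -/
theorem exists_gl_of_iso {κ : Type} [Fintype κ] [DecidableEq κ] {f : (κ → F) → (κ → F) → F}
    (hf : Geo.IsUnitaryForm σ f) (L : (κ → F) →ₗ[F] κ → F) (h : ∀ x y, f (L x) (L y) = f x y) :
    ∃ B : GL κ F, B ∈ preserving (Units.coeHom (Matrix κ κ F)) f ∧ ∀ x, mv B x = L x := by
  have hdet : (LinearMap.toMatrix' L).det ≠ 0 := fun hd => by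
    obtain ⟨v, hv, hv'⟩ := Matrix.exists_mulVec_eq_zero_iff.2 hd
    rw [LinearMap.toMatrix'_mulVec] at hv'
    obtain ⟨⟨y, hy⟩, -⟩ := hf.nondegenerate v hv
    refine hy ?_
    rw [← h y v, hv', Herm.zero_right hf]
  refine ⟨Matrix.GeneralLinearGroup.mkOfDetNeZero _ hdet, fun x y => ?_, fun x => ?_⟩
  · show f (LinearMap.toMatrix' L *ᵥ x) (LinearMap.toMatrix' L *ᵥ y) = f x y
    rw [LinearMap.toMatrix'_mulVec, LinearMap.toMatrix'_mulVec, h]
  · exact LinearMap.toMatrix'_mulVec L x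

theorem kron_of_line_self [Nonempty α] [Finite F] (hb : Fintype.card β = 3) (C : Ctx σ f₁ f₂ M)
    (hC : CentreScalar σ f₂ M)
    (hfull : ∀ g ∈ preserving (Units.coeHom (Matrix (α × β) (α × β) F)) (tf σ f₁ f₂) ⊓
      Geo.specialLinear (α × β) F, IsKron g → g ∈ M)
    {g : GL (α × β) F} (hg : g ∈ M) {c : β → F} (hc : c ≠ 0) (hiso : f₂ c c = 0)
    (hmap : (line α c).map (mvLin g) = line α c) : IsKron g := by
  classical
  obtain ⟨z, d, Fr⟩ := exists_frame C.h₂ hb hc hiso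
  set pc := (ctr (frow f₂ c) : (α × β → F) →ₗ[F] α → F) with hpc
  set pz := (ctr (frow f₂ z) : (α × β → F) →ₗ[F] α → F) with hpz
  set pd := (ctr (frow f₂ d) : (α × β → F) →ₗ[F] α → F) with hpd
  have ex : ∀ x, x = ten (pd x) c + ten (pz x) z + ten (pc x) d := Fr.expand_ten C.h₂
  have pval : ∀ (u : α → F) (w : β → F), pc (ten u w) = f₂ w c • u ∧ pz (ten u w) = f₂ w z • u ∧
      pd (ten u w) = f₂ w d • u := fun u w => by
    simp only [hpc, hpz, hpd, ctr_ten, frow_dot C.h₂, and_self]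
  obtain ⟨vc1, vc2, vc3⟩ : (∀ u : α → F, pc (ten u c) = 0) ∧ (∀ u : α → F, pz (ten u c) = 0) ∧
      (∀ u : α → F, pd (ten u c) = u) :=
    ⟨fun u => by rw [(pval u c).1, Fr.cc, zero_smul], fun u => by rw [(pval u c).2.1, Fr.cz, zero_smul],
      fun u => by rw [(pval u c).2.2, Fr.cd, one_smul]⟩
  obtain ⟨vz1, vz2, vz3⟩ : (∀ u : α → F, pc (ten u z) = 0) ∧ (∀ u : α → F, pz (ten u z) = u) ∧
      (∀ u : α → F, pd (ten u z) = 0) :=
    ⟨fun u => by rw [(pval u z).1, Fr.zc, zero_smul], fun u => by rw [(pval u z).2.1, Fr.zz, one_smul],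
      fun u => by rw [(pval u z).2.2, Fr.zd, zero_smul]⟩
  obtain ⟨vd1, vd2, vd3⟩ : (∀ u : α → F, pc (ten u d) = u) ∧ (∀ u : α → F, pz (ten u d) = 0) ∧
      (∀ u : α → F, pd (ten u d) = 0) :=
    ⟨fun u => by rw [(pval u d).1, Fr.dc, one_smul], fun u => by rw [(pval u d).2.1, Fr.dz, zero_smul],
      fun u => by rw [(pval u d).2.2, Fr.dd, zero_smul]⟩
  set A := pd.comp ((mvLin g).comp (rho c)) with hA
  set D := pz.comp ((mvLin g).comp (rho z)) with hD
  set R := pd.comp ((mvLin g).comp (rho z)) with hR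
  set H := pc.comp ((mvLin g).comp (rho d)) with hH
  set S := pz.comp ((mvLin g).comp (rho d)) with hS
  set T := pd.comp ((mvLin g).comp (rho d)) with hT
  have app : ∀ (P : (α × β → F) →ₗ[F] α → F) (w : β → F) (u : α → F),
      (P.comp ((mvLin g).comp (rho w))) u = P (mv g (ten u w)) := fun P w u => by
    rw [LinearMap.comp_apply, LinearMap.comp_apply, rho_apply, Matrix.toLin'_apply]
  have gc : ∀ u, mv g (ten u c) = ten (A u) c := fun u => by
    obtain ⟨v, hv⟩ := mem_line.1 (show mv g (ten u c) ∈ line α c by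
      rw [← hmap]; exact mem_map_mv.2 ⟨_, ten_mem_line _ _, rfl⟩)
    rw [hA, app, ← hv, vc3]
  have gback : ∀ u, ∃ v, mv g⁻¹ (ten u c) = ten v c := fun u => by
    obtain ⟨y, hy, hye⟩ := mem_map_mv.1 (show ten u c ∈ (line α c).map (mvLin g) by
      rw [hmap]; exact ten_mem_line u c)
    obtain ⟨v, rfl⟩ := mem_line.1 hy
    exact ⟨v, by rw [← hye, mv_inv_mv]⟩
  have gperp : ∀ x, pc x = 0 → pc (mv g x) = 0 := fun x hx => ctr_eq_zero_of_orth C fun u => by
    obtain ⟨v, hv⟩ := gback u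
    rw [← mv_mv_inv g (ten u c), hv, C.iso hg, tf_ctr C.h₁ C.h₂]
    show f₁ (pc x) v = 0
    rw [hx, Herm.zero_left C.h₁]
  have gperp' : ∀ x, pc x = 0 → pc (mv g⁻¹ x) = 0 := fun x hx => ctr_eq_zero_of_orth C fun u => by
    rw [← C.iso hg, mv_mv_inv, gc, tf_ctr C.h₁ C.h₂]
    show f₁ (pc x) _ = 0
    rw [hx, Herm.zero_left C.h₁]
  have gz : ∀ u, mv g (ten u z) = ten (R u) c + ten (D u) z := fun u => by
    conv_lhs => rw [ex (mv g (ten u z)), gperp _ (vz1 u), ten_zero_left, add_zero]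
    rw [hR, hD, app, app]
  have gd : ∀ u, mv g (ten u d) = ten (T u) c + ten (S u) z + ten (H u) d := fun u => by
    conv_lhs => rw [ex (mv g (ten u d))]
    rw [hT, hS, hH, app, app, app]
  -- conjugates of shears
  have hkey : ∀ a : F, ∃ a' l l'' : F, (∀ u, σ a • A u = σ a' • D u) ∧ (∀ u, a • D u = a' • H u) ∧
      ∀ u, a • R u + l • A u = l'' • H u - σ a' • S u := by
    intro a
    have hazc : f₂ (a • z) c = 0 := by rw [C.h₂.smul_left, Fr.zc, mul_zero]
    obtain ⟨l, hl⟩ := exists_trace_neg C (a • z)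
    obtain ⟨E, hE, -, hEx⟩ := exists_shear C Fr.cc hazc hl
    have hEx' : ∀ x, mv E x = x + a • ten (pc x) z + ten (l • pc x - σ a • pz x) c := fun x => by
      rw [hEx, frow_smul C.h₂, ctr_smul_vec, LinearMap.smul_apply, ten_smul_right]
    have hEc : ∀ u, mv E (ten u c) = ten u c := fun u => by
      rw [hEx', vc1, vc2, smul_zero, smul_zero, sub_zero, ten_zero_left, ten_zero_left, smul_zero, add_zero, add_zero]
    have hh : g * E * g⁻¹ ∈ M := M.mul_mem (M.mul_mem hg hE) (M.inv_mem hg)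
    have hhfix : ∀ u, mv (g * E * g⁻¹) (ten u c) = ten u c := fun u => by
      obtain ⟨v, hv⟩ := gback u
      rw [mv_mul, mv_mul, hv, hEc, ← hv, mv_mv_inv]
    obtain ⟨φ, hφ, hφx⟩ := middle_scalar C hC hc hiso hh hhfix fun x hx => by
      rw [mv_mul, mv_mul, hEx', gperp' x hx, ten_zero_left, smul_zero, add_zero, smul_zero, zero_sub,
        mv_add, mv_mv_inv, add_sub_cancel_left, gc]
      exact ten_mem_line _ _
    obtain ⟨v, hv⟩ := frow_surj C.h₂ (-φ)
    have hvc : f₂ v c = 0 := by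
      rw [f_eq_zero_comm C.h₂, ← frow_dot C.h₂, hv, neg_dotProduct, hφ, neg_zero]
    obtain ⟨m, hm⟩ := exists_trace_neg C v
    obtain ⟨E', hE', -, hE'x⟩ := exists_shear C Fr.cc hvc hm
    obtain ⟨s, -, hsx⟩ := hC c hc hiso (E'⁻¹ * (g * E * g⁻¹)) (M.mul_mem (M.inv_mem hE') hh) fun x hx => by
      rw [mv_mul, mv_eq_iff, inv_inv, hφx x hx, hE'x, hx, ten_zero_left, add_zero, smul_zero, zero_sub,
        hv, show (-φ : β → F) = (0 : β → F) - φ by rw [zero_sub], ctr_sub_vec, ctr_zero_vec,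
        LinearMap.sub_apply, LinearMap.zero_apply, zero_sub, neg_neg]
    obtain ⟨a', b', hab⟩ : ∃ a' b' : F, v = a' • z + b' • c := ⟨f₂ v z, f₂ v d, by
      conv_lhs => rw [Fr.expand v, hvc, zero_smul, add_zero]
      exact add_comm _ _⟩
    refine ⟨a', l, b' + m + s - σ b', ?_⟩
    have hconj : ∀ y, mv g (mv E y) = mv g y + a' • ten (pc (mv g y)) z +
        ten ((b' + m + s - σ b') • pc (mv g y) - σ a' • pz (mv g y)) c := by
      intro y
      have e : mv g (mv E y) = mv E' (mv g y + s • ten (pc (mv g y)) c) := by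
        rw [← hsx]
        simp only [mv_mul, mv_inv_mv, mv_mv_inv]
      have e' : mv E' (ten (pc (mv g y)) c) = ten (pc (mv g y)) c := by
        rw [hE'x, hpc, ctr_ten, ctr_ten, frow_dot C.h₂, frow_dot C.h₂, hiso, (f_eq_zero_comm C.h₂).1 hvc]
        simp [ten_zero_left]
      rw [e, mv_add, mv_smul, e', hE'x, hab, frow_add C.h₂, frow_smul C.h₂, frow_smul C.h₂, ctr_add_vec,
        ctr_smul_vec, ctr_smul_vec, LinearMap.add_apply, LinearMap.smul_apply, LinearMap.smul_apply,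
        ten_add_right, ten_smul_right, ten_smul_right]
      simp only [ten_sub_left, ten_smul_left, ten_add_left, ← hpc, ← hpz]
      module
    refine ⟨fun u => rho_injective hc ?_, fun u => ?_, fun u => ?_⟩
    · have e := hconj (ten u z)
      simp only [hEx', vz1, vz2, gperp _ (vz1 u), smul_zero, zero_sub, ten_zero_left, add_zero, mv_add, gz,
        ten_neg_left, ten_smul_left, mv_neg, mv_smul, gc, map_add, vc1, vc2, zero_add, ten_sub_left, zero_smul] at e
      show ten (σ a • A u) c = ten (σ a' • D u) c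
      rw [ten_smul_left, ten_smul_left]
      linear_combination (norm := module) -e
    · have e := congrArg pz (hconj (ten u d))
      rw [hEx', vd1, vd2, mv_add, mv_add, mv_smul, gz, ten_sub_left, ten_smul_left, ten_smul_left, mv_sub,
        mv_smul, mv_smul, gc, gc, gd] at e
      simp only [map_add, map_sub, map_smul, vc1, vc2, vz1, vz2, vd1, vd2, smul_zero, add_zero,
        zero_add, sub_zero] at e
      linear_combination (norm := module) e
    · have e := congrArg pd (hconj (ten u d))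
      rw [hEx', vd1, vd2, mv_add, mv_add, mv_smul, gz, ten_sub_left, ten_smul_left, ten_smul_left, mv_sub,
        mv_smul, mv_smul, gc, gc, gd] at e
      simp only [map_add, map_sub, map_smul, vc1, vc2, vc3, vz1, vz2, vz3, vd1, vd2, vd3, smul_zero,
        add_zero, zero_add, sub_zero, map_zero] at e
      linear_combination (norm := module) e
  -- all blocks are multiples of D
  obtain ⟨i₀⟩ := ‹Nonempty α›
  set u₀ : α → F := Pi.single i₀ 1
  have hu₀ : u₀ ≠ 0 := by simp [u₀]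
  have hAinj : ∀ u, u ≠ 0 → A u ≠ 0 := fun u hu h => by
    have := gc u
    rw [h, ten_zero_left] at this
    exact ten_ne_zero hu hc (mv_inj g (this.trans (mv_zero g).symm))
  obtain ⟨a₁, l₁, l₁', e1, e2, e3⟩ := hkey 1
  simp only [map_one, one_smul] at e1 e2 e3
  set lam := σ a₁ with hlam
  have hlam0 : lam ≠ 0 := fun h => hAinj u₀ hu₀ (by rw [e1, h, zero_smul])
  have ha₁ : a₁ ≠ 0 := fun h => hlam0 (by rw [hlam, h, map_zero])
  have hDu₀ : D u₀ ≠ 0 := fun h => hAinj u₀ hu₀ (by rw [e1, h, smul_zero])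
  set μ := a₁⁻¹ with hμ
  have hμ' : μ ≠ 0 := inv_ne_zero ha₁
  have hσμ : lam * σ μ = 1 := by rw [hlam, hμ, map_inv₀, mul_inv_cancel₀ hlam0]
  have hHD : ∀ u, H u = μ • D u := fun u => by
    rw [e2 u, smul_smul, hμ, inv_mul_cancel₀ ha₁, one_smul]
  obtain ⟨η, hη⟩ := exists_not_fixed C.h₂.ne_refl
  obtain ⟨a₂, l₂, l₂', f1, f2, f3⟩ := hkey η
  have hσa₂ : σ a₂ = σ η * lam := by
    have := f1 u₀
    rw [e1, smul_smul] at this
    by_contra hne
    refine hDu₀ ((smul_eq_zero.1 (?_ : (σ a₂ - σ η * lam) • D u₀ = 0)).resolve_left (sub_ne_zero.2 hne))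
    linear_combination (norm := module) -this
  have hden : (η - σ η) * lam ≠ 0 := mul_ne_zero hη hlam0
  obtain ⟨s, hsD⟩ : ∃ s : F, ∀ u, S u = s • D u :=
    ⟨(η * (l₁' * μ - l₁ * lam) - (l₂' * μ - l₂ * lam)) / ((η - σ η) * lam), fun u => by
      have g3 := f3 u
      have g1 := e3 u
      rw [e1, hHD] at g1 g3
      rw [hσa₂] at g3
      have key : ((η - σ η) * lam) • S u =
          (η * (l₁' * μ - l₁ * lam) - (l₂' * μ - l₂ * lam)) • D u := by
        linear_combination (norm := module) η • g1 - g3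
      rw [div_eq_inv_mul, mul_smul, ← key, smul_smul, inv_mul_cancel₀ hden, one_smul]⟩
  obtain ⟨r, hrD⟩ : ∃ r : F, ∀ u, R u = r • D u := ⟨l₁' * μ - l₁ * lam - lam * s, fun u => by
    have g1 := e3 u
    rw [e1, hHD, hsD] at g1
    linear_combination (norm := module) g1⟩
  have gz' : ∀ u, mv g (ten u z) = ten (D u) (z + r • c) := fun u => by
    rw [gz, hrD, ten_add_right, ten_smul_right, ten_smul_left]; abel
  have gd' : ∀ u, mv g (ten u d) = ten (T u) c + ten (D u) (s • z + μ • d) := fun u => by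
    rw [gd, hsD, hHD, ten_add_right, ten_smul_right, ten_smul_right, ten_smul_left, ten_smul_left]; abel
  have hDiso : ∀ u v, f₁ (D u) (D v) = f₁ u v := fun u v => by
    have e := C.iso hg (ten u z) (ten v z)
    rw [gz', gz', tf_ten C.h₁ C.h₂, tf_ten C.h₁ C.h₂, C.h₂.add_left, Herm.add_right C.h₂, Herm.add_right C.h₂,
      C.h₂.smul_left, C.h₂.smul_left, Herm.smul_right C.h₂, Herm.smul_right C.h₂, Fr.zz, Fr.cz, Fr.zc,
      Fr.cc] at e
    linear_combination e
  have hrs : r * σ μ + σ s = 0 := by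
    obtain ⟨v, hv⟩ := (C.h₁.nondegenerate u₀ hu₀).2
    have e := C.iso hg (ten u₀ z) (ten v d)
    rw [gz', gd', Herm.add_right C.hf, tf_ten C.h₁ C.h₂, tf_ten C.h₁ C.h₂, tf_ten C.h₁ C.h₂,
      C.h₂.add_left, C.h₂.add_left, C.h₂.smul_left, C.h₂.smul_left, Herm.add_right C.h₂,
      Herm.add_right C.h₂, Herm.smul_right C.h₂, Herm.smul_right C.h₂, Herm.smul_right C.h₂,
      Herm.smul_right C.h₂, Fr.zz, Fr.cz, Fr.zc, Fr.cc, Fr.cd, Fr.zd, hDiso] at e
    have e' : f₁ u₀ v * (r * σ μ + σ s) = 0 := by linear_combination e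
    exact (mul_eq_zero.1 e').resolve_left hv
  obtain ⟨x, hx⟩ := exists_trace C.h₂.ne_refl C.h₂.involutive (-(s * σ s))
    (by rw [map_neg, map_mul, C.h₂.involutive, mul_comm])
  set τ := x * lam with hτ
  let Γ : (β → F) →ₗ[F] β → F := (formH C.h₂ d).smulRight (lam • c) + (formH C.h₂ z).smulRight (z + r • c) +
    (formH C.h₂ c).smulRight (τ • c + s • z + μ • d)
  have hΓ : ∀ w, Γ w = f₂ w d • (lam • c) + f₂ w z • (z + r • c) + f₂ w c • (τ • c + s • z + μ • d) :=
    fun w => rfl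
  have hσμ' : μ * σ lam = 1 := by
    rw [hlam, C.h₂.involutive, hμ, inv_mul_cancel₀ ha₁]
  have hrs' : σ r * μ + s = 0 := by
    have := congrArg σ hrs
    rw [map_add, map_mul, map_zero, C.h₂.involutive, C.h₂.involutive] at this
    exact this
  have hΓiso : ∀ w w', f₂ (Γ w) (Γ w') = f₂ w w' := fun w w' => by
    conv_rhs => rw [Fr.expand w]
    simp only [hΓ, C.h₂.add_left, Herm.add_right C.h₂, C.h₂.smul_left, Herm.smul_right C.h₂, Fr.cc, Fr.zz,
      Fr.dd, Fr.cd, Fr.dc, Fr.cz, Fr.zc, Fr.zd, Fr.dz, C.h₂.herm c w', C.h₂.herm z w', C.h₂.herm d w', hτ,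
      map_mul]
    linear_combination (f₂ w d * σ (f₂ w' c)) * hσμ + (f₂ w z * σ (f₂ w' c)) * hrs +
      (f₂ w c * σ (f₂ w' z)) * hrs' + (f₂ w c * σ (f₂ w' d)) * hσμ' + (f₂ w c * σ (f₂ w' c)) * hx +
      (f₂ w c * σ (f₂ w' c) * x) * hσμ + (f₂ w c * σ (f₂ w' c) * σ x) * hσμ'
  obtain ⟨D', hD', hD'v⟩ := exists_gl_of_iso C.h₁ D hDiso
  obtain ⟨B', hB', hB'v⟩ := exists_gl_of_iso C.h₂ Γ hΓiso
  have hKc : ∀ u, mv (kr D' B') (ten u c) = ten (D u) (lam • c) := fun u => by
    rw [mv_kr_ten, hD'v, hB'v, hΓ, Fr.cd, Fr.cz, Fr.cc]; simp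
  have hKz : ∀ u, mv (kr D' B') (ten u z) = ten (D u) (z + r • c) := fun u => by
    rw [mv_kr_ten, hD'v, hB'v, hΓ, Fr.zd, Fr.zz, Fr.zc]; simp
  have hKd : ∀ u, mv (kr D' B') (ten u d) = ten (D u) (τ • c + s • z + μ • d) := fun u => by
    rw [mv_kr_ten, hD'v, hB'v, hΓ, Fr.dd, Fr.dz, Fr.dc]; simp
  obtain ⟨T', hT'⟩ : ∃ T' : (α → F) →ₗ[F] α → F, ∀ u, lam • D (T' u) = T u - τ • D u := by
    refine ⟨lam⁻¹ • (mvLin D'⁻¹).comp (T - τ • D), fun u => ?_⟩
    rw [LinearMap.smul_apply, map_smul, smul_smul, mul_inv_cancel₀ hlam0, one_smul, ← hD'v,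
      LinearMap.comp_apply, Matrix.toLin'_apply]
    show mv D' (mv D'⁻¹ _) = _
    rw [mv_mv_inv]; rfl
  set K := kr D' B' with hK
  have hgK : ∀ y, mv g y = mv K (y + ten (T' (pc y)) c) := by
    intro y
    conv_lhs => rw [ex y, mv_add, mv_add, gc, gz', gd', e1]
    conv_rhs => rw [ex y, mv_add, mv_add, mv_add, hKc, hKz, hKd, ← ex y, hKc]
    simp only [ten_add_right, ten_smul_right, ten_smul_left]
    have e := congrArg (fun v : α → F => ten v c) (hT' (pc y))
    simp only [ten_sub_left, ten_smul_left] at e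
    linear_combination (norm := module) -e
  have hg' : ∀ y, mv (K⁻¹ * g) y = y + ten (T' (pc y)) c := fun y => by
    rw [mv_mul, hgK, mv_inv_mv]
  have hdet : ((K⁻¹ * g : GL (α × β) F) : Matrix (α × β) (α × β) F).det = 1 := by
    set U := LinearMap.toMatrix' (rho c : (α → F) →ₗ[F] α × β → F) with hU
    set V := LinearMap.toMatrix' (T'.comp pc) with hV
    have hval : ((K⁻¹ * g : GL (α × β) F) : Matrix (α × β) (α × β) F) = 1 + U * V :=
      Matrix.ext_of_mulVec_single fun i => by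
        rw [Matrix.add_mulVec, Matrix.one_mulVec, hU, hV, ← LinearMap.toMatrix'_comp, LinearMap.toMatrix'_mulVec]
        exact hg' _
    have hVU : V * U = 0 := by
      rw [hU, hV, ← LinearMap.toMatrix'_comp, show (T'.comp pc).comp (rho c) = 0 from
        LinearMap.ext fun u => by
          simp only [LinearMap.comp_apply, rho_apply, vc1, map_zero, LinearMap.zero_apply], map_zero]
    rw [hval, Matrix.det_one_add_mul_comm, hVU, add_zero, Matrix.det_one]
  have hKf : K ∈ preserving (Units.coeHom (Matrix (α × β) (α × β) F)) (tf σ f₁ f₂) := fun x y =>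
    preserves_of_ten C.h₁ C.h₂ (g := K) (fun u w v w' => by
      rw [hK, mv_kr_ten, mv_kr_ten, tf_ten C.h₁ C.h₂, tf_ten C.h₁ C.h₂,
        show f₁ (mv D' u) (mv D' v) = f₁ u v from hD' u v,
        show f₂ (mv B' w) (mv B' w') = f₂ w w' from hB' w w']) x y
  have hKS : K ∈ Geo.specialLinear (α × β) F := by
    refine MonoidHom.mem_ker.2 (Units.ext ?_)
    rw [Matrix.GeneralLinearGroup.val_det_apply, Units.val_one]
    have hgd : (g : Matrix (α × β) (α × β) F).det = 1 := congrArg Units.val (MonoidHom.mem_ker.1 (C.le_su hg).2)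
    rw [← hgd, show (g : Matrix (α × β) (α × β) F) = (K : Matrix (α × β) (α × β) F) *
      ((K⁻¹ * g : GL (α × β) F) : Matrix (α × β) (α × β) F) by rw [← Units.val_mul, mul_inv_cancel_left],
      Matrix.det_mul, hdet, mul_one]
  have hKM : K ∈ M := hfull K ⟨hKf, hKS⟩ (isKron_kr _ _)
  obtain ⟨s', -, hs'⟩ := hC c hc hiso (K⁻¹ * g) (M.mul_mem (M.inv_mem hKM) hg) fun y hy => by
    rw [hg', show pc y = 0 from hy, map_zero, ten_zero_left, add_zero]
  have : K⁻¹ * g = uT₂ C c hiso s' := ext_mv fun y => by rw [hs', mv_uT₂]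
  rw [← mul_inv_cancel_left K g, this]
  exact isKron_mul (isKron_kr _ _) (isKron_uT₂ C c hiso s')

/-- A member sending one isotropic line to a line is a Kronecker product. -/
theorem kron_of_line [Nonempty α] [Finite F] (hb : Fintype.card β = 3) (C : Ctx σ f₁ f₂ M)
    (hC : CentreScalar σ f₂ M)
    (hfull : ∀ g ∈ preserving (Units.coeHom (Matrix (α × β) (α × β) F)) (tf σ f₁ f₂) ⊓
      Geo.specialLinear (α × β) F, IsKron g → g ∈ M)
    {g : GL (α × β) F} (hg : g ∈ M) {c₀ c₁ : β → F} (hc₀ : c₀ ≠ 0) (hiso₀ : f₂ c₀ c₀ = 0) (hc₁ : c₁ ≠ 0)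
    (hiso₁ : f₂ c₁ c₁ = 0) (hmap : (line α c₀).map (mvLin g) = line α c₁) : IsKron g := by
  obtain ⟨B, hB, hBc⟩ := exists_move_su C.h₂ hb.ge hc₁ hc₀ hiso₁ hiso₀
  have hk : IsKron (kr 1 B * g) := by
    refine kron_of_line_self hb C hC hfull (M.mul_mem (C.memW B hB) hg) hc₀ hiso₀ ?_
    rw [← map_mv_mul, hmap]
    refine le_antisymm (fun x hx => ?_) (fun x hx => ?_)
    · obtain ⟨y, hy, rfl⟩ := mem_map_mv.1 hx
      obtain ⟨u, rfl⟩ := mem_line.1 hy
      rw [mv_kr_ten, mv_one, hBc]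
      exact ten_mem_line _ _
    · obtain ⟨u, rfl⟩ := mem_line.1 hx
      exact mem_map_mv.2 ⟨ten u c₁, ten_mem_line _ _, by rw [mv_kr_ten, mv_one, hBc]⟩
  have := isKron_mul (isKron_inv (isKron_kr (1 : GL α F) B)) hk
  rwa [inv_mul_cancel_left] at this

end Cfsg.Agent.TensorMax.U.Three
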