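/-
Facts about two by two matrices over a field with an involution, used for the tensor
decomposition of a six-dimensional hermitian space.
-/
import Cfsg.Agent.Lib.Transvec.Herm

set_option autoImplicit false
set_option linter.unusedSectionVars false

namespace Cfsg.Agent.TensorMax.U.Three

open scoped Matrix
open Matrix Cfsg.Agent.Transvec Cfsg.Agent.Transvec.Herm

variable {F : Type*} [Field F] {σ : F ≃+* F}

/-- The matrix is scalar. -/
def Sc (M : Matrix (Fin 2) (Fin 2) F) : Prop := M 0 1 = 0 ∧ M 1 0 = 0 ∧ M 0 0 = M 1 1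

theorem sc_smul_one (c : F) : Sc (c • (1 : Matrix (Fin 2) (Fin 2) F)) := by simp [Sc]

theorem sc_iff {M : Matrix (Fin 2) (Fin 2) F} : Sc M ↔ ∃ c : F, M = c • 1 := by
  refine ⟨fun ⟨h01, h10, h⟩ => ⟨M 0 0, ?_⟩, fun ⟨c, hc⟩ => hc ▸ sc_smul_one c⟩
  ext i j
  fin_cases i <;> fin_cases j <;> simp [h01, h10, h]

theorem Sc.add {M N : Matrix (Fin 2) (Fin 2) F} (hM : Sc M) (hN : Sc N) : Sc (M + N) := by
  simp [Sc, hM.1, hM.2.1, hM.2.2, hN.1, hN.2.1, hN.2.2]

theorem Sc.sub {M N : Matrix (Fin 2) (Fin 2) F} (hM : Sc M) (hN : Sc N) : Sc (M - N) := by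
  simp [Sc, hM.1, hM.2.1, hM.2.2, hN.1, hN.2.1, hN.2.2]

theorem Sc.smul {M : Matrix (Fin 2) (Fin 2) F} (hM : Sc M) (c : F) : Sc (c • M) := by
  simp [Sc, hM.1, hM.2.1, hM.2.2]

theorem Sc.neg {M : Matrix (Fin 2) (Fin 2) F} (hM : Sc M) : Sc (-M) := by
  simp [Sc, hM.1, hM.2.1, hM.2.2]

theorem Sc.of_smul {M : Matrix (Fin 2) (Fin 2) F} {c : F} (hc : c ≠ 0) (hM : Sc (c • M)) : Sc M := by
  have := hM.smul c⁻¹
  rwa [smul_smul, inv_mul_cancel₀ hc, one_smul] at this

theorem Sc.mul {M N : Matrix (Fin 2) (Fin 2) F} (hM : Sc M) (hN : Sc N) : Sc (M * N) := by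
  obtain ⟨a, rfl⟩ := sc_iff.1 hM
  obtain ⟨b, rfl⟩ := sc_iff.1 hN
  rw [smul_mul_assoc, one_mul, smul_smul]
  exact sc_smul_one _

/-- The conjugate transpose. -/
def dag (σ : F ≃+* F) (M : Matrix (Fin 2) (Fin 2) F) : Matrix (Fin 2) (Fin 2) F := (M.map σ)ᵀ

theorem dag_apply (M : Matrix (Fin 2) (Fin 2) F) (i j : Fin 2) : dag σ M i j = σ (M j i) := rfl

theorem dag_mul (M N : Matrix (Fin 2) (Fin 2) F) : dag σ (M * N) = dag σ N * dag σ M := by
  ext i j
  simp [dag_apply, Matrix.mul_apply, mul_comm]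

theorem dag_add (M N : Matrix (Fin 2) (Fin 2) F) : dag σ (M + N) = dag σ M + dag σ N := by
  ext i j; simp [dag_apply]

theorem dag_sub (M N : Matrix (Fin 2) (Fin 2) F) : dag σ (M - N) = dag σ M - dag σ N := by
  ext i j; simp [dag_apply]

theorem dag_smul (c : F) (M : Matrix (Fin 2) (Fin 2) F) : dag σ (c • M) = σ c • dag σ M := by
  ext i j; simp [dag_apply]

theorem dag_one : dag σ (1 : Matrix (Fin 2) (Fin 2) F) = 1 := by
  ext i j
  fin_cases i <;> fin_cases j <;> simp [dag_apply]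

theorem det_sub_smul (M : Matrix (Fin 2) (Fin 2) F) (l : F) :
    (M - l • 1).det = l * l - (M 0 0 + M 1 1) * l + M.det := by
  simp [Matrix.det_fin_two]; ring

theorem two_roots {M : Matrix (Fin 2) (Fin 2) F} {l m : F} (hlm : l ≠ m) (hl : (M - l • 1).det = 0)
    (hm : (M - m • 1).det = 0) : l + m = M 0 0 + M 1 1 := by
  rw [det_sub_smul] at hl hm
  have h : (l - m) * (l + m - (M 0 0 + M 1 1)) = 0 := by linear_combination hl - hm
  exact sub_eq_zero.1 ((mul_eq_zero.1 h).resolve_left (sub_ne_zero.2 hlm))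

theorem exists_nonsing_of_three {M : Matrix (Fin 2) (Fin 2) F} {a b c : F} (hab : a ≠ b) (hac : a ≠ c)
    (hbc : b ≠ c) :
    (M - a • 1).det ≠ 0 ∨ (M - b • 1).det ≠ 0 ∨ (M - c • 1).det ≠ 0 := by
  by_contra h
  push Not at h
  exact hbc (add_left_cancel ((two_roots hab h.1 h.2.1).trans (two_roots hac h.1 h.2.2).symm))

theorem exists_fixed_ne [Finite F] (hq : Nat.card (fixedField σ) ≠ 2) :
    ∃ ν : F, σ ν = ν ∧ ν ≠ 0 ∧ ν ≠ 1 := by
  by_contra hcon
  push Not at hcon
  have h2 : 2 ≤ Nat.card (fixedField σ) := Finite.one_lt_card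
  have hs : Function.Surjective (fun b : Bool => (cond b 1 0 : fixedField σ)) := fun x => by
    by_cases h : (x : F) = 0
    · exact ⟨false, Subtype.ext h.symm⟩
    · exact ⟨true, Subtype.ext (hcon x x.2 h).symm⟩
  have h3 := Nat.card_le_card_of_surjective _ hs
  rw [Nat.card_eq_fintype_card (α := Bool), Fintype.card_bool] at h3
  omega

/-- Either two anti shifts are invertible or the invertible one has trace zero in odd characteristic. -/
theorem shifts (M : Matrix (Fin 2) (Fin 2) F) {s ν : F} (hs0 : s ≠ 0) (hs : σ s = -s) (hν : σ ν = ν)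
    (hν0 : ν ≠ 0) (hν1 : ν ≠ 1) :
    (∃ l m : F, σ l = -l ∧ σ m = -m ∧ l ≠ m ∧ (M - l • 1).det ≠ 0 ∧ (M - m • 1).det ≠ 0) ∨
      ((2 : F) ≠ 0 ∧ ∃ l : F, σ l = -l ∧ (M - l • 1).det ≠ 0 ∧ M 0 0 + M 1 1 = 2 * l) := by
  set Q : Prop := (∃ l m : F, σ l = -l ∧ σ m = -m ∧ l ≠ m ∧ (M - l • 1).det ≠ 0 ∧ (M - m • 1).det ≠ 0) ∨
      ((2 : F) ≠ 0 ∧ ∃ l : F, σ l = -l ∧ (M - l • 1).det ≠ 0 ∧ M 0 0 + M 1 1 = 2 * l) with hQ
  have key : ∀ a b c : F, σ a = -a → σ b = -b → σ c = -c → a ≠ b → a ≠ c → b ≠ c →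
      (M - a • 1).det = 0 → (M - b • 1).det = 0 → (M - c • 1).det ≠ 0 → Q := by
    intro a b c ha hb hc hab hac hbc hA hB hC
    have hsum := two_roots hab hA hB
    by_cases h2 : (2 : F) = 0
    · refine Or.inl ⟨a + b + c, c, by rw [map_add, map_add, ha, hb, hc]; ring, hc,
        fun h => hab (by linear_combination h - b * h2), fun hd => ?_, hC⟩
      by_cases h : a + b + c = a
      · exact hbc (by linear_combination h - c * h2)
      · have := two_roots (Ne.symm h) hA hd
        exact hac (by linear_combination this - hsum - c * h2)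
    · by_cases hd : (M - (c + c - a) • 1).det = 0
      · by_cases h : c + c - a = a
        · exact absurd (mul_left_cancel₀ h2 (show 2 * c = 2 * a by linear_combination h)) (Ne.symm hac)
        · have := two_roots (Ne.symm h) hA hd
          exact Or.inr ⟨h2, c, hc, hC, by linear_combination -this⟩
      · exact Or.inl ⟨c + c - a, c, by rw [map_sub, map_add, ha, hc]; ring, hc,
          fun h => hac (by linear_combination -h), hd, hC⟩
  have z : σ (0 : F) = -0 := by rw [map_zero, neg_zero]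
  have n : σ (ν * s) = -(ν * s) := by rw [map_mul, hν, hs, mul_neg]
  have d1 : (0 : F) ≠ s := Ne.symm hs0
  have d2 : (0 : F) ≠ ν * s := Ne.symm (mul_ne_zero hν0 hs0)
  have d3 : s ≠ ν * s := fun h => hν1 (mul_right_cancel₀ hs0 (h.symm.trans (one_mul s).symm))
  by_cases A : (M - (0 : F) • 1).det = 0 <;> by_cases B : (M - s • 1).det = 0 <;>
    by_cases D : (M - (ν * s) • 1).det = 0
  · exact absurd (exists_nonsing_of_three (M := M) d1 d2 d3) (by simp_all)
  · exact key 0 s (ν * s) z hs n d1 d2 d3 A B D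
  · exact key 0 (ν * s) s z n hs d2 d1 (Ne.symm d3) A D B
  · exact Or.inl ⟨s, ν * s, hs, n, d3, B, D⟩
  · exact key s (ν * s) 0 hs n z d3 (Ne.symm d1) (Ne.symm d2) B D A
  · exact Or.inl ⟨0, ν * s, z, n, d2, A, D⟩
  · exact Or.inl ⟨0, s, z, hs, d1, A, B⟩
  · exact Or.inl ⟨0, s, z, hs, d1, A, B⟩

/-- If all the twisted sums are similitudes whenever invertible, both coefficient matrices are scalar. -/
theorem scalar_of_sum [Finite F] (hne : σ ≠ RingEquiv.refl F) (hinv : ∀ a, σ (σ a) = a)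
    (hq : Nat.card (fixedField σ) ≠ 2) {A T : Matrix (Fin 2) (Fin 2) F}
    (hT : T + dag σ T + dag σ A * A = 0)
    (hX : ∀ b e : F, e + σ e + b * σ b = 0 → (T + σ b • A + σ e • 1).det ≠ 0 →
      Sc ((T + σ b • A + σ e • 1) * dag σ (T + σ b • A + σ e • 1))) :
    Sc A ∧ Sc T := by
  obtain ⟨s, hs0, hs⟩ := exists_anti hne hinv
  obtain ⟨ν, hν, hν0, hν1⟩ := exists_fixed_ne hq
  obtain ⟨η, hη⟩ : ∃ η : F, σ η - η ≠ 0 := by
    by_contra h
    push Not at h
    exact hne (RingEquiv.ext fun a => sub_eq_zero.1 (h a))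
  have hT' : dag σ T = -T - dag σ A * A := by linear_combination (norm := module) hT
  have hP : ∀ b : F, Sc (dag σ (A - b • 1) * (A - b • 1)) ∨
      ((2 : F) ≠ 0 ∧ (dag σ (A - b • 1) * (A - b • 1)) 0 0 + (dag σ (A - b • 1) * (A - b • 1)) 1 1 = 0) := by
    intro b
    obtain ⟨e₀, he₀⟩ := exists_trace hne hinv (-(b * σ b)) (by rw [map_neg, map_mul, hinv, mul_comm])
    set M₀ := T + σ b • A + σ e₀ • (1 : Matrix (Fin 2) (Fin 2) F) with hM₀
    have hsum : dag σ (A - b • 1) * (A - b • 1) = -(M₀ + dag σ M₀) := by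
      rw [hM₀, dag_sub, dag_smul, dag_one, dag_add, dag_add, dag_smul, dag_smul, dag_one, hinv, hinv, hT']
      simp only [sub_mul, mul_sub, smul_mul_assoc, mul_smul_comm, one_mul, mul_one]
      linear_combination (norm := module) he₀ • (1 : Matrix (Fin 2) (Fin 2) F)
    have hXl : ∀ l : F, σ l = -l → (M₀ - l • 1).det ≠ 0 →
        Sc ((M₀ - l • 1) * (dag σ M₀ + l • 1)) := by
      intro l hl hd
      have e1 : T + σ b • A + σ (e₀ + l) • (1 : Matrix (Fin 2) (Fin 2) F) = M₀ - l • 1 := by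
        rw [hM₀, map_add, hl]; module
      have := hX b (e₀ + l) (by rw [map_add, hl]; linear_combination he₀) (by rwa [e1])
      rwa [e1, dag_sub, dag_smul, dag_one, hl, neg_smul, sub_neg_eq_add] at this
    rcases shifts M₀ hs0 hs hν hν0 hν1 with ⟨l, m, hl, hm, hlm, hdl, hdm⟩ | ⟨h2, l, hl, -, htr⟩
    · have hl' := hXl l hl hdl
      have hm' := hXl m hm hdm
      simp only [sub_mul, mul_add, smul_mul_assoc, mul_smul_comm, one_mul, mul_one] at hl' hm'
      have hS : Sc (M₀ - dag σ M₀) := by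
        refine Sc.of_smul (sub_ne_zero.2 hlm) ?_
        have := (hl'.sub hm').add ((sc_smul_one (F := F) (l * l - m * m)))
        convert this using 1
        module
      by_cases h2 : (2 : F) = 0
      · refine Or.inl ?_
        rw [hsum, show -(M₀ + dag σ M₀) = -(M₀ - dag σ M₀) from ?_]
        · exact hS.neg
        · have h0 : (2 : F) • dag σ M₀ = 0 := by rw [h2, zero_smul]
          linear_combination (norm := module) -h0
      have hN : Sc (M₀ * dag σ M₀) := by
        have := (hl'.sub (hS.smul l)).add (sc_smul_one (F := F) (l * l))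
        convert this using 1
        module
      obtain ⟨c, hc⟩ := sc_iff.1 hS
      have hd : dag σ M₀ = M₀ - c • 1 := by rw [← hc]; abel
      rw [hd, mul_sub, mul_smul_comm, mul_one] at hN
      set P := dag σ (A - b • 1) * (A - b • 1)
      have hP' : P = -((2 : F) • M₀ - c • 1) := by rw [hsum, hd]; module
      have hPP : Sc (P * P) := by
        have := (hN.smul 4).add (sc_smul_one (F := F) (c * c))
        convert this using 1
        rw [hP', neg_mul_neg]
        simp only [sub_mul, mul_sub, smul_mul_assoc, mul_smul_comm, one_mul, mul_one]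
        module
      by_cases ht : P 0 0 + P 1 1 = 0
      · exact Or.inr ⟨h2, ht⟩
      obtain ⟨p1, p2, p3⟩ := hPP
      simp [Matrix.mul_apply, Fin.sum_univ_two] at p1 p2 p3
      exact Or.inl ⟨(mul_eq_zero.1 (show P 0 1 * (P 0 0 + P 1 1) = 0 by linear_combination p1)).resolve_right ht,
        (mul_eq_zero.1 (show P 1 0 * (P 0 0 + P 1 1) = 0 by linear_combination p2)).resolve_right ht,
        sub_eq_zero.1 ((mul_eq_zero.1 (show (P 0 0 - P 1 1) * (P 0 0 + P 1 1) = 0 by
          linear_combination p3)).resolve_right ht)⟩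
    · refine Or.inr ⟨h2, ?_⟩
      have htr' := congrArg σ htr
      rw [map_add, map_mul, map_ofNat, hl] at htr'
      rw [hsum]
      simp only [Matrix.neg_apply, Matrix.add_apply, dag_apply]
      linear_combination -htr - htr'
  have expand : ∀ (B : Matrix (Fin 2) (Fin 2) F) (b : F), dag σ (B - b • 1) * (B - b • 1) =
      dag σ B * B - b • dag σ B - σ b • B + (σ b * b) • (1 : Matrix (Fin 2) (Fin 2) F) := by
    intro B b
    rw [dag_sub, dag_smul, dag_one]
    simp only [sub_mul, mul_sub, smul_mul_assoc, mul_smul_comm, one_mul, mul_one, smul_smul]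
    module
  have hA : Sc A := by
    by_cases h2 : (2 : F) = 0
    · have hPs : ∀ b : F, Sc (dag σ A * A - b • dag σ A - σ b • A) := fun b => by
        have := (((hP b).resolve_right fun h => h.1 h2)).sub (sc_smul_one (F := F) (σ b * b))
        rw [expand] at this
        simpa using this
      refine Sc.of_smul hη ?_
      have h0 := hPs 0
      rw [map_zero, zero_smul, zero_smul, sub_zero, sub_zero] at h0
      have h1 := (h0.sub (hPs 1)).smul η
      have h3 := h0.sub (hPs η)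
      rw [map_one] at h1
      have := h3.sub h1
      convert this using 1
      module
    set α := (A 0 0 + A 1 1) / 2 with hα
    set A₀ := A - α • (1 : Matrix (Fin 2) (Fin 2) F) with hA₀
    have htr0 : A₀ 0 0 + A₀ 1 1 = 0 := by simp [hA₀, hα]; field_simp; ring
    obtain ⟨R, hR⟩ : ∃ R, R = (dag σ A₀ * A₀) 0 0 + (dag σ A₀ * A₀) 1 1 := ⟨_, rfl⟩
    have hφ : ∀ β : F, R + 2 * (σ β * β) ≠ 0 → Sc (dag σ A₀ * A₀ - β • dag σ A₀ - σ β • A₀) := by
      intro β hβ
      have e : A - (α + β) • (1 : Matrix (Fin 2) (Fin 2) F) = A₀ - β • 1 := by rw [hA₀]; module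
      have := hP (α + β)
      rw [e, expand] at this
      rcases this with h | ⟨-, h⟩
      · simpa using h.sub (sc_smul_one (F := F) (σ β * β))
      · refine absurd ?_ hβ
        have hd0 : σ (A₀ 0 0) + σ (A₀ 1 1) = 0 := by rw [← map_add, htr0, map_zero]
        simp [dag_apply] at h
        linear_combination h + hR + β * hd0 + σ β * htr0
    obtain ⟨r, hr, hr0, hrR⟩ : ∃ r : F, σ r = r ∧ r ≠ 0 ∧ R + 2 * r ≠ 0 := by
      by_cases h : R + 2 * 1 = 0
      · exact ⟨ν, hν, hν0, fun h' => hν1 (mul_left_cancel₀ h2 (by linear_combination h' - h))⟩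
      · exact ⟨1, map_one σ, one_ne_zero, h⟩
    obtain ⟨β, hβ⟩ := exists_norm hne hinv r hr
    have hs1 : (1 : F) - s ≠ 0 := fun h => h2 (by
      have h1 : s = 1 := by linear_combination -h
      have := hs
      rw [h1, map_one] at this
      linear_combination this)
    have hs2 : (1 : F) + s ≠ 0 := fun h => hs1 (by
      have := congrArg σ h
      rw [map_add, map_one, map_zero, hs] at this
      linear_combination this)
    obtain ⟨ζ, hζ⟩ : ∃ ζ, ζ = (1 + s) / (1 - s) := ⟨_, rfl⟩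
    have hσζ : σ ζ = (1 - s) / (1 + s) := by
      rw [hζ, map_div₀, map_add, map_sub, map_one, hs, sub_neg_eq_add, ← sub_eq_add_neg]
    have hN : σ ζ * ζ = 1 := by rw [hσζ, hζ]; field_simp
    have hζne : σ ζ - ζ ≠ 0 := by
      rw [hσζ, hζ, div_sub_div _ _ hs2 hs1]
      refine div_ne_zero (fun h => hs0 ?_) (mul_ne_zero hs2 hs1)
      have h4 : (2 : F) * 2 * s = 0 := by linear_combination -h
      exact (mul_eq_zero.1 h4).resolve_left (mul_ne_zero h2 h2)
    have hc : R + 2 * (σ β * β) ≠ 0 := by rw [mul_comm (σ β), hβ]; exact hrR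
    have f1 := hφ β hc
    have f2 := hφ (-β) (by rw [map_neg, neg_mul_neg]; exact hc)
    have f3 := hφ (β * ζ) (by rw [map_mul, show σ β * σ ζ * (β * ζ) = σ β * β by linear_combination (σ β * β) * hN]; exact hc)
    rw [map_neg] at f2
    rw [map_mul] at f3
    have hN0 : Sc (dag σ A₀ * A₀) := by
      refine Sc.of_smul h2 ?_
      have := f1.add f2
      convert this using 1
      module
    have hne' : β * σ β * (σ ζ - ζ) ≠ 0 := mul_ne_zero (by rw [hβ]; exact hr0) hζne
    have hA0 : Sc A₀ := by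
      refine Sc.of_smul hne' ?_
      have g1 := ((f1.sub hN0).smul (β * ζ))
      have g3 := ((f3.sub hN0).smul β)
      have := g1.sub g3
      convert this using 1
      module
    have := hA0.add (sc_smul_one (F := F) α)
    rwa [hA₀, sub_add_cancel] at this
  refine ⟨hA, ?_⟩
  obtain ⟨α, rfl⟩ := sc_iff.1 hA
  have hT'' : dag σ T = -T - (σ α * α) • (1 : Matrix (Fin 2) (Fin 2) F) := by
    rw [hT', dag_smul, dag_one, smul_mul_assoc, one_mul, smul_smul]
  have hk : ∀ k₀ : F, ∃ k, σ k - k = σ k₀ - k₀ ∧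
      Sc ((T + k • 1) * (-T - (σ α * α) • 1 + σ k • 1)) := by
    intro k₀
    obtain ⟨k, hk, hd⟩ : ∃ k, σ k - k = σ k₀ - k₀ ∧ (T + k • (1 : Matrix (Fin 2) (Fin 2) F)).det ≠ 0 := by
      have e : ∀ k : F, T + k • (1 : Matrix (Fin 2) (Fin 2) F) = T - (-k) • 1 := fun k => by
        rw [neg_smul, sub_neg_eq_add]
      rcases exists_nonsing_of_three (M := T) (a := -k₀) (b := -(k₀ + 1)) (c := -(k₀ + ν))
          (fun h => one_ne_zero (α := F) (by linear_combination h)) (fun h => hν0 (by linear_combination h))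
          (fun h => hν1 (by linear_combination h)) with h | h | h
      · exact ⟨k₀, rfl, by rwa [e]⟩
      · exact ⟨k₀ + 1, by rw [map_add, map_one]; ring, by rwa [e]⟩
      · exact ⟨k₀ + ν, by rw [map_add, hν]; ring, by rwa [e]⟩
    refine ⟨k, hk, ?_⟩
    obtain ⟨a, ha⟩ := exists_norm hne hinv (α * σ α - k - σ k)
      (by rw [map_sub, map_sub, map_mul, hinv, hinv]; ring)
    have e1 : T + σ (α + a) • α • (1 : Matrix (Fin 2) (Fin 2) F) + σ (σ k - (α + a) * σ α) • 1 =
        T + k • 1 := by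
      rw [map_sub, map_mul, hinv, hinv]; module
    have := hX (α + a) (σ k - (α + a) * σ α)
      (by rw [map_sub, map_mul, hinv, hinv, map_add]; linear_combination ha)
      (by rwa [e1])
    rwa [e1, dag_add, dag_smul, dag_one, hT''] at this
  obtain ⟨k, hk0, hk1⟩ := hk 0
  obtain ⟨m, hm0, hm1⟩ := hk η
  rw [map_zero, sub_zero] at hk0
  refine Sc.of_smul hη ?_
  have := (hm1.sub hk1).sub (sc_smul_one (F := F)
    (m * (σ m - σ α * α) - k * (σ k - σ α * α)))
  convert this using 1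
  simp only [add_mul, mul_add, mul_sub, mul_neg, smul_mul_assoc, mul_smul_comm, one_mul, mul_one]
  rw [← hm0]
  linear_combination (norm := module) hk0 • T

/-- A linear family of singular two by two matrices without common kernel has a common image line. -/
theorem common_image {V : Type*} [AddCommGroup V] [Module F V] (L : V →ₗ[F] Matrix (Fin 2) (Fin 2) F)
    (hL : ∀ v, (L v).det = 0) (hker : ∀ x : Fin 2 → F, x ≠ 0 → ∃ v, L v *ᵥ x ≠ 0) :
    ∃ p : Fin 2 → F, p ≠ 0 ∧ ∀ v x, ∃ a : F, L v *ᵥ x = a • p := by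
  set cr : (Fin 2 → F) → (Fin 2 → F) → F := fun x y => x 0 * y 1 - x 1 * y 0 with hcr
  have span_of : ∀ {p y : Fin 2 → F}, p ≠ 0 → cr y p = 0 → ∃ a : F, y = a • p := by
    intro p y hp h
    by_cases h0 : p 0 = 0
    · have h1 : p 1 ≠ 0 := fun h1 => hp (funext fun i => by fin_cases i <;> assumption)
      refine ⟨y 1 / p 1, funext fun i => ?_⟩
      simp only [hcr, h0, mul_zero, sub_zero, mul_eq_zero] at h
      fin_cases i <;> simp [h0, h1, h.resolve_right h1]
    · refine ⟨y 0 / p 0, funext fun i => ?_⟩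
      fin_cases i
      · simp [h0]
      · simp only [hcr] at h
        simp
        field_simp
        linear_combination -h
  have self : ∀ v u w, cr (L v *ᵥ u) (L v *ᵥ w) = 0 := fun v u w => by
    have h := hL v
    rw [Matrix.det_fin_two] at h
    simp [hcr, Matrix.mulVec, dotProduct, Fin.sum_univ_two]
    linear_combination (u 0 * w 1 - u 1 * w 0) * h
  have pol : ∀ v v' u w, cr (L v *ᵥ u) (L v' *ᵥ w) + cr (L v' *ᵥ u) (L v *ᵥ w) = 0 := fun v v' u w => by
    have h := self (v + v') u w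
    rw [map_add, Matrix.add_mulVec, Matrix.add_mulVec] at h
    have h1 := self v u w
    have h2 := self v' u w
    simp only [hcr, Pi.add_apply] at h h1 h2 ⊢
    linear_combination h - h1 - h2
  obtain ⟨v₁, hv₁⟩ : ∃ v, L v ≠ 0 := by
    obtain ⟨v, hv⟩ := hker (Pi.single 0 1) (by simp)
    exact ⟨v, fun h => hv (by rw [h, Matrix.zero_mulVec])⟩
  obtain ⟨k, hk0, hk⟩ := Matrix.exists_mulVec_eq_zero_iff.2 (hL v₁)
  obtain ⟨v₂, hv₂⟩ := hker k hk0
  set p := L v₂ *ᵥ k with hp
  have hA : ∀ u, ∃ a : F, L v₁ *ᵥ u = a • p := fun u => span_of hv₂ (by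
    have := pol v₁ v₂ u k
    rw [hk] at this
    simp only [hcr, Pi.zero_apply, ← hp] at this ⊢
    linear_combination this)
  have hB : ∀ u, ∃ a : F, L v₂ *ᵥ u = a • p := fun u => span_of hv₂ (self v₂ u k)
  obtain ⟨u₀, hu₀⟩ : ∃ u, L v₁ *ᵥ u ≠ 0 := by
    by_contra h
    push Not at h
    exact hv₁ (Matrix.ext_of_mulVec_single fun i => by rw [h, Matrix.zero_mulVec])
  obtain ⟨a, ha⟩ := hA u₀
  have ha0 : a ≠ 0 := fun h => hu₀ (by rw [ha, h, zero_smul])
  refine ⟨p, hv₂, fun v x => span_of hv₂ ?_⟩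
  have hk' : cr (L v *ᵥ k) p = 0 := by
    have := pol v v₁ k u₀
    rw [hk, ha] at this
    simp only [hcr, Pi.zero_apply, Pi.smul_apply, smul_eq_mul] at this ⊢
    have h' : a * ((L v *ᵥ k) 0 * p 1 - (L v *ᵥ k) 1 * p 0) = 0 := by linear_combination this
    exact (mul_eq_zero.1 h').resolve_left ha0
  obtain ⟨b, hb⟩ := hB x
  have := pol v v₂ x k
  rw [← hp, hb] at this
  simp only [hcr, Pi.smul_apply, smul_eq_mul] at this hk' ⊢
  linear_combination this + b * hk'

end Cfsg.Agent.TensorMax.U.Three
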