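/-
The stabiliser of a tensor decomposition of a six-dimensional hermitian space into factors of
dimensions two and three is maximal in the special unitary group when q is at least three.
-/
import Cfsg.Agent.Lib.TensorMax.UThreeMat
import Cfsg.Agent.Lib.TensorMax.UThreeLine

set_option autoImplicit false
set_option linter.unusedSectionVars false
set_option maxHeartbeats 800000

namespace Cfsg.Agent.TensorMax.U.Three

open scoped Matrix Kronecker
open Matrix Cfsg.Agent.Transvec Cfsg.Agent.Transvec.Herm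

variable {β : Type} [Fintype β] [DecidableEq β] {F : Type*} [Field F]
variable {σ : F ≃+* F} {f₁ : (Fin 2 → F) → (Fin 2 → F) → F} {f₂ : (β → F) → (β → F) → F}
variable {M : Subgroup (GL (Fin 2 × β) F)}

/-- An orthonormal basis of the plane. -/
structure Onb (f : (Fin 2 → F) → (Fin 2 → F) → F) (z : Fin 2 → Fin 2 → F) : Prop where
  orth : ∀ i j, f (z i) (z j) = if i = j then 1 else 0
  expand : ∀ u, u = ∑ i, f u (z i) • z i

theorem exists_onb [Finite F] (hf : Geo.IsUnitaryForm σ f₁) : ∃ z, Onb f₁ z := by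
  obtain ⟨z, -, hzz, hz⟩ := exists_orthonormal hf 2 (nondeg_top hf)
    (by rw [finrank_top, Module.finrank_fintype_fun_eq_card, Fintype.card_fin])
  exact ⟨z, hzz, fun u => hz u Submodule.mem_top⟩

/-- The matrix of a linear map in an orthonormal basis. -/
def mt (hf : Geo.IsUnitaryForm σ f₁) (z : Fin 2 → Fin 2 → F) :
    ((Fin 2 → F) →ₗ[F] Fin 2 → F) →ₗ[F] Matrix (Fin 2) (Fin 2) F where
  toFun Y := Matrix.of fun i j => f₁ (Y (z j)) (z i)
  map_add' Y Y' := by ext i j; simp [hf.add_left]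
  map_smul' a Y := by ext i j; simp [hf.smul_left]

theorem mt_apply (hf : Geo.IsUnitaryForm σ f₁) (z : Fin 2 → Fin 2 → F) (Y : (Fin 2 → F) →ₗ[F] Fin 2 → F)
    (i j : Fin 2) : mt hf z Y i j = f₁ (Y (z j)) (z i) := rfl

section Basis

variable (hf : Geo.IsUnitaryForm σ f₁) {z : Fin 2 → Fin 2 → F} (hz : Onb f₁ z)
include hz

theorem mt_mulVec (Y : (Fin 2 → F) →ₗ[F] Fin 2 → F) (u : Fin 2 → F) :
    mt hf z Y *ᵥ (fun i => f₁ u (z i)) = fun i => f₁ (Y u) (z i) := by
  funext i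
  conv_rhs => rw [hz.expand u]
  rw [map_sum, Herm.sum_left hf]
  simp only [Matrix.mulVec, dotProduct, mt_apply, map_smul, hf.smul_left]
  exact Finset.sum_congr rfl fun j _ => mul_comm _ _

theorem mt_comp (Y Y' : (Fin 2 → F) →ₗ[F] Fin 2 → F) :
    mt hf z (Y.comp Y') = mt hf z Y * mt hf z Y' := by
  ext i j
  rw [mt_apply, LinearMap.comp_apply]
  exact (congrFun (mt_mulVec hf hz Y (Y' (z j))) i).symm

theorem mt_id : mt hf z LinearMap.id = 1 := by
  ext i j
  rw [mt_apply, LinearMap.id_apply, hz.orth, Matrix.one_apply]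
  by_cases h : i = j
  · rw [if_pos h, if_pos h.symm]
  · rw [if_neg h, if_neg (Ne.symm h)]

theorem coords_zero {u : Fin 2 → F} (h : (fun i => f₁ u (z i)) = 0) : u = 0 := by
  rw [hz.expand u]
  exact Finset.sum_eq_zero fun i _ => by rw [show f₁ u (z i) = 0 from congrFun h i, zero_smul]

theorem mt_inj {Y Y' : (Fin 2 → F) →ₗ[F] Fin 2 → F} (h : mt hf z Y = mt hf z Y') : Y = Y' := by
  refine LinearMap.ext fun u => ?_
  have e := mt_mulVec hf hz Y u
  rw [h, mt_mulVec hf hz Y' u] at e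
  rw [hz.expand (Y u), hz.expand (Y' u)]
  exact Finset.sum_congr rfl fun i _ => by rw [show f₁ (Y' u) (z i) = f₁ (Y u) (z i) from congrFun e i]

theorem injective_of_det {Y : (Fin 2 → F) →ₗ[F] Fin 2 → F} (h : (mt hf z Y).det ≠ 0) :
    Function.Injective Y := by
  rw [← LinearMap.ker_eq_bot, LinearMap.ker_eq_bot']
  intro u hu
  refine coords_zero hz (Matrix.eq_zero_of_mulVec_eq_zero h ?_)
  rw [mt_mulVec hf hz, hu]
  exact funext fun i => Herm.zero_left hf _

theorem mt_adjoint {Y Y' : (Fin 2 → F) →ₗ[F] Fin 2 → F} (h : ∀ u v, f₁ (Y' u) v = f₁ u (Y v)) :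
    mt hf z Y' = dag σ (mt hf z Y) := by
  ext i j
  rw [mt_apply, dag_apply, mt_apply, h, ← hf.herm]

theorem dag_mt_mul (Y Y' : (Fin 2 → F) →ₗ[F] Fin 2 → F) (i j : Fin 2) :
    (dag σ (mt hf z Y) * mt hf z Y') i j = f₁ (Y' (z j)) (Y (z i)) := by
  conv_rhs => rw [hz.expand (Y (z i)), Herm.sum_right hf]
  rw [Matrix.mul_apply]
  exact Finset.sum_congr rfl fun k _ => by rw [dag_apply, mt_apply, mt_apply, Herm.smul_right hf]

end Basis

/-- The contraction by φ of the image of a line. -/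
def yop (g : GL (Fin 2 × β) F) (c₀ φ : β → F) : (Fin 2 → F) →ₗ[F] Fin 2 → F :=
  (ctr φ).comp ((mvLin g).comp (rho c₀))

theorem yop_apply (g : GL (Fin 2 × β) F) (c₀ φ : β → F) (u : Fin 2 → F) :
    yop g c₀ φ u = ctr φ (mv g (ten u c₀)) := by
  rw [yop, LinearMap.comp_apply, LinearMap.comp_apply, rho_apply, Matrix.toLin'_apply]

/-- The matrices of all contractions, as a linear map. -/
def yfam (hf : Geo.IsUnitaryForm σ f₁) (z : Fin 2 → Fin 2 → F) (g : GL (Fin 2 × β) F) (c₀ : β → F) :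
    (β → F) →ₗ[F] Matrix (Fin 2) (Fin 2) F where
  toFun φ := mt hf z (yop g c₀ φ)
  map_add' φ φ' := by simp [yop, ctr_add_vec, LinearMap.add_comp]
  map_smul' a φ := by simp [yop, ctr_smul_vec, LinearMap.smul_comp]

theorem exists_word {τ ν s ν' : F} (hτ : σ τ = τ) (hν : σ ν = ν) (hν0 : ν ≠ 0) (hs0 : s ≠ 0) (hs : σ s = -s)
    (hν' : σ ν' = ν') (hν'0 : ν' ≠ 0) (hν'1 : ν' ≠ 1) :
    ∃ a₂ a₄ b₁ b₃ b₅ : F, σ a₂ = -a₂ ∧ σ a₄ = -a₄ ∧ σ b₁ = -b₁ ∧ σ b₃ = -b₃ ∧ σ b₅ = -b₅ ∧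
      a₂ * b₁ * b₃ ≠ 0 ∧ b₁ + b₃ + b₅ = a₂ * a₄ * b₁ * b₃ * b₅ * ν ∧
      a₂ * b₁ * b₃ + b₅ * (a₂ * b₁ + a₄ * (b₁ + b₃)) = -(a₂ * a₄ * b₁ * b₃ * b₅ * τ) := by
  have mk : ∀ p r x y : F, σ p = p → σ r = r → σ x = x → σ y = y → p ≠ 0 → x ≠ 0 →
      x + 1 + y = p * r * x * y * ν → p * x + r * y * (x + 1) + p * x * y = -(p * r * x * y * τ) →
      ∃ a₂ a₄ b₁ b₃ b₅ : F, σ a₂ = -a₂ ∧ σ a₄ = -a₄ ∧ σ b₁ = -b₁ ∧ σ b₃ = -b₃ ∧ σ b₅ = -b₅ ∧
        a₂ * b₁ * b₃ ≠ 0 ∧ b₁ + b₃ + b₅ = a₂ * a₄ * b₁ * b₃ * b₅ * ν ∧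
        a₂ * b₁ * b₃ + b₅ * (a₂ * b₁ + a₄ * (b₁ + b₃)) = -(a₂ * a₄ * b₁ * b₃ * b₅ * τ) := by
    intro p r x y hp hr hx hy hp0 hx0 h1 h2
    refine ⟨s * p, s * r, x / s, 1 / s, y / s, by rw [map_mul, hs, hp, neg_mul], by rw [map_mul, hs, hr, neg_mul],
      by rw [map_div₀, hs, hx, div_neg], by rw [map_div₀, hs, map_one, div_neg],
      by rw [map_div₀, hs, hy, div_neg],
      mul_ne_zero (mul_ne_zero (mul_ne_zero hs0 hp0) (div_ne_zero hx0 hs0)) (div_ne_zero one_ne_zero hs0),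
      ?_, ?_⟩
    · field_simp
      linear_combination h1
    · field_simp
      linear_combination h2
  by_cases hτ0 : τ = 0
  · refine mk 1 (-1 / ν) (-1) (-1) (map_one σ) (by rw [map_div₀, map_neg, map_one, hν])
      (by rw [map_neg, map_one]) (by rw [map_neg, map_one]) one_ne_zero (neg_ne_zero.2 one_ne_zero) ?_ ?_
    · field_simp; ring
    · rw [hτ0]; ring
  · set x := -ν' with hx
    have hx0 : x ≠ 0 := neg_ne_zero.2 hν'0
    have hx1 : x + 1 ≠ 0 := fun h => hν'1 (by linear_combination -h)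
    have hσx : σ x = x := by rw [hx, map_neg, hν']
    set r := τ * x / (ν * (x + 1)) with hr
    have hσr : σ r = r := by rw [hr, map_div₀, map_mul, map_mul, map_add, map_one, hτ, hν, hσx]
    have hr0 : r ≠ 0 := div_ne_zero (mul_ne_zero hτ0 hx0) (mul_ne_zero hν0 hx1)
    refine mk (-1 / (ν * r)) r x (-1) (by rw [map_div₀, map_neg, map_one, map_mul, hν, hσr]) hσr hσx
      (by rw [map_neg, map_one]) (div_ne_zero (neg_ne_zero.2 one_ne_zero) (mul_ne_zero hν0 hr0)) hx0 ?_ ?_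
    · field_simp; ring
    · rw [hr]; field_simp; ring

theorem collinear (hf : Geo.IsUnitaryForm σ f₂) [Finite F] (hb : Fintype.card β = 3) {w w' : β → F}
    (hw : w ≠ 0) (h1 : f₂ w w = 0) (h2 : f₂ w' w' = 0) (h3 : f₂ w' w = 0) : ∃ a : F, w' = a • w := by
  obtain ⟨z, d, Fr⟩ := exists_frame hf hb hw h1
  have e := Fr.expand w'
  rw [h3, zero_smul, add_zero] at e
  have hN : f₂ w' w' = f₂ w' z * σ (f₂ w' z) := by
    conv_lhs => rw [e]
    simp only [hf.add_left, Herm.add_right hf, hf.smul_left, Herm.smul_right hf, h1, Fr.zz, Fr.cz, Fr.zc]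
    ring
  rw [h2, eq_comm, mul_eq_zero] at hN
  have hz : f₂ w' z = 0 := hN.elim id fun h => (map_eq_zero_iff σ σ.injective).1 h
  rw [hz, zero_smul, add_zero] at e
  exact ⟨_, e⟩

theorem det_comb (A B D : Matrix (Fin 2) (Fin 2) F) (a b e : F) :
    (a • A + b • B + e • D).det = a * a * A.det + b * b * B.det + e * e * D.det +
      a * b * (A 0 0 * B 1 1 + A 1 1 * B 0 0 - A 0 1 * B 1 0 - A 1 0 * B 0 1) +
      a * e * (A 0 0 * D 1 1 + A 1 1 * D 0 0 - A 0 1 * D 1 0 - A 1 0 * D 0 1) +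
      b * e * (B 0 0 * D 1 1 + B 1 1 * D 0 0 - B 0 1 * D 1 0 - B 1 0 * D 0 1) := by
  simp [Matrix.det_fin_two]
  ring

variable [Finite F]

/-- An invertible contraction is a similitude. -/
theorem word_scalar (hb : Fintype.card β = 3) (hq : Nat.card (fixedField σ) ≠ 2) (C : Ctx σ f₁ f₂ M)
    (hC : CentreScalar σ f₂ M)
    (hfull : ∀ g ∈ preserving (Units.coeHom (Matrix (Fin 2 × β) (Fin 2 × β) F)) (tf σ f₁ f₂) ⊓
      Geo.specialLinear (Fin 2 × β) F, IsKron g → g ∈ M)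
    {g : GL (Fin 2 × β) F} (hg : g ∈ M) {c₀ c : β → F} (h₀ : f₂ c₀ c₀ = 0) (hc : c ≠ 0)
    (hiso : f₂ c c = 0) {z : Fin 2 → Fin 2 → F} (hz : Onb f₁ z)
    (hdet : (mt C.h₁ z (yop g c₀ (frow f₂ c))).det ≠ 0) :
    Sc (mt C.h₁ z (yop g c₀ (frow f₂ c)) * dag σ (mt C.h₁ z (yop g c₀ (frow f₂ c)))) := by
  classical
  set Y := yop g c₀ (frow f₂ c) with hY
  set Ys := yop g⁻¹ c (frow f₂ c₀) with hYs
  have hadj : ∀ u v, f₁ (Ys u) v = f₁ u (Y v) := fun u v => by
    rw [hYs, yop_apply, ← tf_ctr C.h₁ C.h₂, ← C.iso hg, mv_mv_inv, hY, yop_apply, ← tf_ten_left C]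
  set X := Y.comp Ys with hX
  set XM := mt C.h₁ z X with hXM
  have hXMeq : XM = mt C.h₁ z Y * dag σ (mt C.h₁ z Y) := by
    rw [hXM, hX, mt_comp C.h₁ hz, mt_adjoint C.h₁ hz hadj]
  rw [← hXMeq]
  by_contra hns
  set τ := XM 0 0 + XM 1 1 with hτ
  set ν := XM.det with hνd
  have hdd : dag σ XM = XM := by
    rw [hXMeq, dag_mul]
    congr 1
    ext i j
    rw [dag_apply, dag_apply, C.h₁.involutive]
  have hherm : ∀ i j, σ (XM i j) = XM j i := fun i j => by
    have := congrFun (congrFun hdd j) i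
    rwa [dag_apply] at this
  have hστ : σ τ = τ := by rw [hτ, map_add, hherm, hherm]
  have hσν : σ ν = ν := by
    rw [hνd, Matrix.det_fin_two, map_sub, map_mul, map_mul, hherm, hherm, hherm, hherm]
    ring
  have hds : (mt C.h₁ z Ys).det ≠ 0 := by
    rw [mt_adjoint C.h₁ hz hadj, dag, Matrix.det_transpose, show (mt C.h₁ z Y).map σ =
      (σ : F →+* F).mapMatrix (mt C.h₁ z Y) from rfl, ← RingHom.map_det]
    exact (map_ne_zero_iff _ σ.injective).2 hdet
  have hν0 : ν ≠ 0 := by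
    rw [hνd, hXM, hX, mt_comp C.h₁ hz, Matrix.det_mul]
    exact mul_ne_zero hdet hds
  have hXX : ∀ u, X (X u) = τ • X u - ν • u := by
    have e : X.comp X = τ • X - ν • LinearMap.id := mt_inj C.h₁ hz (by
      rw [mt_comp C.h₁ hz, map_sub, map_smul, map_smul, mt_id C.h₁ hz, ← hXM, hτ, hνd, Matrix.det_fin_two]
      ext i j
      fin_cases i <;> fin_cases j <;> simp [Matrix.mul_apply, Fin.sum_univ_two] <;> ring)
    exact fun u => LinearMap.congr_fun e u
  obtain ⟨s, hs0, hs⟩ := exists_anti C.h₁.ne_refl C.h₁.involutive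
  obtain ⟨ν', hν', hν'0, hν'1⟩ := exists_fixed_ne hq
  obtain ⟨a₂, a₄, b₁, b₃, b₅, ha₂, ha₄, hb₁, hb₃, hb₅, hne, hS, hm⟩ :=
    exists_word hστ hσν hν0 hs0 hs hν' hν'0 hν'1
  set st : (Fin 2 → F) → (Fin 2 → F) → (Fin 2 × β → F) := fun p q => mv g (ten p c₀) + ten q c with hst
  have he : ∀ a p q, mv (uT₂ C c hiso a) (st p q) = st p (q + a • Y p) := fun a p q => by
    rw [mv_uT₂, hst]
    simp only
    rw [map_add, ctr_ten, frow_dot C.h₂, hiso, zero_smul, add_zero, hY, yop_apply, ten_add_left, ten_smul_left]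
    abel
  have hh : ∀ b p q, mv (g * uT₂ C c₀ h₀ b * g⁻¹) (st p q) = st (p + b • Ys q) q := fun b p q => by
    rw [mv_mul, mv_mul, mv_uT₂, hst, hYs, yop_apply]
    simp only [mv_add, mv_smul, mv_inv_mv, mv_mv_inv, map_add, ctr_ten, frow_dot C.h₂, h₀, zero_smul, zero_add,
      ten_add_left, ten_smul_left]
    abel
  set w := g * uT₂ C c₀ h₀ b₅ * g⁻¹ * uT₂ C c hiso a₄ * (g * uT₂ C c₀ h₀ b₃ * g⁻¹) * uT₂ C c hiso a₂ *
    (g * uT₂ C c₀ h₀ b₁ * g⁻¹) with hw
  have hwM : w ∈ M :=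
    have hM : ∀ {b : F}, σ b = -b → g * uT₂ C c₀ h₀ b * g⁻¹ ∈ M := fun hb =>
      M.mul_mem (M.mul_mem hg (uT₂_mem C c₀ h₀ hb)) (M.inv_mem hg)
    M.mul_mem (M.mul_mem (M.mul_mem (M.mul_mem (hM hb₅) (uT₂_mem C c hiso ha₄)) (hM hb₃))
      (uT₂_mem C c hiso ha₂)) (hM hb₁)
  set k := a₂ * b₁ + a₄ * (b₁ + b₃) with hk
  set l := a₂ * a₄ * b₁ * b₃ with hl
  set μ := 1 - l * ν with hμ
  set κ := k + l * τ with hκ
  have hκ0 : κ ≠ 0 := fun h => hne (by rw [hκ, hk, hl] at h; linear_combination hm - b₅ * h)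
  have hwline : ∀ u, mv w (ten u c) = ten (μ • u + κ • X u) c := fun u => by
    have h0 : ten u c = st 0 u := by rw [hst]; simp only; rw [ten_zero_left, mv_zero, zero_add]
    rw [h0, hw, mv_mul, mv_mul, mv_mul, mv_mul, hh, he, hh, he, hh]
    have hXv : ∀ v, Y (Ys v) = X v := fun v => rfl
    set p3 := 0 + b₁ • Ys u + b₃ • Ys (u + a₂ • Y (0 + b₁ • Ys u)) with hp3
    have e4 : u + a₂ • Y (0 + b₁ • Ys u) + a₄ • Y p3 = μ • u + κ • X u := by
      simp only [hp3, map_add, map_smul, map_zero, hXv, smul_add, zero_add, hXX]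
      rw [hμ, hκ, hk, hl]
      module
    have e5 : p3 + b₅ • Ys (u + a₂ • Y (0 + b₁ • Ys u) + a₄ • Y p3) = 0 := by
      rw [e4, hp3]
      simp only [map_add, map_smul, map_zero, hXv, smul_add, zero_add]
      rw [hμ, hκ, hk, hl]
      linear_combination (norm := module) hS • Ys u + hm • Ys (X u)
    rw [e5, e4, hst]
    simp only
    rw [ten_zero_left, mv_zero, zero_add]
  have hmap : (line (Fin 2) c).map (mvLin w) = line (Fin 2) c := by
    refine Submodule.eq_of_le_of_finrank_le (fun x hx => ?_) (by rw [TensorMax.finrank_map_mv])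
    obtain ⟨y, hy, rfl⟩ := mem_map_mv.1 hx
    obtain ⟨u, rfl⟩ := mem_line.1 hy
    rw [hwline]
    exact ten_mem_line _ _
  obtain ⟨A, B, hAB⟩ := mv_kron_ten (kron_of_line hb C hC hfull hwM hc hiso hc hiso hmap)
  obtain ⟨z₀, d, Fr⟩ := exists_frame C.h₂ hb hc hiso
  -- contractions of the image of the line
  have hd : ∀ u, μ • u + κ • X u = f₂ (mv B c) d • mv A u := fun u => by
    have e := congrArg (ctr (frow f₂ d)) (hwline u)
    rw [hAB, ctr_ten, ctr_ten, frow_dot C.h₂, frow_dot C.h₂, Fr.cd, one_smul] at e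
    exact e.symm
  have hz0 : f₂ (mv B c) z₀ = 0 := by
    have e := congrArg (ctr (frow f₂ z₀)) (hwline (Pi.single 0 1))
    rw [hAB, ctr_ten, ctr_ten, frow_dot C.h₂, frow_dot C.h₂, Fr.cz, zero_smul, smul_eq_zero] at e
    exact e.resolve_right fun h => by
      have := mv_inj A (h.trans (mv_zero A).symm)
      simpa using congrFun this 0
  -- vectors fixed by the word
  have hfix : ∀ u, u = f₂ (mv B z₀) z₀ • mv A u := by
    intro u
    obtain ⟨u', hu'⟩ := LinearMap.surjective_of_injective (injective_of_det C.h₁ hz hds)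
      (-ctr (frow f₂ c₀) (mv g⁻¹ (ten u z₀)))
    set x := ten u z₀ + ten u' c with hx
    have hx1 : ctr (frow f₂ c) x = 0 := by
      rw [hx, map_add, ctr_ten, ctr_ten, frow_dot C.h₂, frow_dot C.h₂, Fr.zc, hiso, zero_smul, zero_smul,
        add_zero]
    have hx2 : ctr (frow f₂ c₀) (mv g⁻¹ x) = 0 := by
      rw [hx, mv_add, map_add, ← yop_apply g⁻¹ c (frow f₂ c₀) u', ← hYs, hu', add_neg_cancel]
    have he' : ∀ a, mv (uT₂ C c hiso a) x = x := fun a => by
      rw [mv_uT₂, hx1, ten_zero_left, smul_zero, add_zero]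
    have hh' : ∀ b, mv (g * uT₂ C c₀ h₀ b * g⁻¹) x = x := fun b => by
      rw [mv_mul, mv_mul, mv_uT₂, hx2, ten_zero_left, smul_zero, add_zero, mv_mv_inv]
    have e : mv w x = x := by rw [hw, mv_mul, mv_mul, mv_mul, mv_mul, hh', he', hh', he', hh']
    have e' := congrArg (ctr (frow f₂ z₀)) e
    rw [hx, mv_add, hAB, hAB, map_add, map_add, ctr_ten, ctr_ten, ctr_ten, ctr_ten, frow_dot C.h₂,
      frow_dot C.h₂, frow_dot C.h₂, frow_dot C.h₂, hz0, Fr.zz, Fr.cz, zero_smul, zero_smul, add_zero,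
      add_zero, one_smul] at e'
    exact e'.symm
  set a := f₂ (mv B z₀) z₀ with ha
  have ha0 : a ≠ 0 := fun h => one_ne_zero (α := F) (by
    have := congrFun (hfix (Pi.single 0 1)) 0
    simpa [h] using this)
  have key : (a * κ) • X = (f₂ (mv B c) d - a * μ) • LinearMap.id := LinearMap.ext fun u => by
    rw [LinearMap.smul_apply, LinearMap.smul_apply, LinearMap.id_apply]
    linear_combination (norm := module) a • hd u - f₂ (mv B c) d • hfix u
  refine hns (Sc.of_smul (mul_ne_zero ha0 hκ0) ?_)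
  rw [hXM, ← map_smul, key, map_smul, mt_id C.h₁ hz]
  exact sc_smul_one _

/-- Some contraction of the image of a line is invertible. -/
theorem exists_inv_contraction (hb : Fintype.card β = 3) (hq : Nat.card (fixedField σ) ≠ 2)
    (C : Ctx σ f₁ f₂ M) (hC : CentreScalar σ f₂ M)
    (hfull : ∀ g ∈ preserving (Units.coeHom (Matrix (Fin 2 × β) (Fin 2 × β) F)) (tf σ f₁ f₂) ⊓
      Geo.specialLinear (Fin 2 × β) F, IsKron g → g ∈ M)
    {g : GL (Fin 2 × β) F} (hg : g ∈ M) {c₀ : β → F} (hc₀ : c₀ ≠ 0) (h₀ : f₂ c₀ c₀ = 0)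
    {z : Fin 2 → Fin 2 → F} (hz : Onb f₁ z) :
    ∃ c, c ≠ 0 ∧ f₂ c c = 0 ∧ (mt C.h₁ z (yop g c₀ (frow f₂ c))).det ≠ 0 := by
  classical
  by_contra hcon
  push Not at hcon
  obtain ⟨z₀, d, Fr⟩ := exists_frame C.h₂ hb hc₀ h₀
  set L := yfam C.h₁ z g c₀ with hL
  have hLiso : ∀ c, f₂ c c = 0 → (L (frow f₂ c)).det = 0 := fun c hc => by
    by_cases h : c = 0
    · rw [h, show frow f₂ (0 : β → F) = 0 from funext fun k => Herm.zero_right C.h₂ _, map_zero,
        Matrix.det_zero]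
    · exact hcon c h hc
  set P := L (frow f₂ c₀) with hP
  set Q := L (frow f₂ z₀) with hQ
  set R := L (frow f₂ d) with hR
  have hcomb : ∀ a b e : F,
      L (frow f₂ (a • c₀ + b • z₀ + e • d)) = σ a • P + σ b • Q + σ e • R := fun a b e => by
    rw [frow_add C.h₂, frow_add C.h₂, frow_smul C.h₂, frow_smul C.h₂, frow_smul C.h₂, map_add, map_add,
      map_smul, map_smul, map_smul]
  have hall : ∀ φ, (L φ).det = 0 := by
    obtain ⟨s, hs0, hs⟩ := exists_anti C.h₂.ne_refl C.h₂.involutive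
    obtain ⟨e₀, he₀⟩ := exists_trace C.h₂.ne_refl C.h₂.involutive (-1) (by rw [map_neg, map_one])
    obtain ⟨η, hηn, hη1⟩ := exists_norm_one_ne C.h₂
    have hiso : ∀ a b e : F, a * σ e + e * σ a + b * σ b = 0 → f₂ (a • c₀ + b • z₀ + e • d)
        (a • c₀ + b • z₀ + e • d) = 0 := fun a b e h => by
      simp only [C.h₂.add_left, Herm.add_right C.h₂, C.h₂.smul_left, Herm.smul_right C.h₂, Fr.cc, Fr.zz,
        Fr.dd, Fr.cd, Fr.dc, Fr.cz, Fr.zc, Fr.zd, Fr.dz]
      linear_combination h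
    have hP0 : P.det = 0 := hLiso _ Fr.cc
    have hR0 : R.det = 0 := hLiso _ Fr.dd
    set PQ := P 0 0 * Q 1 1 + P 1 1 * Q 0 0 - P 0 1 * Q 1 0 - P 1 0 * Q 0 1
    set PR := P 0 0 * R 1 1 + P 1 1 * R 0 0 - P 0 1 * R 1 0 - P 1 0 * R 0 1
    set QR := Q 0 0 * R 1 1 + Q 1 1 * R 0 0 - Q 0 1 * R 1 0 - Q 1 0 * R 0 1
    have ev : ∀ a b e : F, a * σ e + e * σ a + b * σ b = 0 →
        σ b * σ b * Q.det + σ a * σ b * PQ + σ a * σ e * PR + σ b * σ e * QR = 0 := fun a b e h => by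
      have := hLiso _ (hiso a b e h)
      rw [hcomb, det_comb, hP0, hR0] at this
      linear_combination this
    have hPR : PR = 0 := by
      have := ev 1 0 s (by rw [map_one, map_zero, hs]; ring)
      rw [map_one, map_zero, hs] at this
      refine (mul_eq_zero.1 (show s * PR = 0 by linear_combination -this)).resolve_left hs0
    have g1 := ev 1 1 e₀ (by rw [map_one]; linear_combination he₀)
    have g2 := ev 1 1 (e₀ + s) (by rw [map_one, map_add, hs]; linear_combination he₀)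
    have g3 := ev 1 η e₀ (by rw [map_one]; linear_combination he₀ + hηn)
    rw [map_one, hPR] at g1 g3
    rw [map_one, hPR, map_add, hs] at g2
    have hQR : QR = 0 := (mul_eq_zero.1 (show s * QR = 0 by linear_combination g1 - g2)).resolve_left hs0
    have hση : σ η ≠ 0 := fun h => by rw [h, mul_zero] at hηn; exact zero_ne_one hηn
    have hσ1 : σ η - 1 ≠ 0 := fun h => hη1 (σ.injective (by rw [map_one]; linear_combination h))
    have hQ0 : Q.det = 0 := (mul_eq_zero.1 (show (σ η * (σ η - 1)) * Q.det = 0 by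
      linear_combination g3 - σ η * g1)).resolve_left (mul_ne_zero hση hσ1)
    have hPQ : PQ = 0 := by
      rw [hQR, hQ0] at g1
      linear_combination g1
    intro φ
    obtain ⟨c, rfl⟩ := frow_surj C.h₂ φ
    rw [Fr.expand c, hcomb, det_comb, hP0, hQ0, hR0]
    show _ + _ * PQ + _ * PR + _ * QR = 0
    rw [hPQ, hPR, hQR]
    ring
  have hker : ∀ x : Fin 2 → F, x ≠ 0 → ∃ φ, L φ *ᵥ x ≠ 0 := by
    intro x hx
    by_contra h
    push Not at h
    set u := ∑ i, x i • z i with hu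
    have hco : (fun i => f₁ u (z i)) = x := funext fun i => by
      rw [hu, Herm.sum_left C.h₁, Finset.sum_eq_single i]
      · rw [C.h₁.smul_left, hz.orth, if_pos rfl, mul_one]
      · intro j _ hj
        rw [C.h₁.smul_left, hz.orth, if_neg hj, mul_zero]
      · simp
    have h0 : mv g (ten u c₀) = 0 := eq_zero_of_ctr fun φ => by
      rw [← yop_apply]
      refine coords_zero hz ?_
      rw [← mt_mulVec C.h₁ hz, hco]
      exact h φ
    have hu0 : u = 0 := by
      by_contra hu0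
      exact ten_ne_zero hu0 hc₀ (mv_inj g (h0.trans (mv_zero g).symm))
    refine hx (hco.symm.trans ?_)
    rw [hu0]
    exact funext fun i => Herm.zero_left C.h₁ _
  obtain ⟨p, -, hp⟩ := common_image L hall hker
  set e := ∑ i, p i • z i with hedef
  have himg : ∀ u, ∃ w, mv g (ten u c₀) = ten e w := by
    intro u
    have hy : ∀ φ, ∃ a : F, ctr φ (mv g (ten u c₀)) = a • e := fun φ => by
      obtain ⟨a, ha⟩ := hp φ fun i => f₁ u (z i)
      refine ⟨a, ?_⟩
      rw [← yop_apply, hz.expand (yop g c₀ φ u), hedef, Finset.smul_sum]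
      refine Finset.sum_congr rfl fun i _ => ?_
      rw [smul_smul]
      congr 1
      exact (congrFun ((mt_mulVec C.h₁ hz (yop g c₀ φ) u).symm.trans ha) i)
    obtain ⟨a, ha⟩ := hy (frow f₂ d)
    obtain ⟨b, hb'⟩ := hy (frow f₂ z₀)
    obtain ⟨r, hr⟩ := hy (frow f₂ c₀)
    refine ⟨a • c₀ + b • z₀ + r • d, ?_⟩
    conv_lhs => rw [Fr.expand_ten C.h₂ (mv g (ten u c₀)), ha, hb', hr]
    rw [ten_add_right, ten_add_right, ten_smul_right, ten_smul_right, ten_smul_right, ten_smul_left,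
      ten_smul_left, ten_smul_left]
  have himg0 : ∀ u w, u ≠ 0 → mv g (ten u c₀) = ten e w → w ≠ 0 ∧ e ≠ 0 := fun u w hu hw => by
    constructor <;> intro h <;> refine ten_ne_zero hu hc₀ (mv_inj g (hw.trans ?_)) <;>
      rw [h, mv_zero] <;> simp [ten_zero_left, ten_zero_right]
  have hzne : ∀ i, z i ≠ 0 := fun i h => by
    have := hz.orth i i
    rw [if_pos rfl, h, Herm.zero_left C.h₁] at this
    exact zero_ne_one this
  obtain ⟨w₀, hw₀⟩ := himg (z 0)
  have he0 : e ≠ 0 := (himg0 _ _ (hzne 0) hw₀).2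
  by_cases hee : f₁ e e = 0
  swap
  · obtain ⟨w₁, hw₁⟩ := himg (z 1)
    have hww : ∀ u v wu wv, mv g (ten u c₀) = ten e wu → mv g (ten v c₀) = ten e wv → f₂ wu wv = 0 := by
      intro u v wu wv hu hv
      have := C.iso hg (ten u c₀) (ten v c₀)
      rw [hu, hv, tf_ten C.h₁ C.h₂, tf_ten C.h₁ C.h₂, h₀, mul_zero] at this
      exact (mul_eq_zero.1 this).resolve_left hee
    obtain ⟨a, ha⟩ := collinear C.h₂ hb (himg0 _ _ (hzne 0) hw₀).1 (hww _ _ _ _ hw₀ hw₀)
      (hww _ _ _ _ hw₁ hw₁) (hww _ _ _ _ hw₁ hw₀)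
    have h10 : z 1 = a • z 0 := by
      refine rho_injective hc₀ (mv_inj g ?_)
      rw [rho_apply, rho_apply, ten_smul_left, mv_smul, hw₁, hw₀, ha, ten_smul_right]
    have := hz.orth 1 1
    rw [if_pos rfl] at this
    conv_lhs at this => rw [h10]
    rw [C.h₁.smul_left, show f₁ (z 0) (a • z 0) = f₁ (z 0) (z 1) by rw [← h10], hz.orth, if_neg (by decide),
      mul_zero] at this
    exact zero_ne_one this
  obtain ⟨t, ht0, ht⟩ := exists_anti C.h₁.ne_refl C.h₁.involutive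
  set A := htv C.h₁ e hee t
  have hA : A ∈ preserving (Units.coeHom (Matrix (Fin 2) (Fin 2) F)) f₁ ⊓ Geo.specialLinear (Fin 2) F :=
    ⟨htv_mem C.h₁ e hee ht, htv_mem_specialLinear C.h₁ e hee t⟩
  set g' := g⁻¹ * kr A 1 * g with hg'
  have hg'M : g' ∈ M := M.mul_mem (M.mul_mem (M.inv_mem hg) (C.memU A hA)) hg
  have hfix' : ∀ u, mv g' (ten u c₀) = ten u c₀ := fun u => by
    obtain ⟨w, hw⟩ := himg u
    rw [hg', mv_mul, mv_mul, hw, mv_kr_ten, mv_one, mv_htv, hee, mul_zero, zero_smul, add_zero, ← hw,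
      mv_inv_mv]
  obtain ⟨A', B', hAB⟩ := mv_kron_ten (kron_of_line hb C hC hfull hg'M hc₀ h₀ hc₀ h₀ (by
    refine Submodule.eq_of_le_of_finrank_le (fun x hx => ?_) (by rw [TensorMax.finrank_map_mv])
    obtain ⟨y, hy, rfl⟩ := mem_map_mv.1 hx
    obtain ⟨u, rfl⟩ := mem_line.1 hy
    rw [hfix']
    exact ten_mem_line _ _))
  set a := f₂ (mv B' c₀) d with hadef
  have hA' : ∀ u, u = a • mv A' u := fun u => by
    have e1 := congrArg (ctr (frow f₂ d)) (hfix' u)
    rw [hAB, ctr_ten, ctr_ten, frow_dot C.h₂, frow_dot C.h₂, Fr.cd, one_smul] at e1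
    exact e1.symm
  have ha0 : a ≠ 0 := fun h => one_ne_zero (α := F) (by
    have := congrFun (hA' (Pi.single 0 1)) 0
    simpa [h] using this)
  set Γ : (β → F) →ₗ[F] β → F := a⁻¹ • mvLin B' - LinearMap.id with hΓ
  have hΓ' : ∀ u w, mv g' (ten u w) - ten u w = ten u (Γ w) := fun u w => by
    rw [hAB, hΓ, LinearMap.sub_apply, LinearMap.smul_apply, LinearMap.id_apply, Matrix.toLin'_apply]
    show _ = ten u (a⁻¹ • mv B' w - w)
    conv_rhs => rw [show ∀ v v' : β → F, ten u (v - v') = ten u v - ten u v' from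
      fun v v' => map_sub (lam u) v v', ten_smul_right]
    congr 1
    conv_rhs => rw [hA' u, ten_smul_left, smul_smul, inv_mul_cancel₀ ha0, one_smul]
  have hD : ∀ y, ∃ w, mv (kr A (1 : GL β F)) y - y = ten e w := by
    intro y
    let D : (Fin 2 × β → F) →ₗ[F] Fin 2 × β → F := t • (lam e).comp (ctrL (frow f₁ e))
    have e1 : mvLin (kr A (1 : GL β F)) - LinearMap.id = D := ext_ten fun u w => by
      rw [LinearMap.sub_apply, LinearMap.id_apply, Matrix.toLin'_apply]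
      show mv _ _ - _ = _
      rw [mv_kr_ten, mv_one, mv_htv, ten_add_left, add_sub_cancel_left, ten_smul_left]
      simp only [D, LinearMap.smul_apply, LinearMap.comp_apply, ctrL_ten, frow_dot C.h₁, lam_apply,
        ten_smul_right, smul_smul]
    have := LinearMap.congr_fun e1 y
    rw [LinearMap.sub_apply, LinearMap.id_apply, Matrix.toLin'_apply] at this
    exact ⟨t • ctrL (frow f₁ e) y, by
      rw [show mv (kr A 1) y - y = D y from this]
      simp only [D, LinearMap.smul_apply, LinearMap.comp_apply, lam_apply, ten_smul_right]⟩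
  have hgΓ : ∀ u w, ∃ w', mv g (ten u (Γ w)) = ten e w' := fun u w => by
    rw [← hΓ', mv_sub, hg', mv_mul, mv_mul, mv_mv_inv]
    exact hD _
  have hΓiso : ∀ w w', f₂ (Γ w) (Γ w') = 0 := fun w w' => by
    obtain ⟨x, hx⟩ := hgΓ (z 0) w
    obtain ⟨x', hx'⟩ := hgΓ (z 0) w'
    have := C.iso hg (ten (z 0) (Γ w)) (ten (z 0) (Γ w'))
    rw [hx, hx', tf_ten C.h₁ C.h₂, tf_ten C.h₁ C.h₂, hee, zero_mul, hz.orth, if_pos rfl, one_mul] at this
    exact this.symm
  obtain ⟨d₁, -, hed, -⟩ := exists_partner C.h₁ (nondeg_top C.h₁) Submodule.mem_top he0 hee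
  have hde : f₁ d₁ e = 1 := by rw [C.h₁.herm, hed, map_one]
  -- every tensor with e comes from the image of Γ
  have hrange : ∀ w, mv g⁻¹ (ten e w) = mv g' (mv g⁻¹ (ten (t⁻¹ • d₁) w)) - mv g⁻¹ (ten (t⁻¹ • d₁) w) := by
    intro w
    have e1 : mv (kr A 1) (ten (t⁻¹ • d₁) w) - ten (t⁻¹ • d₁) w = ten e w := by
      rw [mv_kr_ten, mv_one, mv_htv, ten_add_left, add_sub_cancel_left, C.h₁.smul_left, hde, mul_one,
        mul_inv_cancel₀ ht0, one_smul]
    rw [hg', mv_mul, mv_mul, mv_mv_inv, ← mv_sub, e1]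
  obtain ⟨w₁, hw₁⟩ : ∃ w₁, Γ w₁ ≠ 0 := by
    by_contra h
    push Not at h
    have hid : mvLin g' = LinearMap.id := ext_ten fun u w => by
      rw [Matrix.toLin'_apply, LinearMap.id_apply]
      have := hΓ' u w
      rw [h, ten_zero_right, sub_eq_zero] at this
      exact this
    have e1 := hrange c₀
    have e2 : ∀ y, mv g' y = y := fun y => by simpa using LinearMap.congr_fun hid y
    rw [e2, sub_self] at e1
    exact ten_ne_zero he0 hc₀ (mv_inj g⁻¹ (e1.trans (mv_zero g⁻¹).symm))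
  have hdisp : ∀ y, mv g' y - y ∈ line (Fin 2) (Γ w₁) := fun y => by
    rw [eq_sum_ten y]
    let G : (Fin 2 × β → F) →ₗ[F] Fin 2 × β → F := mvLin g' - LinearMap.id
    have hlin : ∀ x, mv g' x - x = G x := fun x => by
      simp only [G, LinearMap.sub_apply, LinearMap.id_apply, Matrix.toLin'_apply]
    rw [hlin, map_sum]
    refine Submodule.sum_mem _ fun k _ => ?_
    rw [← hlin, hΓ']
    obtain ⟨r, hr⟩ := collinear C.h₂ hb hw₁ (hΓiso _ _) (hΓiso _ _) (hΓiso (Pi.single k 1) w₁)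
    rw [hr, ten_smul_right]
    exact Submodule.smul_mem _ _ (ten_mem_line _ _)
  have hinj : Function.Injective (((mvLin g⁻¹).comp (lam e)).codRestrict (line (Fin 2) (Γ w₁)) fun w => by
      rw [LinearMap.comp_apply, Matrix.toLin'_apply, lam_apply]
      show mv g⁻¹ (ten e w) ∈ _
      rw [hrange]
      exact hdisp _) := by
    rw [← LinearMap.ker_eq_bot, LinearMap.ker_eq_bot']
    intro w hw
    by_contra hw0
    have := congrArg Subtype.val hw
    rw [LinearMap.codRestrict_apply, LinearMap.comp_apply, Matrix.toLin'_apply, lam_apply] at this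
    exact ten_ne_zero he0 hw0 (mv_inj g⁻¹ (this.trans (mv_zero g⁻¹).symm))
  have := LinearMap.finrank_le_finrank_of_injective hinj
  rw [finrank_line hw₁, Module.finrank_fintype_fun_eq_card, hb, Fintype.card_fin] at this
  omega

/-- When centres are scalar every member is a Kronecker product. -/
theorem all_kron (hb : Fintype.card β = 3) (hq : Nat.card (fixedField σ) ≠ 2) (C : Ctx σ f₁ f₂ M)
    (hC : CentreScalar σ f₂ M)
    (hfull : ∀ g ∈ preserving (Units.coeHom (Matrix (Fin 2 × β) (Fin 2 × β) F)) (tf σ f₁ f₂) ⊓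
      Geo.specialLinear (Fin 2 × β) F, IsKron g → g ∈ M)
    {g : GL (Fin 2 × β) F} (hg : g ∈ M) : IsKron g := by
  classical
  obtain ⟨z, hz⟩ := exists_onb C.h₁
  obtain ⟨c₀, -, hc₀, h₀⟩ := exists_isotropic C.h₂ (nondeg_top C.h₂)
    (by rw [finrank_top, Module.finrank_fintype_fun_eq_card]; omega)
  obtain ⟨c, hc, hiso, hdet⟩ := exists_inv_contraction hb hq C hC hfull hg hc₀ h₀ hz
  obtain ⟨z₀, d, Fr⟩ := exists_frame C.h₂ hb hc hiso
  set L := yfam C.h₁ z g c₀ with hL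
  set MY := L (frow f₂ c) with hMY
  set MA := L (frow f₂ z₀) with hMA
  set MT := L (frow f₂ d) with hMT
  have hdet' : IsUnit MY.det := isUnit_iff_ne_zero.2 hdet
  set I := MY⁻¹ with hI
  have hI1 : MY * I = 1 := Matrix.mul_nonsing_inv _ hdet'
  have hI2 : I * MY = 1 := Matrix.nonsing_inv_mul _ hdet'
  set A := MA * I with hA
  set T := MT * I with hT
  have hAY : A * MY = MA := by rw [hA, mul_assoc, hI2, mul_one]
  have hTY : T * MY = MT := by rw [hT, mul_assoc, hI2, mul_one]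
  have hiso' : dag σ MY * MT + dag σ MA * MA + dag σ MT * MY = 0 := by
    ext i j
    rw [Matrix.add_apply, Matrix.add_apply, Matrix.zero_apply, hMY, hMA, hMT, hL]
    show (dag σ (mt C.h₁ z _) * mt C.h₁ z _) i j + (dag σ (mt C.h₁ z _) * mt C.h₁ z _) i j +
      (dag σ (mt C.h₁ z _) * mt C.h₁ z _) i j = 0
    rw [dag_mt_mul C.h₁ hz, dag_mt_mul C.h₁ hz, dag_mt_mul C.h₁ hz, yop_apply, yop_apply, yop_apply,
      yop_apply, yop_apply, yop_apply]
    have e : tf σ f₁ f₂ (mv g (ten (z j) c₀)) (mv g (ten (z i) c₀)) = 0 := by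
      rw [C.iso hg, tf_ten C.h₁ C.h₂, h₀, mul_zero]
    rw [Fr.expand_ten C.h₂ (mv g (ten (z i) c₀)), Herm.add_right C.hf, Herm.add_right C.hf,
      tf_ctr C.h₁ C.h₂, tf_ctr C.h₁ C.h₂, tf_ctr C.h₁ C.h₂] at e
    linear_combination e
  have hT0 : T + dag σ T + dag σ A * A = 0 := by
    have e := congrArg (fun X => dag σ I * X * I) hiso'
    simp only [Matrix.mul_add, Matrix.add_mul, Matrix.mul_zero, Matrix.zero_mul] at e
    have hd1 : dag σ I * dag σ MY = 1 := by rw [← dag_mul, hI1, dag_one]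
    have t1 : dag σ I * (dag σ MY * MT) * I = T := by rw [← mul_assoc, hd1, one_mul]
    have t2 : dag σ I * (dag σ MA * MA) * I = dag σ A * A := by rw [hA, dag_mul, mul_assoc, mul_assoc, mul_assoc]
    have t3 : dag σ I * (dag σ MT * MY) * I = dag σ T := by
      rw [hT, dag_mul, mul_assoc, mul_assoc, hI1, mul_one]
    rw [t1, t2, t3] at e
    rw [← e]; abel
  have hκ := word_scalar hb hq C hC hfull hg h₀ hc hiso hz hdet
  have hX : ∀ b e : F, e + σ e + b * σ b = 0 → (T + σ b • A + σ e • 1).det ≠ 0 →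
      Sc ((T + σ b • A + σ e • 1) * dag σ (T + σ b • A + σ e • 1)) := by
    intro b e he hd
    set X := T + σ b • A + σ e • (1 : Matrix (Fin 2) (Fin 2) F) with hXdef
    set c' := d + b • z₀ + e • c with hc'
    have hc'iso : f₂ c' c' = 0 := by
      simp only [hc', C.h₂.add_left, Herm.add_right C.h₂, C.h₂.smul_left, Herm.smul_right C.h₂, Fr.cc, Fr.zz,
        Fr.dd, Fr.cd, Fr.dc, Fr.cz, Fr.zc, Fr.zd, Fr.dz]
      linear_combination he
    have hc'0 : c' ≠ 0 := fun h => zero_ne_one (α := F) (by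
      have e1 : f₂ c' c = 1 := by
        simp only [hc', C.h₂.add_left, C.h₂.smul_left, Fr.dc, Fr.zc, Fr.cc]
        ring
      rwa [h, Herm.zero_left C.h₂] at e1)
    have hval : mt C.h₁ z (yop g c₀ (frow f₂ c')) = X * MY := by
      show L (frow f₂ c') = _
      rw [hc', frow_add C.h₂, frow_add C.h₂, frow_smul C.h₂, frow_smul C.h₂, map_add, map_add, map_smul,
        map_smul, hXdef, add_mul, add_mul, smul_mul_assoc, smul_mul_assoc, hAY, hTY, one_mul]
    have h' := word_scalar hb hq C hC hfull hg h₀ hc'0 hc'iso hz (by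
      rw [hval, Matrix.det_mul]; exact mul_ne_zero hd hdet)
    obtain ⟨κ, hκ'⟩ := sc_iff.1 hκ
    change MY * dag σ MY = κ • 1 at hκ'
    rw [hval, dag_mul, show X * MY * (dag σ MY * dag σ X) = X * (MY * dag σ MY) * dag σ X by
      simp only [mul_assoc], hκ', mul_smul_comm, mul_one, smul_mul_assoc] at h'
    refine Sc.of_smul (fun h0 => hdet ?_) h'
    have e2 := congrArg Matrix.det hκ'
    rw [h0, zero_smul, Matrix.det_zero, Matrix.det_mul, mul_eq_zero] at e2
    refine e2.elim id fun h1 => ?_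
    rw [dag, Matrix.det_transpose, show MY.map σ = (σ : F →+* F).mapMatrix MY from rfl, ← RingHom.map_det] at h1
    exact (map_eq_zero_iff _ σ.injective).1 h1
  obtain ⟨hAs, hTs⟩ := scalar_of_sum C.h₁.ne_refl C.h₁.involutive hq hT0 hX
  obtain ⟨a, ha⟩ := sc_iff.1 hAs
  obtain ⟨τ, hτ⟩ := sc_iff.1 hTs
  rw [ha, smul_mul_assoc, one_mul] at hAY
  rw [hτ, smul_mul_assoc, one_mul] at hTY
  have hzop : yop g c₀ (frow f₂ z₀) = a • yop g c₀ (frow f₂ c) := mt_inj C.h₁ hz (by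
    rw [map_smul]; exact hAY.symm)
  have hdop : yop g c₀ (frow f₂ d) = τ • yop g c₀ (frow f₂ c) := mt_inj C.h₁ hz (by
    rw [map_smul]; exact hTY.symm)
  set c₁ := τ • c + a • z₀ + d with hc₁
  have hgu : ∀ u, mv g (ten u c₀) = ten (yop g c₀ (frow f₂ c) u) c₁ := fun u => by
    have e1 := Fr.expand_ten C.h₂ (mv g (ten u c₀))
    rw [← yop_apply, ← yop_apply, ← yop_apply, hzop, hdop, LinearMap.smul_apply, LinearMap.smul_apply,
      ten_smul_left, ten_smul_left] at e1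
    rw [e1, hc₁, ten_add_right, ten_add_right, ten_smul_right, ten_smul_right]
  have hc₁0 : c₁ ≠ 0 := fun h => ten_ne_zero (show (Pi.single 0 1 : Fin 2 → F) ≠ 0 by simp) hc₀ (mv_inj g (by
    rw [hgu, h, ten_zero_right, mv_zero]))
  have hmap : (line (Fin 2) c₀).map (mvLin g) = line (Fin 2) c₁ := by
    refine Submodule.eq_of_le_of_finrank_le (fun x hx => ?_) (by
      rw [TensorMax.finrank_map_mv, finrank_line hc₀, finrank_line hc₁0])
    obtain ⟨y, hy, rfl⟩ := mem_map_mv.1 hx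
    obtain ⟨u, rfl⟩ := mem_line.1 hy
    rw [hgu]
    exact ten_mem_line _ _
  have hmem : ∀ u, ten u c₁ ∈ (line (Fin 2) c₀).map (mvLin g) := fun u => by rw [hmap]; exact ten_mem_line _ _
  have hc₁iso : f₂ c₁ c₁ = 0 := by
    have e := image_isotropic C hg h₀ (hmem (z 0)) (hmem (z 0))
    rwa [tf_ten C.h₁ C.h₂, hz.orth, if_pos rfl, one_mul] at e
  exact kron_of_line hb C hC hfull hg hc₀ h₀ hc₁0 hc₁iso hmap

/-- The Kronecker products form a maximal subgroup for factors of dimensions two and three. -/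
theorem maximal_std [Fintype F] (h₁ : Geo.IsUnitaryForm σ f₁) (h₂ : Geo.IsUnitaryForm σ f₂)
    (hb : Fintype.card β = 3) (hq : Nat.card (fixedField σ) ≠ 2) {K : Subgroup (GL (Fin 2 × β) F)}
    (hK : ∀ g, g ∈ K ↔ IsKron g) :
    Geo.IsMaximalIn
      (preserving (Units.coeHom (Matrix (Fin 2 × β) (Fin 2 × β) F)) (tf σ f₁ f₂) ⊓
        Geo.specialLinear (Fin 2 × β) F)
      (K ⊓ (preserving (Units.coeHom (Matrix (Fin 2 × β) (Fin 2 × β) F)) (tf σ f₁ f₂) ⊓
        Geo.specialLinear (Fin 2 × β) F)) := by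
  refine ⟨lt_of_le_of_ne inf_le_right fun heq => ?_, fun M hM1 hM2 => ?_⟩
  · obtain ⟨g, hg, hnk⟩ := exists_not_kron h₁ h₂ (by simp) (by omega)
    rw [← heq] at hg
    exact hnk ((hK g).1 hg.1)
  · have hone1 : (1 : GL (Fin 2) F) ∈
        preserving (Units.coeHom (Matrix (Fin 2) (Fin 2) F)) f₁ ⊓ Geo.specialLinear (Fin 2) F :=
      Subgroup.one_mem _
    have hone2 : (1 : GL β F) ∈ preserving (Units.coeHom (Matrix β β F)) f₂ ⊓ Geo.specialLinear β F :=
      Subgroup.one_mem _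
    have C : Ctx σ f₁ f₂ M :=
      ⟨h₁, h₂, hM2, fun A hA => hM1 ⟨(hK _).2 (isKron_kr A 1), kr_mem h₁ h₂ hA hone2⟩,
        fun B hB => hM1 ⟨(hK _).2 (isKron_kr 1 B), kr_mem h₁ h₂ hone1 hB⟩⟩
    have hfull : ∀ g ∈ preserving (Units.coeHom (Matrix (Fin 2 × β) (Fin 2 × β) F)) (tf σ f₁ f₂) ⊓
        Geo.specialLinear (Fin 2 × β) F, IsKron g → g ∈ M := fun g hg hk => hM1 ⟨(hK g).2 hk, hg⟩
    by_cases hC : CentreScalar σ f₂ M
    · exact Or.inl (le_antisymm (fun g hg => ⟨(hK g).2 (all_kron hb hq C hC hfull hg), hM2 hg⟩) hM1)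
    · obtain ⟨e, c, he, hc, hee, hcc, hv⟩ := exists_pure_centre (by simp) hb.ge C (fun _ => hq) hC
      exact Or.inr (eq_su C.hf (by rw [Fintype.card_prod, Fintype.card_fin, hb]; norm_num) hM2
        (all_centres (by simp) hb.ge (Or.inr (by simp)) C he hc hee hcc hv))

/-- The stabiliser of a unitary tensor decomposition of type two times three is maximal. -/
theorem unitary_tensor_maximal {F : Type*} [Field F] [Fintype F] (q : ℕ) (hF : Fintype.card F = q ^ 2)
    (hq : 3 ≤ q) (e : Fin 6 ≃ Fin 2 × Fin 3) (P : GL (Fin 6) F) (g₁ : (Fin 2 → F) → (Fin 2 → F) → F)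
    (g₂ : (Fin 3 → F) → (Fin 3 → F) → F) (hf₁ : Geo.IsUnitaryFormPow q g₁) (hf₂ : Geo.IsUnitaryFormPow q g₂)
    (hT : Geo.IsTensorFormStructure (fun x : F => x ^ q) (hermForm 6 F q) g₁ g₂ e P) :
    Geo.IsMaximalIn (GU 6 F q ⊓ Geo.specialLinear (Fin 6) F)
      (Geo.tensorProductSubgroup 2 3 e P ⊓ (GU 6 F q ⊓ Geo.specialLinear (Fin 6) F)) := by
  obtain ⟨σ, hσ, hq2, hstd⟩ := exists_unitary_std (F := F) hF (show 0 < 6 by omega)
  have H₁ := unitary_of_pow hstd.ne_refl hstd.involutive hσ hf₁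
  have H₂ := unitary_of_pow hstd.ne_refl hstd.involutive hσ hf₂
  have hk : Nat.card (fixedField σ) ≠ 2 := by
    intro h2
    have h := card_eq_sq hstd.ne_refl hstd.involutive
    rw [Nat.card_eq_fintype_card, hF, h2] at h
    have : q = 2 := Nat.pow_left_injective (by norm_num : 2 ≠ 0) h
    omega
  have h := maximal_std (σ := σ) (f₁ := g₁) (f₂ := g₂) H₁ H₂ (Fintype.card_fin 3) hk
    (K := Geo.kroneckerSubgroup 2 3 F) (fun g => Iff.rfl)
  obtain ⟨c, hc, hf⟩ := hT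
  have hmap := map_preserving (σ := σ) (f₁ := g₁) (f₂ := g₂) e P (f := hermForm 6 F q) hc (fun x y => by
    show hermForm 6 F q ((P : Matrix (Fin 6) (Fin 6) F) *ᵥ _) _ = _
    rw [hf, tf, show (fun a => σ a) = fun x : F => x ^ q from funext hσ])
  have h' := isMaximalIn_map (MulAut.conj P) (isMaximalIn_map (Geo.glReindex e.symm) h)
  simp only [Subgroup.map_inf _ _ (Geo.glReindex (F := F) e.symm).toMonoidHom (Geo.glReindex e.symm).injective,
    Subgroup.map_inf _ _ (MulAut.conj P).toMonoidHom (MulAut.conj P).injective] at h'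
  rw [map_conj_specialLinear, hmap] at h'
  exact h'

end Cfsg.Agent.TensorMax.U.Three
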